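import Mathlib
import Cfsg.Agent.Lib.Helper67.PLen3
import Cfsg.Agent.Lib.Helper32.PLength
import Cfsg.Agent.Lib.Helper81.Cores
import Cfsg.Agent.Lib.Helper40.Cores

set_option autoImplicit false

/-! General `p`-length-one tools for Bender–Glauberman section 10. -/

namespace Cfsg.Agent.Lib.Helper58.BG10

open Cfsg

section plen

variable {X : Type*} [Group X] [Finite X] (p : ℕ) [Fact p.Prime]

/-- a normal chain `K ≤ L` with `K` a `p'`-group, `L/K` a `p`-group and `X/L` a `p'`-group gives
`p`-length at most one -/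
theorem pLengthLE_one_of_chain (K L : Subgroup X) [K.Normal] [L.Normal] (hKL : K ≤ L)
    (hK : (Nat.card K).Coprime p) (hL : ∃ k : ℕ, K.relIndex L = p ^ k)
    (hX : (L.index).Coprime p) : PLengthLE p 1 X := by
  have h1 : K ≤ (upperPSeries p X (0 + 1)).1 := by
    apply Cfsg.Agent.Lib.Helper67.le_upperPSeries_succ_of_even p 0 (by decide) ⊥ K bot_le bot_le
    rw [Subgroup.relIndex_bot_left]
    exact hK
  have h2 : L ≤ (upperPSeries p X (1 + 1)).1 :=
    Cfsg.Agent.Lib.Helper67.le_upperPSeries_succ_of_odd p 1 (by decide) K L hKL h1 hL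
  have h3 : (⊤ : Subgroup X) ≤ (upperPSeries p X (2 + 1)).1 := by
    apply Cfsg.Agent.Lib.Helper67.le_upperPSeries_succ_of_even p 2 (by decide) L ⊤ le_top h2
    rw [Subgroup.relIndex_top_right]
    exact hX
  exact top_le_iff.1 h3

/-- `p`-length at most one passes to arbitrary subgroups (injective homomorphisms) -/
theorem pLengthLE_one_of_injective {Y : Type*} [Group Y] [Finite Y] (f : Y →* X)
    (hf : Function.Injective f) (h : PLengthLE p 1 X) : PLengthLE p 1 Y := by
  have hpp : p.Prime := Fact.out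
  obtain ⟨K, L, hKn, hLn, hKL, hKc, ⟨k, hk⟩, hLi⟩ :=
    Cfsg.Agent.Lib.Helper32.exists_of_pLengthLE_one p h
  haveI : (K.comap f).Normal := hKn.comap f
  haveI : (L.comap f).Normal := hLn.comap f
  apply pLengthLE_one_of_chain p (K.comap f) (L.comap f) (Subgroup.comap_mono hKL)
  · exact Nat.Coprime.coprime_dvd_left (Subgroup.card_comap_dvd_of_injective K f hf) hKc
  · have e1 : (K.comap f).relIndex (L.comap f) = K.relIndex ((L.comap f).map f) :=
      Subgroup.relIndex_comap K f (L.comap f)
    have e2 : K.relIndex ((L.comap f).map f) ∣ K.relIndex L := by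
      haveI := hKn
      exact Cfsg.Agent.Lib.Helper67.relIndex_dvd_relIndex_of_le K _ _ (Subgroup.map_comap_le f L)
    rw [hk, ← e1] at e2
    obtain ⟨j, -, hj⟩ := (Nat.dvd_prime_pow hpp).1 e2
    exact ⟨j, hj⟩
  · have e1 : (L.comap f).index = L.relIndex f.range := Subgroup.index_comap L f
    have e2 : L.relIndex f.range ∣ L.index := by
      haveI := hLn
      exact Subgroup.relIndex_dvd_index_of_normal L f.range
    rw [e1]
    exact ((Nat.Prime.coprime_iff_not_dvd hpp).2 (fun hd => hLi (hd.trans e2))).symm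

/-- `O_{p',p}` of index prime to `p` gives `p`-length at most one -/
theorem pLengthLE_one_of_index_pPrimePCore (h : ((pPrimePCore p X).index).Coprime p) :
    PLengthLE p 1 X := by
  apply pLengthLE_one_of_chain p (pPrimeCore p X) (pPrimePCore p X)
    (Cfsg.Agent.Lib.Helper40.pPrimeCore_le_pPrimePCore p X)
    (Cfsg.Agent.Lib.Helper81.card_pPrimeCore_coprime p) ?_ h
  have := Cfsg.Agent.Lib.Helper32.relIndex_comap_mk' (pPrimeCore p X)
    (pCore p (X ⧸ pPrimeCore p X))
  have h2 : (pPrimeCore p X).relIndex (pPrimePCore p X) = Nat.card (pCore p (X ⧸ pPrimeCore p X)) :=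
    this
  rw [h2]
  exact IsPGroup.iff_card.mp (Cfsg.Agent.Lib.Helper81.isPGroup_pCore p)

/-- a normal subgroup of `p`-length at most one and index prime to `p` -/
theorem pLengthLE_one_of_normal_coprime_index (N : Subgroup X) [N.Normal]
    (hN : PLengthLE p 1 ↥N) (hi : (N.index).Coprime p) : PLengthLE p 1 X := by
  have hQ : PLengthLE p 0 (X ⧸ N) := by
    apply Cfsg.Agent.Lib.Helper67.pLengthLE_zero_of_coprime
    rw [← Subgroup.index_eq_card]
    exact hi
  exact Cfsg.Agent.Lib.Helper67.pLengthLE_add p N 1 0 hN hQ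

/-- order prime to `p` gives `p`-length at most one -/
theorem pLengthLE_one_of_coprime (h : (Nat.card X).Coprime p) : PLengthLE p 1 X := by
  apply pLengthLE_one_of_chain p ⊥ ⊥ le_rfl
  · rw [Subgroup.card_bot]; exact Nat.coprime_one_left p
  · exact ⟨0, by rw [Subgroup.relIndex_bot_left, Subgroup.card_bot, pow_zero]⟩
  · rw [Subgroup.index_bot]; exact h

end plen

section comm

variable {X : Type*} [Group X] [Finite X]

/-- a subgroup all of whose prime divisors do not divide `|X : X'|` lies in `X'` -/
theorem le_commutator_of_not_dvd_index (H : Subgroup X)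
    (h : ∀ r : ℕ, r.Prime → r ∣ Nat.card H → ¬ r ∣ (commutator X).index) : H ≤ commutator X := by
  rw [← Subgroup.relIndex_eq_one]
  by_contra hne
  obtain ⟨r, hr, hrd⟩ := Nat.exists_prime_and_dvd hne
  have h1 : (commutator X).relIndex H ∣ (commutator X).index :=
    Subgroup.relIndex_dvd_index_of_normal _ _
  have h2 : (commutator X).relIndex H ∣ Nat.card H := Subgroup.relIndex_dvd_card _ _
  exact h r hr (hrd.trans h2) (hrd.trans h1)

/-- a Sylow `r`-subgroup inside `X'` shows that `r` does not divide `|X : X'|` -/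
theorem not_dvd_index_commutator_of_sylow_le {r : ℕ} [Fact r.Prime] (S : Sylow r X)
    (h : (S : Subgroup X) ≤ commutator X) : ¬ r ∣ (commutator X).index := fun hd =>
  S.not_dvd_index (hd.trans (Subgroup.index_dvd_of_le h))

end comm

end Cfsg.Agent.Lib.Helper58.BG10
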