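import Mathlib
import Cfsg.Agent.S1404
import Cfsg.Agent.S1444
import Cfsg.Agent.S1450
import Cfsg.Agent.S1459
import Cfsg.Agent.Lib.Helper58.BG10A
import Cfsg.Agent.Lib.Helper31.Bg10a
import Cfsg.Agent.Lib.Helper41.FamilyTransfer
import Cfsg.Agent.Lib.Helper55.SylowIn
import Cfsg.Agent.Lib.Helper55.Uniq2

set_option autoImplicit false

/-! Bender–Glauberman Theorem 10.6: every proper subgroup of a minimal simple group of odd order has
`p`-length at most one.  The Hall property of `M_α` (10.2) and Lemma 10.4 enter as hypotheses. -/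

namespace Cfsg.Agent.Lib.Helper58.BG10

open Cfsg Cfsg.Agent.Lib.Helper55
open scoped commutatorElement

variable {G : Type*} [Group G] [Finite G]

/-- a minimal simple group is perfect -/
theorem ms_commutator_eq_top (hG : IsMinSimpleOddOrder G) : commutator G = ⊤ := by
  obtain ⟨hodd, hsimple, hnab, hmin⟩ := hG
  rcases (inferInstance : (commutator G).Normal).eq_bot_or_eq_top with h0 | h1
  · exfalso
    apply hnab
    refine ⟨⟨fun a b => ?_⟩⟩
    have : ⁅a, b⁆ ∈ commutator G := by
      rw [commutator_def]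
      exact Subgroup.commutator_mem_commutator (Subgroup.mem_top a) (Subgroup.mem_top b)
    rw [h0, Subgroup.mem_bot, commutatorElement_eq_one_iff_mul_comm] at this
    exact this
  · exact h1

/-- for `p ∈ σ(M)` the Sylow `p`-subgroups of `M` lie in `M'` -/
theorem not_dvd_index_commutator_of_mem_sigma (hG : IsMinSimpleOddOrder G) {M : Subgroup G}
    (hM : IsCoatom M) {p : ℕ} [Fact p.Prime] (hp : p ∈ sigma M) :
    ¬ p ∣ (commutator ↥M).index := by
  obtain ⟨hpp, hpM, P, hN⟩ := id hp
  set T : Subgroup G := (P : Subgroup M).map M.subtype with hTdef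
  have hT : IsSylowIn p M T := isSylowIn_of_sylow P
  have hTM : T ≤ M := hT.1
  let S : Sylow p G :=
    { toSubgroup := T
      isPGroup' := hT.2.1
      is_maximal' := fun {Q} hQ hTQ => hT.eq_of_normalizer_le hQ hTQ (inf_le_right.trans hN) }
  have hST : (S : Subgroup G) = T := rfl
  have hrf := Cfsg.Agent.Lib.Helper41.relative_focal (p := p) (L := (⊤ : Subgroup G))
    (M := T) (D := ⁅M, M⁆) le_top hT.2.1
    (by rw [Subgroup.relIndex_top_right, ← hST]; exact S.not_dvd_index)
    (by
      intro x hx u _ hxu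
      by_cases hx1 : x = 1
      · rw [hx1, commutatorElement_one_left]
        exact one_mem _
      have hXp : IsPGroup p (Subgroup.zpowers x) :=
        hT.2.1.to_le (Subgroup.zpowers_le.2 hx)
      have hX1 : Subgroup.zpowers x ≠ ⊥ := Subgroup.zpowers_ne_bot.2 hx1
      have hXM : Subgroup.zpowers x ≤ M := Subgroup.zpowers_le.2 (hTM hx)
      have h04 := (Cfsg.Agent.S1404.result hG M hM p hp (Subgroup.zpowers x) hXp hX1 hXM).1
      have h1 : u * x⁻¹ * u⁻¹ ∈ T := by
        have : u * x⁻¹ * u⁻¹ = x⁻¹ * ⁅x, u⁆ := by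
          rw [commutatorElement_def]; group
        rw [this]
        exact mul_mem (inv_mem hx) hxu
      have h2 : u * x * u⁻¹ ∈ M := by
        have : u * x * u⁻¹ = (u * x⁻¹ * u⁻¹)⁻¹ := by group
        rw [this]
        exact inv_mem (hTM h1)
      have h3 : (Subgroup.zpowers x).map (MulAut.conj u).toMonoidHom ≤ M := by
        rintro _ ⟨y, hy, rfl⟩
        obtain ⟨k, rfl⟩ := Subgroup.mem_zpowers_iff.1 hy
        rw [map_zpow]
        apply zpow_mem
        show MulAut.conj u x ∈ M
        rw [MulAut.conj_apply]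
        exact h2
      obtain ⟨m, hm, c, hc, rfl⟩ := h04 u h3
      have hcomm : x * c = c * x :=
        Subgroup.mem_centralizer_iff.1 hc x (Subgroup.mem_zpowers x)
      have hC : Commute c x := hcomm.symm
      have hcx : c * x⁻¹ = x⁻¹ * c := hC.inv_right.eq
      have h5 : ⁅x, m * c⁆ = ⁅x, m⁆ := by
        calc ⁅x, m * c⁆ = x * m * (c * x⁻¹) * c⁻¹ * m⁻¹ := by
              rw [commutatorElement_def]; group
          _ = x * m * (x⁻¹ * c) * c⁻¹ * m⁻¹ := by rw [hcx]
          _ = ⁅x, m⁆ := by rw [commutatorElement_def]; group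
      rw [h5]
      exact Subgroup.commutator_mem_commutator (hTM hx) hm)
  have h4 : T ⊓ ⁅(⊤ : Subgroup G), ⊤⁆ = T := by
    rw [← commutator_def, ms_commutator_eq_top hG, inf_top_eq]
  rw [h4] at hrf
  have h6 : (P : Subgroup M) ≤ commutator ↥M := by
    rw [← Subgroup.map_subtype_commutator] at hrf
    exact (Subgroup.map_le_map_iff_of_injective M.subtype_injective).1 hrf
  exact not_dvd_index_commutator_of_sylow_le P h6

/-- a nontrivial maximal subgroup has a prime divisor outside `σ(M)` -/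
theorem exists_prime_not_mem_sigma (hG : IsMinSimpleOddOrder G) {M : Subgroup G}
    (hM : IsCoatom M) (hM1 : M ≠ ⊥) : ∃ q : ℕ, q.Prime ∧ q ∣ Nat.card M ∧ q ∉ sigma M := by
  by_contra hcon
  push Not at hcon
  have h1 : commutator ↥M = ⊤ := by
    rw [← Subgroup.index_eq_one]
    by_contra hne
    obtain ⟨r, hr, hrd⟩ := Nat.exists_prime_and_dvd hne
    haveI : Fact r.Prime := ⟨hr⟩
    have hrM : r ∣ Nat.card M := hrd.trans (Subgroup.index_dvd_card _)
    exact not_dvd_index_commutator_of_mem_sigma hG hM (hcon r hr hrM) hrd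
  haveI : Group.IsSolvable ↥M := ms_solvable hG hM.1
  haveI : Nontrivial ↥M := (Subgroup.nontrivial_iff_ne_bot M).2 hM1
  have h2 := IsSolvable.commutator_lt_top_of_nontrivial ↥M
  rw [h1] at h2
  exact lt_irrefl _ h2

/-- **BG 10.6** for a maximal subgroup `M` with `p ∈ α(M)` -/
theorem pLengthLE_one_of_mem_alpha (hG : IsMinSimpleOddOrder G) {M : Subgroup G} (hM : IsCoatom M)
    {p : ℕ} [Fact p.Prime] (hp : p ∈ alpha M)
    (hHall : IsPiHallOf (alpha M) (alphaCore M) M)
    (h1407 : alphaCore M ≠ ⊥ → ∀ (q : ℕ) [Fact q.Prime], q ∣ Nat.card M → q ∉ sigma M →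
      ∀ P : Sylow q M, ∃ x : G,
        x ∈ ((Subgroup.center ↥(P : Subgroup M)).map (P : Subgroup M).subtype).map M.subtype ∧
        orderOf x = q ∧ IsZGroup ↥(alphaCore M ⊓ Subgroup.centralizer ({x} : Set G))) :
    PLengthLE p 1 ↥M := by
  classical
  have hpp : p.Prime := Fact.out
  haveI hsolv : Group.IsSolvable ↥M := ms_solvable hG hM.1
  have hoddM : Odd (Nat.card ↥M) := ms_odd hG M
  set H : Subgroup ↥M := piCore (alpha M) ↥M with hHdef
  have hαH : alphaCore M = H.map M.subtype := rfl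
  have hcardH : Nat.card (alphaCore M) = Nat.card H := by
    rw [hαH]; exact Subgroup.card_map_of_injective M.subtype_injective
  have hidxH : (alphaCore M).relIndex M = H.index := by
    rw [hαH]
    show ((H.map M.subtype).comap M.subtype).index = H.index
    rw [Subgroup.comap_map_eq_self_of_injective M.subtype_injective]
  obtain ⟨-, hH1, hH2⟩ := hHall
  rw [hcardH] at hH1
  rw [hidxH] at hH2
  -- `p` divides `|M|`
  have hpM : p ∣ Nat.card M := by
    obtain ⟨E, hEM, hEc, hEe, hE3⟩ := not_pRankLE_sub_iff.mp hp.2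
    have hEp : IsPGroup p E := isPGroup_of_pow_eq_one hEe
    obtain ⟨n, hn⟩ := hEp.exists_card_eq
    have hn0 : n ≠ 0 := by
      rintro rfl
      rw [pow_zero] at hn
      rw [hn] at hE3
      have := Nat.one_le_pow 2 p hpp.pos
      omega
    have h1 : p ∣ Nat.card E := by rw [hn]; exact dvd_pow_self p hn0
    exact h1.trans (Subgroup.card_dvd_of_le hEM)
  have hM1 : M ≠ ⊥ := by
    rintro rfl
    rw [Subgroup.card_bot] at hpM
    exact hpp.one_lt.ne' (Nat.dvd_one.1 hpM)
  have hpidx : ¬ p ∣ H.index := hH2 p hpp hp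
  have hpH : p ∣ Nat.card H := by
    have h1 : Nat.card H * H.index = Nat.card ↥M := Subgroup.card_mul_index H
    rw [← h1] at hpM
    rcases (Nat.Prime.dvd_mul hpp).1 hpM with h | h
    · exact h
    · exact absurd h hpidx
  have hMα : alphaCore M ≠ ⊥ := by
    intro h0
    rw [h0, Subgroup.card_bot] at hcardH
    rw [← hcardH] at hpH
    exact hpp.one_lt.ne' (Nat.dvd_one.1 hpH)
  have hcop : (Nat.card H).Coprime H.index :=
    Nat.Coprime.symm (Nat.coprime_of_dvd (fun k hk hk1 hk2 => hH2 k hk (hH1 k hk hk2) hk1)).symm.symm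
  -- `H ≤ M'`
  have hHcomm : H ≤ commutator ↥M := by
    apply le_commutator_of_not_dvd_index
    intro r hr hrd
    haveI : Fact r.Prime := ⟨hr⟩
    have hrα : r ∈ alpha M := hH1 r hr hrd
    exact not_dvd_index_commutator_of_mem_sigma hG hM
      (Cfsg.Agent.Lib.Helper31.Bg10.mem_sigma_of_rank_three hG hM hrα.2)
  -- a prime outside `σ(M)`
  obtain ⟨q, hq, hqM, hqσ⟩ := exists_prime_not_mem_sigma hG hM hM1
  haveI : Fact q.Prime := ⟨hq⟩
  have hqH : ¬ q ∣ Nat.card H := by
    intro hd
    have hqα : q ∈ alpha M := hH1 q hq hd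
    exact hqσ (Cfsg.Agent.Lib.Helper31.Bg10.mem_sigma_of_rank_three hG hM hqα.2)
  -- a complement
  obtain ⟨R, hR⟩ := Subgroup.exists_right_complement'_of_coprime hcop
  have hcardM : Nat.card H * Nat.card R = Nat.card ↥M := hR.card_mul
  -- a Sylow `q`-subgroup of `M` inside `R`
  obtain ⟨Q'⟩ : Nonempty (Sylow q ↥R) := inferInstance
  set Q₀ : Subgroup ↥M := (Q' : Subgroup ↥R).map R.subtype with hQ₀
  have hQ₀R : Q₀ ≤ R := Subgroup.map_subtype_le _
  have hQ₀card : Nat.card Q₀ = q ^ (Nat.card ↥M).factorization q := by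
    rw [hQ₀, Subgroup.card_map_of_injective R.subtype_injective, Sylow.card_eq_multiplicity,
      ← hcardM, Nat.factorization_mul Nat.card_pos.ne' Nat.card_pos.ne', Finsupp.add_apply,
      Nat.factorization_eq_zero_of_not_dvd hqH, zero_add]
  set PX : Sylow q ↥M := Sylow.ofCard Q₀ hQ₀card with hPX
  have hPXcoe : (PX : Subgroup ↥M) = Q₀ := Sylow.coe_ofCard Q₀ hQ₀card
  obtain ⟨x, hx, hxo, hZ⟩ := h1407 hMα q hqM hqσ PX
  obtain ⟨y, hy, rfl⟩ := hx
  obtain ⟨z, -, rfl⟩ := hy
  have hyR : ((PX : Subgroup ↥M).subtype z) ∈ R := by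
    apply hQ₀R
    rw [← hPXcoe]
    exact z.2
  set y : ↥M := (PX : Subgroup ↥M).subtype z with hydef
  have hyo : orderOf y = q := by
    rw [← hxo]
    exact (Subgroup.orderOf_coe y).symm
  set R₀ : Subgroup ↥M := Subgroup.zpowers y with hR₀
  have hR₀R : R₀ ≤ R := Subgroup.zpowers_le.2 hyR
  have hR₀p : (Nat.card R₀).Prime := by
    rw [hR₀, Nat.card_zpowers, hyo]; exact hq
  have hZ' : IsZGroup ↥(H ⊓ Subgroup.centralizer (R₀ : Set ↥M)) := by
    have hmem : ∀ h : ↥(H ⊓ Subgroup.centralizer (R₀ : Set ↥M)),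
        ((h : ↥M) : G) ∈ alphaCore M ⊓ Subgroup.centralizer ({M.subtype y} : Set G) := by
      intro h
      refine ⟨⟨h.1, h.2.1, rfl⟩, ?_⟩
      show ((h : ↥M) : G) ∈ Subgroup.centralizer ({M.subtype y} : Set G)
      rw [Subgroup.mem_centralizer_iff]
      intro g hg
      rw [Set.mem_singleton_iff] at hg
      rw [hg]
      have := Subgroup.mem_centralizer_iff.1 h.2.2 y (Subgroup.mem_zpowers y)
      exact congrArg Subtype.val this
    let f : ↥(H ⊓ Subgroup.centralizer (R₀ : Set ↥M)) →*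
        ↥(alphaCore M ⊓ Subgroup.centralizer ({M.subtype y} : Set G)) :=
      { toFun := fun h => ⟨((h : ↥M) : G), hmem h⟩
        map_one' := rfl
        map_mul' := fun _ _ => rfl }
    have hf : Function.Injective f := by
      intro a b hab
      apply Subtype.ext
      apply Subtype.ext
      exact congrArg (fun z : ↥(alphaCore M ⊓ Subgroup.centralizer ({M.subtype y} : Set G)) =>
        (z : G)) hab
    exact IsZGroup.of_injective hf
  have h59 := ((Cfsg.Agent.S1459.result (G := ↥M)).1 H R inferInstance hcop hR hHcomm).1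
  have h44 := Cfsg.Agent.S1444.result (G := ↥M) hoddM H R R₀ hcop hR hR₀R hR₀p hZ' p
  rw [← h59] at h44
  exact pLengthLE_one_of_normal_coprime_index p H h44
    ((Nat.Prime.coprime_iff_not_dvd hpp).2 hpidx).symm

/-- **BG 10.6**: every proper subgroup has `p`-length at most one -/
theorem pLengthLE_one_of_ne_top (hG : IsMinSimpleOddOrder G) (p : ℕ) [Fact p.Prime]
    (hHall : ∀ M : Subgroup G, IsCoatom M → IsPiHallOf (alpha M) (alphaCore M) M)
    (h1407 : ∀ M : Subgroup G, IsCoatom M → alphaCore M ≠ ⊥ → ∀ (q : ℕ) [Fact q.Prime],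
      q ∣ Nat.card M → q ∉ sigma M → ∀ P : Sylow q M, ∃ x : G,
        x ∈ ((Subgroup.center ↥(P : Subgroup M)).map (P : Subgroup M).subtype).map M.subtype ∧
        orderOf x = q ∧ IsZGroup ↥(alphaCore M ⊓ Subgroup.centralizer ({x} : Set G)))
    (H : Subgroup G) (hH : H ≠ ⊤) : PLengthLE p 1 ↥H := by
  have hpp : p.Prime := Fact.out
  obtain ⟨M, hM, hHM⟩ := ms_exists_coatom_ge hH
  have hMpl : PLengthLE p 1 ↥M := by
    by_cases hpM : p ∣ Nat.card M
    · by_cases hr : PRankLE p 2 ↥M
      · haveI : Group.IsSolvable ↥M := ms_solvable hG hM.1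
        have h50 := Cfsg.Agent.S1450.result (G := ↥M) (ms_odd hG M) p hpM hr
        exact pLengthLE_one_of_index_pPrimePCore p h50.2.2.2.2.2
      · exact pLengthLE_one_of_mem_alpha hG hM ⟨hpp, hr⟩ (hHall M hM) (h1407 M hM)
    · exact pLengthLE_one_of_coprime p ((Nat.Prime.coprime_iff_not_dvd hpp).2 hpM).symm
  exact pLengthLE_one_of_injective p (Subgroup.inclusion hHM) (Subgroup.inclusion_injective hHM) hMpl

end Cfsg.Agent.Lib.Helper58.BG10
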