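import Mathlib
import Cfsg.Agent.Lib.Helper58.BG10B
import Cfsg.Agent.Lib.Helper15.BG103D
import Cfsg.Agent.Lib.Helper13.BG12A
import Cfsg.Agent.Lib.Helper29.CorePrime
import Cfsg.Agent.Lib.Helper31.Bg10b
import Cfsg.Agent.Lib.Helper55.Basic
import Cfsg.Agent.Lib.Helper55.StrEmb2
import Cfsg.Agent.Lib.Helper55.Uniq3

set_option autoImplicit false

/-! The part of Bender–Glauberman Lemma 10.4 needed for Theorem 10.6: for `q ∉ σ(M)` some element of
order `q` in the centre of a Sylow `q`-subgroup of `M` has a centralizer in `M_α` of rank at most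
one. -/

namespace Cfsg.Agent.Lib.Helper58.BG10

open Cfsg Cfsg.Agent.Lib.Helper55

variable {G : Type*} [Group G] [Finite G]

/-- rank at most one and odd order give cyclic Sylow subgroups -/
theorem isZGroup_of_rankLE_one (hG : IsMinSimpleOddOrder G) (K : Subgroup G)
    (hr : RankLE 1 ↥K) : IsZGroup ↥K := by
  refine ⟨fun r hr' S => ?_⟩
  haveI : Fact r.Prime := ⟨hr'⟩
  set Q : Subgroup G := (S : Subgroup ↥K).map K.subtype with hQ
  have hQK : Q ≤ K := Subgroup.map_subtype_le _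
  have hQp : IsPGroup r Q := S.2.map K.subtype
  have hcyc : IsCyclic ↥Q := by
    by_cases hQ1 : Q = ⊥
    · rw [hQ1]
      infer_instance
    · exact Cfsg.Agent.Lib.Helper13.BG12.isCyclic_of_pRankLE_one (ms_prime_ne_two hG hQp hQ1)
        (hr r hr') hQK hQp
  let e : ↥(S : Subgroup ↥K) ≃* ↥Q :=
    (S : Subgroup ↥K).equivMapOfInjective K.subtype K.subtype_injective
  exact isCyclic_of_surjective e.symm e.symm.surjective

/-- membership in the image of the centre of a Sylow subgroup of `M` -/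
theorem mem_center_image {M : Subgroup G} {q : ℕ} [Fact q.Prime] (P : Sylow q M) {x : G}
    (hx : x ∈ (P : Subgroup M).map M.subtype)
    (hc : ∀ t ∈ (P : Subgroup M).map M.subtype, t * x = x * t) :
    x ∈ ((Subgroup.center ↥(P : Subgroup M)).map (P : Subgroup M).subtype).map M.subtype := by
  obtain ⟨y, hy, rfl⟩ := hx
  refine ⟨y, ⟨⟨y, hy⟩, ?_, rfl⟩, rfl⟩
  show (⟨y, hy⟩ : ↥(P : Subgroup M)) ∈ Subgroup.center ↥(P : Subgroup M)
  rw [Subgroup.mem_center_iff]
  intro s
  apply Subtype.ext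
  apply Subtype.ext
  exact hc ((s : ↥M) : G) ⟨(s : ↥M), s.2, rfl⟩

/-- the part of **BG 10.4** used for 10.6 -/
theorem exists_center_zgroup (hG : IsMinSimpleOddOrder G) (M : Subgroup G) (hM : IsCoatom M)
    (hHall : ∀ p : ℕ, p.Prime → p ∈ alpha M → ¬ p ∣ (alphaCore M).relIndex M)
    (q : ℕ) [Fact q.Prime] (hqM : q ∣ Nat.card M) (hq : q ∉ sigma M) (P : Sylow q M) :
    ∃ x : G,
      x ∈ ((Subgroup.center ↥(P : Subgroup M)).map (P : Subgroup M).subtype).map M.subtype ∧
      orderOf x = q ∧ IsZGroup ↥(alphaCore M ⊓ Subgroup.centralizer ({x} : Set G)) := by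
  classical
  have hqp : q.Prime := Fact.out
  by_contra hcon
  push Not at hcon
  set T : Subgroup G := (P : Subgroup M).map M.subtype with hT
  have hTM : T ≤ M := Subgroup.map_subtype_le _
  have hTp : IsPGroup q T := P.2.map M.subtype
  have hT1 : T ≠ ⊥ := by
    intro h
    have h1 : (P : Subgroup M) ≠ ⊥ := P.ne_bot_of_dvd_card hqM
    exact h1 ((Subgroup.map_eq_bot_iff_of_injective _ M.subtype_injective).1 h)
  have hM1 : M ≠ ⊥ := by
    rintro rfl
    exact hT1 (le_bot_iff.1 hTM)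
  have hqα : q ∉ alpha M := fun h =>
    hq (Cfsg.Agent.Lib.Helper31.Bg10.mem_sigma_of_rank_three hG hM h.2)
  -- every central element of order `q` has `C_M(x)` a uniqueness subgroup
  have huniq : ∀ x : G, x ∈ T → (∀ t ∈ T, t * x = x * t) → orderOf x = q →
      InUniqueMaximal (M ⊓ Subgroup.centralizer ({x} : Set G)) := by
    intro x hxT hxc hxo
    have hxZ := mem_center_image P hxT hxc
    have hnz := hcon x hxZ hxo
    have hXM : Subgroup.zpowers x ≤ M := Subgroup.zpowers_le.2 (hTM hxT)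
    have hXα : ∀ p : ℕ, p.Prime → p ∣ Nat.card (Subgroup.zpowers x) → p ∉ alpha M := by
      intro p hp hpd
      rw [Nat.card_zpowers, hxo] at hpd
      have : p = q := (Nat.prime_dvd_prime_iff_eq hp hqp).1 hpd
      rw [this]
      exact hqα
    have hr : ¬ RankLE 1 ↥(alphaCore M ⊓
        Subgroup.centralizer ((Subgroup.zpowers x : Subgroup G) : Set G)) := by
      intro hr
      apply hnz
      rw [Cfsg.Agent.Lib.Helper29.centralizer_zpowers_eq] at hr
      exact isZGroup_of_rankLE_one hG _ hr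
    have := Cfsg.Agent.Lib.Helper15.BG103.lemma_10_3_of_hall hG M hM (Subgroup.zpowers x) hXM hXα
      hr hHall
    rwa [Cfsg.Agent.Lib.Helper29.centralizer_zpowers_eq] at this
  -- hence `N_G(T) ≤ M`
  have hN : Subgroup.normalizer (T : Set G) ≤ M := by
    intro g hg
    obtain ⟨x₀, hx₀T, hx₀o, hx₀c⟩ := Cfsg.Agent.Lib.Helper31.Bg10.exists_central_order_p hTp hT1
    set x₁ : G := g * x₀ * g⁻¹ with hx₁
    have hx₁T : x₁ ∈ T := (Subgroup.mem_normalizer_iff.1 hg x₀).1 hx₀T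
    have hx₁o : orderOf x₁ = q := by
      rw [hx₁, ← hx₀o]
      exact (MulAut.conj g).orderOf_eq x₀
    have hx₁c : ∀ t ∈ T, t * x₁ = x₁ * t := by
      intro t ht
      have ht' : g⁻¹ * t * g⁻¹⁻¹ ∈ T :=
        (Subgroup.mem_normalizer_iff.1 (inv_mem hg) t).1 ht
      have h1 := hx₀c _ ht'
      have e1 : t * x₁ = g * ((g⁻¹ * t * g⁻¹⁻¹) * x₀) * g⁻¹ := by rw [hx₁]; group
      have e2 : x₁ * t = g * (x₀ * (g⁻¹ * t * g⁻¹⁻¹)) * g⁻¹ := by rw [hx₁]; group
      rw [e1, e2, h1]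
    have hU₀ := huniq x₀ hx₀T hx₀c hx₀o
    have hU₁ := huniq x₁ hx₁T hx₁c hx₁o
    have hx₁1 : x₁ ≠ 1 := by
      intro h
      rw [h, orderOf_one] at hx₁o
      exact hqp.one_lt.ne hx₁o
    obtain ⟨L, hL, hKL⟩ := ms_exists_coatom_ge (centralizer_singleton_ne_top hG hx₁1)
    have hLM : L = M := hU₁.unique ⟨hL, inf_le_right.trans hKL⟩ ⟨hM, inf_le_left⟩
    have h2 : cj g (M ⊓ Subgroup.centralizer ({x₀} : Set G)) ≤ M := by
      rw [← hLM]
      refine le_trans ?_ hKL
      rw [cj_inf, cj_centralizer_singleton]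
      exact inf_le_right
    rw [cj_le_iff] at h2
    have h3 : cj g⁻¹ M = M :=
      hU₀.unique ⟨isCoatom_cj g⁻¹ hM, h2⟩ ⟨hM, inf_le_left⟩
    have h4 : g⁻¹ ∈ Subgroup.normalizer (M : Set G) := cj_eq_self_iff.1 h3
    have h5 : Subgroup.normalizer (M : Set G) = M :=
      ms_normalizer_eq hG hM hM1 le_rfl Subgroup.le_normalizer
    rw [h5] at h4
    exact (Subgroup.inv_mem_iff M).1 h4
  exact hq ⟨hqp, hqM, P, hN⟩

end Cfsg.Agent.Lib.Helper58.BG10
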