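import Mathlib
import Cfsg.Agent.S1350
import Cfsg.Agent.S1404
import Cfsg.Agent.S1459
import Cfsg.Agent.Lib.Helper58.BG10B
import Cfsg.Agent.Lib.Helper13.BG12A
import Cfsg.Agent.Lib.Helper55.Basic
import Cfsg.Agent.Lib.Helper55.Uniq3

set_option autoImplicit false

/-! Bender–Glauberman Lemma 12.16 (`M_σ = [M_σ, E]`, `C_{M_σ}(E) ≤ M_σ'`, and the structure of
`M_σ ∩ M^g`), with `C_G(A) ≤ M` for `A ∈ E_p²(M)` (12.4) and 12.13 as hypotheses. -/

namespace Cfsg.Agent.Lib.Helper58.BG12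

open Cfsg Cfsg.Agent.Lib.Helper55 Cfsg.Agent.Lib.Helper58.BG10
open scoped commutatorElement

variable {G : Type*} [Group G] [Finite G]

/-- first two parts of **BG 12.16** -/
theorem sigmaCore_commutator_compl (hG : IsMinSimpleOddOrder G) (M : Subgroup G) (hM : IsCoatom M)
    (E : Subgroup G) (hE : IsComplIn E (sigmaCore M) M) :
    sigmaCore M ⊓ Subgroup.centralizer (E : Set G) ≤ ⁅sigmaCore M, sigmaCore M⁆ ∧
      ⁅sigmaCore M, E⁆ = sigmaCore M := by
  classical
  haveI hsolv : Group.IsSolvable ↥M := ms_solvable hG hM.1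
  set H : Subgroup ↥M := piCore (sigma M) ↥M with hHdef
  have hσH : sigmaCore M = H.map M.subtype := rfl
  have hcardH : Nat.card (sigmaCore M) = Nat.card H := by
    rw [hσH]; exact Subgroup.card_map_of_injective M.subtype_injective
  have hidxH : (sigmaCore M).relIndex M = H.index := by
    rw [hσH]
    show ((H.map M.subtype).comap M.subtype).index = H.index
    rw [Subgroup.comap_map_eq_self_of_injective M.subtype_injective]
  obtain ⟨-, hH1, hH2⟩ := (Cfsg.Agent.S1350.result hG M hM).1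
  rw [hcardH] at hH1
  rw [hidxH] at hH2
  have hcop : (Nat.card H).Coprime H.index :=
    Nat.coprime_of_dvd (fun k hk hk1 hk2 => hH2 k hk (hH1 k hk hk1) hk2)
  have hHcomm : H ≤ commutator ↥M := by
    apply le_commutator_of_not_dvd_index
    intro r hr hrd
    haveI : Fact r.Prime := ⟨hr⟩
    exact not_dvd_index_commutator_of_mem_sigma hG hM (hH1 r hr hrd)
  obtain ⟨hEM, -, hdisj, hprod⟩ := hE
  set K : Subgroup ↥M := E.subgroupOf M with hKdef
  have hKmap : K.map M.subtype = E := by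
    rw [hKdef, Subgroup.subgroupOf_map_subtype, inf_of_le_left hEM]
  have hcompl : Subgroup.IsComplement' H K := by
    apply Subgroup.isComplement'_of_disjoint_and_mul_eq_univ
    · rw [Subgroup.disjoint_def]
      intro x hxH hxK
      have h1 : (x : G) ∈ E ⊓ sigmaCore M := ⟨Subgroup.mem_subgroupOf.1 hxK, ⟨x, hxH, rfl⟩⟩
      rw [hdisj, Subgroup.mem_bot] at h1
      exact Subtype.ext h1
    · apply Set.eq_univ_of_forall
      intro x
      obtain ⟨a, ha, b, hb, hab⟩ := hprod x.1 x.2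
      obtain ⟨b', hb', rfl⟩ := hb
      set a' : ↥M := ⟨a, hEM ha⟩ with ha'
      have haK : a' ∈ K := Subgroup.mem_subgroupOf.2 ha
      refine Set.mem_mul.2 ⟨a' * b' * a'⁻¹, ?_, a', haK, ?_⟩
      · exact (inferInstance : H.Normal).conj_mem b' hb' a'
      · apply Subtype.ext
        rw [hab]
        simp [ha']
  have h59 := (Cfsg.Agent.S1459.result (G := ↥M)).1 H K inferInstance hcop hcompl hHcomm
  constructor
  · intro x hx
    obtain ⟨hx1, hx2⟩ := hx
    obtain ⟨h, hh, rfl⟩ := hx1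
    have hhc : h ∈ Subgroup.centralizer (K : Set ↥M) := by
      rw [Subgroup.mem_centralizer_iff]
      intro k hk
      apply Subtype.ext
      exact Subgroup.mem_centralizer_iff.1 hx2 (k : G) (Subgroup.mem_subgroupOf.1 hk)
    have h1 : h ∈ ⁅H, H⁆ := h59.2 ⟨hh, hhc⟩
    rw [hσH, ← Subgroup.map_commutator]
    exact ⟨h, h1, rfl⟩
  · have h1 : ⁅H.map M.subtype, K.map M.subtype⁆ = (⁅H, K⁆).map M.subtype :=
      (Subgroup.map_commutator H K M.subtype).symm
    rw [hKmap, ← h59.1] at h1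
    exact h1

/-- third part of **BG 12.16**, given 12.4 (first part) and 12.13 -/
theorem sigmaCore_inf_conj (hG : IsMinSimpleOddOrder G) (M : Subgroup G) (hM : IsCoatom M)
    (h1416 : ∀ (p : ℕ) [Fact p.Prime] (A : Subgroup G), A ≤ M → IsElementaryAbelian p A →
      Nat.card A = p ^ 2 → Subgroup.centralizer (A : Set G) ≤ M)
    (h1423 : ∀ (p : ℕ) [Fact p.Prime], p ∈ sigma M → ∀ X : Subgroup G, X ≤ M → Nat.card X = p →
      (p ∈ beta M ∨ X ≤ ⁅sigmaCore M, sigmaCore M⁆) → Subgroup.centralizer (X : Set G) ≤ M)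
    (g : G) (hg : g ∉ M) :
    IsCyclic ↥(sigmaCore M ⊓ M.map (MulAut.conj g).toMonoidHom) ∧
      (∀ p : ℕ, p.Prime → p ∣ Nat.card ↥(sigmaCore M ⊓ M.map (MulAut.conj g).toMonoidHom) →
        p ∉ beta M) ∧
      sigmaCore M ⊓ M.map (MulAut.conj g).toMonoidHom ⊓ ⁅sigmaCore M, sigmaCore M⁆ = ⊥ := by
  classical
  set Ms := sigmaCore M with hMs
  set D : Subgroup G := Ms ⊓ M.map (MulAut.conj g).toMonoidHom with hD
  have hMsM : Ms ≤ M := Subgroup.map_subtype_le _
  obtain ⟨-, hσ1, -⟩ := (Cfsg.Agent.S1350.result hG M hM).1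
  -- no nontrivial `p`-subgroup of `D` has its centralizer in `M`
  have hA : ∀ (p : ℕ) [Fact p.Prime] (X : Subgroup G), X ≤ D → IsPGroup p X → X ≠ ⊥ →
      p ∈ sigma M ∧ ¬ Subgroup.centralizer (X : Set G) ≤ M := by
    intro p _ X hXD hXp hX1
    have hpp : p.Prime := Fact.out
    have hpσ : p ∈ sigma M :=
      hσ1 p hpp ((ms_prime_dvd_card hG hXp hX1).trans
        (Subgroup.card_dvd_of_le (hXD.trans inf_le_left)))
    refine ⟨hpσ, fun hC => ?_⟩
    have hXM : X ≤ M := (hXD.trans inf_le_left).trans hMsM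
    have h1 : X.map (MulAut.conj g⁻¹).toMonoidHom ≤ M := by
      rintro _ ⟨y, hy, rfl⟩
      obtain ⟨m, hm, hmy⟩ := (hXD hy).2
      have : (MulAut.conj g⁻¹).toMonoidHom y = m := by
        rw [← hmy]
        simp [MulAut.conj_apply]
        group
      rw [this]
      exact hm
    obtain ⟨m, hm, c, hc, hgc⟩ := (Cfsg.Agent.S1404.result hG M hM p hpσ X hXp hX1 hXM).1 g⁻¹ h1
    apply hg
    have : g = (m * c)⁻¹ := by rw [← hgc, inv_inv]
    rw [this]
    exact inv_mem (mul_mem hm (hC hc))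
  -- elements of prime order
  have hcauchy : ∀ (D' : Subgroup G) (p : ℕ) [Fact p.Prime], p ∣ Nat.card D' →
      ∃ X : Subgroup G, X ≤ D' ∧ Nat.card X = p ∧ IsPGroup p X ∧ X ≠ ⊥ := by
    intro D' p _ hpd
    have hpp : p.Prime := Fact.out
    obtain ⟨x, hx⟩ := exists_prime_orderOf_dvd_card' p hpd
    have hxo : orderOf (x : G) = p := by rw [Subgroup.orderOf_coe]; exact hx
    refine ⟨Subgroup.zpowers (x : G), Subgroup.zpowers_le.2 x.2, ?_, ?_, ?_⟩
    · rw [Nat.card_zpowers, hxo]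
    · apply IsPGroup.of_card (n := 1)
      rw [Nat.card_zpowers, hxo, pow_one]
    · intro h
      have : Nat.card (Subgroup.zpowers (x : G)) = 1 := by rw [h, Subgroup.card_bot]
      rw [Nat.card_zpowers, hxo] at this
      exact hpp.one_lt.ne' this
  have hbeta : ∀ p : ℕ, p.Prime → p ∣ Nat.card ↥D → p ∉ beta M := by
    intro p hp hpd hβ
    haveI : Fact p.Prime := ⟨hp⟩
    obtain ⟨X, hXD, hXc, hXp, hX1⟩ := hcauchy D p hpd
    obtain ⟨hpσ, hnC⟩ := hA p X hXD hXp hX1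
    exact hnC (h1423 p hpσ X ((hXD.trans inf_le_left).trans hMsM) hXc (Or.inl hβ))
  have hder : D ⊓ ⁅Ms, Ms⁆ = ⊥ := by
    by_contra hne
    have hcard : Nat.card ↥(D ⊓ ⁅Ms, Ms⁆ : Subgroup G) ≠ 1 := fun h =>
      hne (Subgroup.card_eq_one.1 h)
    obtain ⟨p, hp, hpd⟩ := Nat.exists_prime_and_dvd hcard
    haveI : Fact p.Prime := ⟨hp⟩
    obtain ⟨X, hXD, hXc, hXp, hX1⟩ := hcauchy _ p hpd
    obtain ⟨hpσ, hnC⟩ := hA p X (hXD.trans inf_le_left) hXp hX1
    exact hnC (h1423 p hpσ X (((hXD.trans inf_le_left).trans inf_le_left).trans hMsM) hXc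
      (Or.inr (hXD.trans inf_le_right)))
  refine ⟨?_, hbeta, hder⟩
  -- `D` is abelian
  have hDc : ∀ a ∈ D, ∀ b ∈ D, a * b = b * a := by
    intro a ha b hb
    have h0 : ⁅a, b⁆ ∈ D := by
      rw [commutatorElement_def]
      exact D.mul_mem (D.mul_mem (D.mul_mem ha hb) (D.inv_mem ha)) (D.inv_mem hb)
    have h1 : ⁅a, b⁆ ∈ D ⊓ ⁅Ms, Ms⁆ :=
      Subgroup.mem_inf.2 ⟨h0, Subgroup.commutator_mem_commutator
        (Subgroup.mem_inf.1 ha).1 (Subgroup.mem_inf.1 hb).1⟩
    rw [hder, Subgroup.mem_bot, commutatorElement_eq_one_iff_mul_comm] at h1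
    exact h1
  have hnil : Group.IsNilpotent ↥D := by
    letI : CommGroup ↥D :=
      { (inferInstance : Group ↥D) with
        mul_comm := fun a b => Subtype.ext (hDc a.1 a.2 b.1 b.2) }
    exact CommGroup.isNilpotent
  apply Cfsg.Agent.Lib.Helper13.BG12.isCyclic_of_nilpotent_of_pRankLE_one hG (le_refl D) hnil
  intro p hp hpd
  haveI : Fact p.Prime := ⟨hp⟩
  by_contra hr
  obtain ⟨E₁, hE₁D, hE₁c, hE₁e, hE₁card⟩ := not_pRankLE_sub_iff.mp hr
  rw [pow_one] at hE₁card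
  have hE₁p : IsPGroup p E₁ := isPGroup_of_pow_eq_one hE₁e
  obtain ⟨n, hn⟩ := hE₁p.exists_card_eq
  have hn2 : 2 ≤ n := by
    by_contra hlt
    have hle : n ≤ 1 := by omega
    have : p ^ n ≤ p ^ 1 := Nat.pow_le_pow_right hp.pos hle
    rw [pow_one] at this
    omega
  have hdvd : p ^ 2 ∣ Nat.card ↥E₁ := by
    rw [hn]; exact pow_dvd_pow p hn2
  obtain ⟨K', hK'⟩ := Sylow.exists_subgroup_card_pow_prime p hdvd
  set B : Subgroup G := K'.map E₁.subtype with hB
  have hBE : B ≤ E₁ := Subgroup.map_subtype_le _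
  have hBcard : Nat.card B = p ^ 2 := by
    rw [hB, Subgroup.card_map_of_injective E₁.subtype_injective, hK']
  have hBel : IsElementaryAbelian p B :=
    ⟨⟨⟨fun a b => Subtype.ext (hE₁c a.1 (hBE a.2) b.1 (hBE b.2))⟩⟩, fun a ha => hE₁e a (hBE ha)⟩
  have hBM : B ≤ M := ((hBE.trans hE₁D).trans inf_le_left).trans hMsM
  have hB1 : B ≠ ⊥ := by
    intro h
    rw [h, Subgroup.card_bot] at hBcard
    have := Nat.one_lt_pow (n := 2) (by norm_num) hp.one_lt
    omega
  exact (hA p B (hBE.trans hE₁D) (hE₁p.to_le hBE) hB1).2 (h1416 p B hBM hBel hBcard)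

end Cfsg.Agent.Lib.Helper58.BG12
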