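import Mathlib
import Cfsg.Agent.S1350
import Cfsg.Agent.S1409
import Cfsg.Agent.Lib.Helper13.BG12B
import Cfsg.Agent.Lib.Helper31.BG12a
import Cfsg.Agent.Lib.Helper31.FittingHall
import Cfsg.Agent.Lib.Helper32.Coprime
import Cfsg.Agent.Lib.Helper29.Sup

/-!
# Bender–Glauberman, Lemma 12.17 (from the statements of S1417, S1418, S1423)

If `S` is a cyclic Sylow `p`-subgroup of a complement `E` of `M_σ` in `M` and `x ∈ S` is a
non-identity element then `C_{M_σ}(x) = C_{M_σ}(S)`.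
-/

set_option autoImplicit false
set_option linter.unusedSectionVars false
set_option linter.unusedVariables false

namespace Cfsg.Agent.Lib.Helper58.BG12

open Cfsg Cfsg.Agent.Lib.Helper55 Cfsg.Agent.Lib.Helper31 Cfsg.Agent.Lib.Helper71.BG10
  Cfsg.Agent.Lib.Helper71.BG11 Cfsg.Agent.Lib.Helper69.BG10 Cfsg.Agent.Lib.Helper13.BG12
  Cfsg.Agent.Lib.Helper31.BG12
open scoped commutatorElement

variable {G : Type*} [Group G] [Finite G]

/-- The part of the statement of S1423 (BG 12.13?) used here, for the maximal subgroup `L`. -/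
def Hyp23 (L : Subgroup G) : Prop :=
  ∀ (q : ℕ) [Fact q.Prime], q ∈ sigma L → ∀ Y : Subgroup G, Y ≤ L → Nat.card Y = q →
    Y ≤ ⁅sigmaCore L, sigmaCore L⁆ → ∀ P : Sylow q ↥(sigmaCore L),
      InUniqueMaximal ((P : Subgroup ↥(sigmaCore L)).map (sigmaCore L).subtype)

/-- If `N_G(A) ≤ M₂` for an elementary abelian subgroup `A` of order `p ^ 2` then `p ∈ σ(M₂)`
(given S1417 for `M₂`). -/
theorem mem_sigma_of_normalizer_elemAb_le (hG : IsMinSimpleOddOrder G) {M₂ : Subgroup G}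
    (hM₂ : IsCoatom M₂) (h17 : Hyp17 M₂) {p : ℕ} [Fact p.Prime] {A : Subgroup G}
    (hAe : IsElementaryAbelian p A) (hAc : Nat.card A = p ^ 2)
    (hN : Subgroup.normalizer (A : Set G) ≤ M₂) : p ∈ sigma M₂ := by
  by_contra hp
  have hpp : p.Prime := Fact.out
  have hAM : A ≤ M₂ := Subgroup.le_normalizer.trans hN
  have hcomm : ∀ a ∈ A, ∀ b ∈ A, a * b = b * a := by
    intro a ha b hb
    have := hAe.1.is_comm.comm (⟨a, ha⟩ : A) ⟨b, hb⟩
    exact congrArg Subtype.val this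
  have hr2 : PRankLE p 2 M₂ := by
    by_contra h
    exact hp (mem_sigma_of_not_pRankLE_two hG hM₂ hpp h)
  have hr1 : ¬ PRankLE p 1 M₂ := by
    rw [not_pRankLE_sub_iff]
    refine ⟨A, hAM, hcomm, hAe.2, ?_⟩
    rw [hAc]
    exact Nat.pow_lt_pow_right hpp.one_lt (by norm_num)
  have hτ : p ∈ tau2 M₂ := ⟨hpp, hp, hr2, hr1⟩
  obtain ⟨-, hS, -⟩ := h17 p hτ A ⟨hAM, hAe, hAc⟩
  obtain ⟨T, hT, hAT⟩ := exists_isSylowIn_ge (p := p) (K := M₂) hAM
    (isPGroup_of_pow_eq_one hAe.2)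
  have h1 := (hS hT.toSylow).2
  rw [hT.map_toSylow] at h1
  obtain ⟨hΩ, hN2⟩ := h1 hAT
  apply hN2
  refine le_trans ?_ hN
  intro g hg
  rw [Subgroup.mem_normalizer_iff] at hg ⊢
  intro a
  constructor
  · intro ha
    have h2 : g * a * g⁻¹ ∈ T := (hg a).mp (hAT ha)
    refine (hΩ _ h2).mp ?_
    rw [conj_pow, hAe.2 a ha]; simp
  · intro ha
    have h2 : a ∈ T := (hg a).mpr (hAT ha)
    refine (hΩ _ h2).mp ?_
    have h3 := hAe.2 _ ha
    rw [conj_pow] at h3
    have : a ^ p = g⁻¹ * (g * a ^ p * g⁻¹) * g := by group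
    rw [this, h3]; simp

/-- **Lemma K**: let `C ≤ M_σ` be normalized but not centralized by the `p`-group `S`, where
`p ∉ σ(M)`. Then no maximal subgroup `L ≥ C S` has `p ∈ σ(L)` (given S1423 for `L`). -/
theorem no_sigma_overgroup (hG : IsMinSimpleOddOrder G) {M : Subgroup G} (hM : IsCoatom M)
    {p : ℕ} [Fact p.Prime] (hpM : p ∉ sigma M) {C S : Subgroup G} (hC : C ≤ sigmaCore M)
    (hS : IsPGroup p S) (hSC : S ≤ Subgroup.normalizer (C : Set G))
    (hne : ¬ C ≤ Subgroup.centralizer (S : Set G)) {L : Subgroup G} (hL : IsCoatom L)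
    (h23 : Hyp23 L) (hCL : C ≤ L) (hSL : S ≤ L) (hpL : p ∈ sigma L) : False := by
  have hpp : p.Prime := Fact.out
  -- coprimality
  have hpC : ¬ p ∣ Nat.card C := fun h =>
    hpM (sigmaCore_pi hG hM hpp (h.trans (Subgroup.card_dvd_of_le hC)))
  have hcop : (Nat.card S).Coprime (Nat.card C) := by
    obtain ⟨k, hk⟩ := hS.exists_card_eq
    rw [hk]
    exact Nat.Coprime.pow_left k ((Nat.Prime.coprime_iff_not_dvd hpp).mpr hpC)
  have hCS : ⁅C, S⁆ ≤ C := by
    rw [Subgroup.commutator_le]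
    intro c hc s hs
    have h1 : s * c⁻¹ * s⁻¹ ∈ C :=
      ((Subgroup.mem_normalizer_iff.mp (hSC hs)) c⁻¹).mp (C.inv_mem hc)
    have : ⁅c, s⁆ = c * (s * c⁻¹ * s⁻¹) := by
      rw [commutatorElement_def]; group
    rw [this]
    exact C.mul_mem hc h1
  have hstab : ¬ ⁅C, S⁆ ≤ Subgroup.centralizer (S : Set G) := fun h =>
    hne (Cfsg.Agent.Lib.Helper32.le_centralizer_of_stable C ⁅C, S⁆ S le_rfl h hCS hcop)
  -- `S ≤ L_σ`
  have hHallL := (Cfsg.Agent.S1350.result hG L hL).1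
  have hSσ : S ≤ sigmaCore L := by
    refine le_of_isPiHallOf_normal hHallL (le_normalizer_sigmaCore L) hSL ?_
    intro r hr hrd
    obtain ⟨k, hk⟩ := hS.exists_card_eq
    rw [hk] at hrd
    have : r = p := (Nat.prime_dvd_prime_iff_eq hr hpp).mp (hr.dvd_of_dvd_pow hrd)
    rw [this]; exact hpL
  have hCSσ : ⁅C, S⁆ ≤ sigmaCore L := by
    rw [Subgroup.commutator_le]
    intro c hc s hs
    have h1 : c * s * c⁻¹ ∈ sigmaCore L :=
      ((Subgroup.mem_normalizer_iff.mp (le_normalizer_sigmaCore L (hCL hc))) s).mp (hSσ hs)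
    have : ⁅c, s⁆ = (c * s * c⁻¹) * s⁻¹ := by
      rw [commutatorElement_def]
    rw [this]
    exact (sigmaCore L).mul_mem h1 ((sigmaCore L).inv_mem (hSσ hs))
  have hD1 : ⁅⁅C, S⁆, S⁆ ≤ ⁅sigmaCore L, sigmaCore L⁆ := Subgroup.commutator_mono hCSσ hSσ
  have hD1ne : ⁅⁅C, S⁆, S⁆ ≠ ⊥ := by
    intro h
    exact hstab (Subgroup.commutator_eq_bot_iff_le_centralizer.mp h)
  -- an element of prime order in `D₁`
  have hcard1 : Nat.card ↥⁅⁅C, S⁆, S⁆ ≠ 1 := fun h => hD1ne (Subgroup.card_eq_one.mp h)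
  obtain ⟨q, hq, hqd⟩ := Nat.exists_prime_and_dvd hcard1
  haveI : Fact q.Prime := ⟨hq⟩
  obtain ⟨y, hy⟩ := exists_prime_orderOf_dvd_card' q hqd
  set Y : Subgroup G := Subgroup.zpowers (y : G) with hYdef
  have hYD : Y ≤ ⁅⁅C, S⁆, S⁆ := by
    rw [hYdef, Subgroup.zpowers_le]; exact y.2
  have hYc : Nat.card Y = q := by
    rw [hYdef, Nat.card_zpowers, Subgroup.orderOf_coe, hy]
  have hYσL : Y ≤ sigmaCore L := hYD.trans (hD1.trans (commutator_self_le _))
  have hYσM : Y ≤ sigmaCore M :=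
    hYD.trans ((Subgroup.commutator_mono hCS le_rfl).trans (hCS.trans hC))
  have hqL : q ∈ sigma L := sigmaCore_pi hG hL hq (hYc ▸ Subgroup.card_dvd_of_le hYσL)
  have hqM : q ∈ sigma M := sigmaCore_pi hG hM hq (hYc ▸ Subgroup.card_dvd_of_le hYσM)
  -- the Sylow `q`-subgroup of `L_σ` is a uniqueness subgroup
  obtain ⟨P⟩ : Nonempty (Sylow q ↥(sigmaCore L)) := inferInstance
  have hU := h23 q hqL Y (hYσL.trans (sigmaCore_le L)) hYc (hYD.trans hD1) P
  set P' : Subgroup G := (P : Subgroup ↥(sigmaCore L)).map (sigmaCore L).subtype with hP'def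
  have hP' : IsSylowIn q (sigmaCore L) P' := isSylowIn_of_sylow P
  have hP'top : IsSylowIn q ⊤ P' :=
    isSylowIn_top_of_not_dvd_index hP'.2.1
      (not_dvd_index_of_isSylowIn hP' (sigmaCore_index hG hL hqL))
  obtain ⟨S₀, hS₀⟩ := exists_good_of_sigma hqM
  obtain ⟨x, -, hx⟩ := hP'top.exists_conj hS₀.1
  have hP'M : P' ≤ cj x⁻¹ M := by
    rw [← cj_le_iff, hx]; exact hS₀.2.1
  obtain ⟨L', ⟨hL'c, hL'P⟩, huniq⟩ := hU
  have h1 : L = L' := huniq L ⟨hL, hP'.1.trans (sigmaCore_le L)⟩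
  have h2 : cj x⁻¹ M = L' := huniq (cj x⁻¹ M) ⟨isCoatom_cj x⁻¹ hM, hP'M⟩
  have h3 : L = cj x⁻¹ M := h1.trans h2.symm
  rw [h3] at hpL
  have h4 := mem_sigma_cj hpL x
  rw [cj_cj_inv] at h4
  exact hpM h4

/-- Core of **BG 12.17**: `M` of `p`-rank one, `p ∉ σ(M)`, `S ≤ M` an abelian `p`-subgroup and
`X ≤ S` of order `p`.  Then `C_{M_σ}(X) ≤ C_G(S)`. -/
theorem sigmaCore_inf_centralizer_le (hG : IsMinSimpleOddOrder G)
    (h17 : ∀ L : Subgroup G, IsCoatom L → Hyp17 L) (h18 : ∀ L : Subgroup G, IsCoatom L → Hyp18 L)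
    (h23 : ∀ L : Subgroup G, IsCoatom L → Hyp23 L)
    {M : Subgroup G} (hM : IsCoatom M) {p : ℕ} [Fact p.Prime] (hpM : p ∉ sigma M)
    (hrank : PRankLE p 1 M) {S X : Subgroup G} (hSM : S ≤ M) (hSp : IsPGroup p S)
    (hSc : ∀ a ∈ S, ∀ b ∈ S, a * b = b * a) (hXS : X ≤ S) (hX : Nat.card X = p) :
    sigmaCore M ⊓ Subgroup.centralizer (X : Set G) ≤ Subgroup.centralizer (S : Set G) := by
  by_contra hne
  have hpp : p.Prime := Fact.out
  set C : Subgroup G := sigmaCore M ⊓ Subgroup.centralizer (X : Set G) with hCdef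
  have hCσ : C ≤ sigmaCore M := inf_le_left
  have hSX : S ≤ Subgroup.centralizer (X : Set G) := by
    intro s hs
    rw [Subgroup.mem_centralizer_iff]
    intro x hx
    exact hSc x (hXS hx) s hs
  -- `S` normalizes `C`
  have hSC : S ≤ Subgroup.normalizer (C : Set G) := by
    intro s hs
    have h1 := Subgroup.mem_normalizer_iff.mp (le_normalizer_sigmaCore M (hSM hs))
    have h2 := Subgroup.mem_normalizer_iff.mp (Subgroup.le_normalizer (hSX hs))
    rw [Subgroup.mem_normalizer_iff]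
    intro c
    rw [hCdef, Subgroup.mem_inf, Subgroup.mem_inf, h1 c, h2 c]
  -- a maximal subgroup containing `N_G(X)`
  have hX1 : X ≠ ⊥ := by
    intro h
    rw [h, Subgroup.card_bot] at hX
    exact hpp.one_lt.ne hX
  have hXp : IsPGroup p X := IsPGroup.of_card (n := 1) (by rw [hX, pow_one])
  have hXtop : X ≠ ⊤ := ms_pgroup_ne_top hG hXp
  obtain ⟨M₁, hM₁, hNM₁⟩ := ms_exists_coatom_ge (ms_normalizer_ne_top hG hX1 hXtop)
  have hCXM₁ : Subgroup.centralizer (X : Set G) ≤ M₁ :=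
    (Subgroup.centralizer_le_normalizer _).trans hNM₁
  have hCM₁ : C ≤ M₁ := inf_le_right.trans hCXM₁
  have hSM₁ : S ≤ M₁ := hSX.trans hCXM₁
  have hp₁ : p ∉ sigma M₁ := fun h =>
    no_sigma_overgroup hG hM hpM hCσ hSp hSC hne hM₁ (h23 M₁ hM₁) hCM₁ hSM₁ h
  obtain ⟨⟨hr2, hr1⟩, -, -⟩ := Cfsg.Agent.S1409.result hG M₁ hM₁ p hp₁ X hX hNM₁
  have hτ : p ∈ tau2 M₁ := ⟨hpp, hp₁, hr2, hr1⟩
  have hHall₁ := (Cfsg.Agent.S1350.result hG M₁ hM₁).1
  by_cases hq : ∃ q : ℕ, q.Prime ∧ q ∣ Nat.card C ∧ q ∈ sigma M₁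
  · -- case (a)
    obtain ⟨q, hqp, hqC, hq₁⟩ := hq
    obtain ⟨A₀, hA₀M, hA₀e, hA₀c⟩ := exists_elemAb_sq_of_tau2 hτ
    have hnil := (h17 M₁ hM₁ p hτ A₀ ⟨hA₀M, hA₀e, hA₀c⟩).1
    have hqM : q ∈ sigma M :=
      sigmaCore_pi hG hM hqp (hqC.trans (Subgroup.card_dvd_of_le hCσ))
    refine sigma_sigma_disjoint hG hM₁ hM ?_ hnil hq₁ hqM
    intro g hg
    have hA₀g : cj g A₀ ≤ M := hg ▸ cj_mono hA₀M
    have hcomm : ∀ a ∈ A₀, ∀ b ∈ A₀, a * b = b * a := by
      intro a ha b hb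
      have := hA₀e.1.is_comm.comm (⟨a, ha⟩ : A₀) ⟨b, hb⟩
      exact congrArg Subtype.val this
    have h1 := pRankLE_sub_iff.mp hrank (cj g A₀) hA₀g (comm_cj g hcomm) (exp_cj g hA₀e.2)
    rw [card_cj, hA₀c, pow_one] at h1
    have : p < p ^ 2 := by
      calc p = p ^ 1 := (pow_one p).symm
        _ < p ^ 2 := Nat.pow_lt_pow_right hpp.one_lt (by norm_num)
    omega
  · -- case (b)
    push_neg at hq
    have hKM₁ : C ⊔ S ≤ M₁ := sup_le hCM₁ hSM₁
    have hKσ : ∀ r : ℕ, r.Prime → r ∣ Nat.card ↥(C ⊔ S) → r ∉ sigma M₁ := by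
      intro r hr hrd
      have h1 := hrd.trans (Cfsg.Agent.Lib.Helper29.card_sup_dvd_of_le_normalizer C S hSC)
      rcases (Nat.Prime.dvd_mul hr).mp h1 with h2 | h2
      · exact hq r hr h2
      · obtain ⟨k, hk⟩ := hSp.exists_card_eq
        rw [hk] at h2
        have : r = p := (Nat.prime_dvd_prime_iff_eq hr hpp).mp (hr.dvd_of_dvd_pow h2)
        rw [this]; exact hp₁
    obtain ⟨E₁, hE₁, hKE₁⟩ := exists_complIn_ge hG hM₁ hHall₁ hKM₁ hKσ
    obtain ⟨A, hAE₁, hAe, hAc⟩ := exists_elemAb_sq_le_compl hG hM₁ hHall₁ hτ hE₁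
    have hE₁N := (h18 M₁ hM₁ E₁ hE₁ p hτ A ⟨hAE₁, hAe, hAc⟩).1.1
    have hA1 : A ≠ ⊥ := by
      intro h
      rw [h, Subgroup.card_bot] at hAc
      have := Nat.one_lt_pow (n := 2) (by norm_num) hpp.one_lt
      omega
    have hAtop : A ≠ ⊤ := ms_pgroup_ne_top hG (isPGroup_of_pow_eq_one hAe.2)
    obtain ⟨M₂, hM₂, hNM₂⟩ := ms_exists_coatom_ge (ms_normalizer_ne_top hG hA1 hAtop)
    have hp₂ : p ∈ sigma M₂ :=
      mem_sigma_of_normalizer_elemAb_le hG hM₂ (h17 M₂ hM₂) hAe hAc hNM₂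
    have hKM₂ : C ⊔ S ≤ M₂ := hKE₁.trans (hE₁N.trans hNM₂)
    exact no_sigma_overgroup hG hM hpM hCσ hSp hSC hne hM₂ (h23 M₂ hM₂)
      (le_sup_left.trans hKM₂) (le_sup_right.trans hKM₂) hp₂

/-- a cyclic group has `p`-rank at most one -/
theorem pRankLE_one_of_isCyclic {H : Type*} [Group H] [Finite H] [IsCyclic H] (p : ℕ)
    (hp : p.Prime) : PRankLE p 1 H := by
  intro A _ hA
  have h1 : Monoid.exponent A ∣ p := by
    apply Monoid.exponent_dvd_of_forall_pow_eq_one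
    intro a
    exact Subtype.ext (by simpa using hA a a.2)
  rw [IsCyclic.exponent_eq_card] at h1
  rw [pow_one]
  exact Nat.le_of_dvd hp.pos h1

/-- The statement of S1427 (**BG 12.17**) from the statements of S1417, S1418, S1423. -/
theorem s1427_of_hyps (hG : IsMinSimpleOddOrder G)
    (h17 : ∀ L : Subgroup G, IsCoatom L → Hyp17 L) (h18 : ∀ L : Subgroup G, IsCoatom L → Hyp18 L)
    (h23 : ∀ L : Subgroup G, IsCoatom L → Hyp23 L)
    (M : Subgroup G) (hM : IsCoatom M) (E : Subgroup G) (hE : IsComplIn E (sigmaCore M) M)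
    (p : ℕ) [Fact p.Prime] (S : Sylow p E) (hS1 : (S : Subgroup E) ≠ ⊥)
    (hSc : IsCyclic (S : Subgroup E)) :
    ∀ x ∈ (S : Subgroup E).map E.subtype, x ≠ 1 →
      sigmaCore M ⊓ Subgroup.centralizer ({x} : Set G) =
        sigmaCore M ⊓ Subgroup.centralizer
          (((S : Subgroup E).map E.subtype : Subgroup G) : Set G) := by
  have hpp : p.Prime := Fact.out
  have hHall := (Cfsg.Agent.S1350.result hG M hM).1
  set S' : Subgroup G := (S : Subgroup E).map E.subtype with hS'def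
  have hS'E : S' ≤ E := Subgroup.map_subtype_le _
  have hS'M : S' ≤ M := hS'E.trans hE.1
  have hS'p : IsPGroup p S' := S.isPGroup'.map _
  have hcardS' : Nat.card S' = Nat.card (S : Subgroup E) :=
    Nat.card_congr ((S : Subgroup E).equivMapOfInjective E.subtype E.subtype_injective).symm.toEquiv
  -- `p ∉ σ(M)`
  have hpS : p ∣ Nat.card (S : Subgroup E) := by
    obtain ⟨k, hk⟩ := S.isPGroup'.exists_card_eq
    rcases Nat.eq_zero_or_pos k with h0 | h0
    · exfalso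
      rw [h0, pow_zero] at hk
      exact hS1 (Subgroup.card_eq_one.mp hk)
    · rw [hk]; exact dvd_pow_self p h0.ne'
  have hpE : p ∣ Nat.card E := hpS.trans (Subgroup.card_subgroup_dvd_card _)
  have hpM : p ∉ sigma M := complIn_prime_not_mem_sigma hHall hE p hpp hpE
  -- `S'` is a Sylow `p`-subgroup of `M`
  have hpσ : ¬ p ∣ Nat.card (sigmaCore M) := fun h => hpM (sigmaCore_pi hG hM hpp h)
  have hSyl : IsSylowIn p M S' := by
    refine ⟨hS'M, hS'p, ?_⟩
    intro T hTM hTp hle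
    obtain ⟨k, hk⟩ := hTp.exists_card_eq
    have h1 : p ^ k ∣ Nat.card E * Nat.card (sigmaCore M) := by
      rw [Cfsg.Agent.Lib.Helper31.IsComplIn.card_mul hE, ← hk]
      exact Subgroup.card_dvd_of_le hTM
    have h2 : p ^ k ∣ Nat.card E :=
      Nat.Coprime.dvd_of_dvd_mul_right
        (Nat.Coprime.pow_left k ((Nat.Prime.coprime_iff_not_dvd hpp).mpr hpσ)) h1
    have h3 : k ≤ (Nat.card E).factorization p :=
      (hpp.pow_dvd_iff_le_factorization Nat.card_pos.ne').mp h2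
    have h4 : Nat.card T ≤ Nat.card S' := by
      rw [hk, hcardS', S.card_eq_multiplicity]
      exact Nat.pow_le_pow_right hpp.pos h3
    exact (Subgroup.eq_of_le_of_card_ge hle h4).symm
  haveI : IsCyclic S' := by
    have e := (S : Subgroup E).equivMapOfInjective E.subtype E.subtype_injective
    exact isCyclic_of_surjective e.toMonoidHom e.surjective
  have hrank : PRankLE p 1 M := pRankLE_of_isSylowIn hSyl (pRankLE_one_of_isCyclic p hpp)
  have hcomm : ∀ a ∈ S', ∀ b ∈ S', a * b = b * a := by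
    intro a ha b hb
    have := (IsCyclic.commGroup (α := S')).mul_comm ⟨a, ha⟩ ⟨b, hb⟩
    exact congrArg Subtype.val this
  intro x hx hx1
  apply le_antisymm
  · -- the main inclusion
    refine le_inf inf_le_left ?_
    -- a subgroup of order `p` in `⟨x⟩`
    have hzp : IsPGroup p (Subgroup.zpowers x) := hS'p.to_le (by rwa [Subgroup.zpowers_le])
    have hz1 : Nat.card (Subgroup.zpowers x) ≠ 1 := by
      intro h
      have := Subgroup.card_eq_one.mp h
      rw [Subgroup.zpowers_eq_bot] at this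
      exact hx1 this
    have hpz : p ∣ Nat.card (Subgroup.zpowers x) := by
      obtain ⟨k, hk⟩ := hzp.exists_card_eq
      rcases Nat.eq_zero_or_pos k with h0 | h0
      · exfalso; rw [h0, pow_zero] at hk; exact hz1 hk
      · rw [hk]; exact dvd_pow_self p h0.ne'
    obtain ⟨z, hz⟩ := exists_prime_orderOf_dvd_card' p hpz
    set X : Subgroup G := Subgroup.zpowers (z : G) with hXdef
    have hXx : X ≤ Subgroup.zpowers x := by
      rw [hXdef, Subgroup.zpowers_le]; exact z.2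
    have hXS : X ≤ S' := hXx.trans (by rwa [Subgroup.zpowers_le])
    have hXc : Nat.card X = p := by
      rw [hXdef, Nat.card_zpowers, Subgroup.orderOf_coe, hz]
    have hmain := sigmaCore_inf_centralizer_le hG h17 h18 h23 hM hpM hrank hS'M hS'p hcomm hXS hXc
    refine le_trans ?_ hmain
    refine le_inf inf_le_left ?_
    intro y hy
    have hyx : y ∈ Subgroup.centralizer ({x} : Set G) := hy.2
    rw [Subgroup.mem_centralizer_iff]
    intro w hw
    have hwx : w ∈ Subgroup.zpowers x := hXx hw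
    obtain ⟨n, rfl⟩ := Subgroup.mem_zpowers_iff.mp hwx
    have hcx : Commute x y := by
      have := Subgroup.mem_centralizer_iff.mp hyx x (Set.mem_singleton x)
      exact this
    exact (hcx.zpow_left n).eq
  · refine le_inf inf_le_left (inf_le_right.trans ?_)
    apply Subgroup.centralizer_le
    intro w hw
    rw [Set.mem_singleton_iff] at hw
    rw [hw]; exact hx

end Cfsg.Agent.Lib.Helper58.BG12
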