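import Mathlib
import Cfsg.Agent.S1350
import Cfsg.Agent.S1405
import Cfsg.Agent.S1415
import Cfsg.Agent.S1417
import Cfsg.Agent.S1423
import Cfsg.Agent.Lib.Helper31.BG134Defs2
import Cfsg.Agent.Lib.Helper31.BG12a
import Cfsg.Agent.Lib.Helper55.SylowIn
import Cfsg.Agent.Lib.Helper13.BG12A
import Cfsg.Agent.Lib.Helper13.BG12B
import Cfsg.Agent.Lib.Helper14.NilpHall
import Cfsg.Agent.Lib.Helper16.BG134Asm
import Cfsg.Agent.Lib.Helper71.BG10Sub
import Cfsg.Agent.Lib.Helper01.BGBeta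

/-!
# BG Lemma 13.4 (S1428), keystone 142825/142835 (K-S1428-A3): `Ctx.caseA_fix`

CASE A, steps A2-A3: the cyclic Hall `τ₁(M)`-subgroup `E₁ ∋ P` of `E` acts without fixed points on
`Sq`.
-/

set_option autoImplicit false
set_option linter.unusedSectionVars false
set_option linter.unusedVariables false

namespace Cfsg.Agent.Lib.Helper58.BG134

open Cfsg Cfsg.Agent.Lib.Helper55 Cfsg.Agent.Lib.Helper31.BG134
open scoped commutatorElement

variable {G : Type*} [Group G] [Finite G]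

/-- elements of `M'` of coprime orders have their commutator in `M_α` (S1405, last clause) -/
theorem commutatorElement_mem_alphaCore (hG : IsMinSimpleOddOrder G) {M : Subgroup G}
    (hM : IsCoatom M) {x y : G} (hx : x ∈ ⁅M, M⁆) (hy : y ∈ ⁅M, M⁆)
    (hxy : (orderOf x).Coprime (orderOf y)) : ⁅x, y⁆ ∈ alphaCore M := by
  have hnil := (Cfsg.Agent.S1405.result hG M hM).2.2.2.2
  have hxM : x ∈ M := Subgroup.commutator_le_self M hx
  have hyM : y ∈ M := Subgroup.commutator_le_self M hy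
  have hx' : (⟨x, hxM⟩ : ↥M) ∈ commutator ↥M := by
    rw [← Subgroup.map_subtype_commutator M] at hx
    obtain ⟨z, hz, hzx⟩ := hx
    have : z = ⟨x, hxM⟩ := Subtype.ext hzx
    rwa [← this]
  have hy' : (⟨y, hyM⟩ : ↥M) ∈ commutator ↥M := by
    rw [← Subgroup.map_subtype_commutator M] at hy
    obtain ⟨z, hz, hzy⟩ := hy
    have : z = ⟨y, hyM⟩ := Subtype.ext hzy
    rwa [← this]
  set φ := QuotientGroup.mk' (piCore (alpha M) ↥M) with hφ
  have ha : φ ⟨x, hxM⟩ ∈ (commutator ↥M).map φ := Subgroup.mem_map_of_mem φ hx'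
  have hb : φ ⟨y, hyM⟩ ∈ (commutator ↥M).map φ := Subgroup.mem_map_of_mem φ hy'
  have hcop : (orderOf (φ ⟨x, hxM⟩)).Coprime (orderOf (φ ⟨y, hyM⟩)) := by
    have h1 : orderOf (φ ⟨x, hxM⟩) ∣ orderOf x := by
      have := orderOf_map_dvd φ (⟨x, hxM⟩ : ↥M)
      rwa [Subgroup.orderOf_mk] at this
    have h2 : orderOf (φ ⟨y, hyM⟩) ∣ orderOf y := by
      have := orderOf_map_dvd φ (⟨y, hyM⟩ : ↥M)
      rwa [Subgroup.orderOf_mk] at this
    exact Nat.Coprime.of_dvd h1 h2 hxy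
  have hcomm := Cfsg.Agent.Lib.Helper14.commute_of_mem_nilpotent hnil ha hb hcop
  have hker : ⁅(⟨x, hxM⟩ : ↥M), (⟨y, hyM⟩ : ↥M)⁆ ∈ piCore (alpha M) ↥M := by
    rw [← QuotientGroup.ker_mk' (piCore (alpha M) ↥M), MonoidHom.mem_ker, map_commutatorElement]
    exact commutatorElement_eq_one_iff_mul_comm.mpr hcomm
  exact ⟨_, hker, rfl⟩

/-- a nontrivial `q`-group has order divisible by `q` -/
theorem dvd_card_of_isPGroup_ne_bot {q : ℕ} [Fact q.Prime] {D : Subgroup G} (hD : IsPGroup q D)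
    (hD1 : D ≠ ⊥) : q ∣ Nat.card D := by
  obtain ⟨n, hn⟩ := IsPGroup.iff_card.mp hD
  have hn0 : n ≠ 0 := by
    rintro rfl
    rw [pow_zero] at hn
    exact hD1 (Subgroup.card_eq_one.mp hn)
  rw [hn]
  exact dvd_pow_self q hn0

/-- a prime dividing the order of a `q`-group is `q` -/
theorem eq_of_prime_dvd_card_isPGroup {q : ℕ} [Fact q.Prime] {D : Subgroup G} (hD : IsPGroup q D)
    {s : ℕ} (hs : s.Prime) (hsd : s ∣ Nat.card D) : s = q := by
  obtain ⟨n, hn⟩ := IsPGroup.iff_card.mp hD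
  rw [hn] at hsd
  exact (Nat.prime_dvd_prime_iff_eq hs Fact.out).mp (hs.dvd_of_dvd_pow hsd)

/-- **KEYSTONE 142825 / 142835  K-S1428-A3**  (CASE A, steps A2-A3 of BG 13.4). -/
theorem Ctx.caseA_fix {M P R H : Subgroup G} {p r : ℕ} (c : Ctx M P R H p r)
    (hnc : ∀ g : G, cj g M ≠ H) (h26 : H1426 G) {q : ℕ} [Fact q.Prime] (hqH : q ∈ sigma H)
    {Sq : Subgroup G} (hSq : IsSylowIn q ⊤ Sq) (hSqC : Sq ≤ CP M P)
    (hN : Subgroup.normalizer (Sq : Set G) ≤ M ⊓ H) {E : Subgroup G}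
    (hE : IsComplIn E (sigmaCore M) M) (hPE : P ≤ E) (hESq : E ≤ Subgroup.normalizer (Sq : Set G)) :
    ∃ E₁ : Subgroup G, IsPiHallOf (tau1 M) E₁ E ∧ IsCyclic E₁ ∧ P ≤ E₁ ∧
      Sq ⊓ Subgroup.centralizer (E₁ : Set G) = ⊥ := by
  have hG := c.hG
  have hM := c.hM
  have hH := c.hH
  have hHall := (Cfsg.Agent.S1350.result hG M hM).1
  have hEtop : E ≠ ⊤ := fun h => hM.1 (top_le_iff.mp (h ▸ hE.1))
  have hsolv : Group.IsSolvable ↥E := ms_solvable hG hEtop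
  obtain ⟨hnilE, h15a, h15b⟩ := Cfsg.Agent.S1415.result hG M hM E hE
  -- the Hall `τ₁(M)`-subgroup `E₁ ≥ P`
  have hPτ : ∀ s : ℕ, s.Prime → s ∣ Nat.card (P.subgroupOf E) → s ∈ tau1 M := by
    intro s hs hsd
    rw [Nat.card_congr (Subgroup.subgroupOfEquivOfLe hPE).toEquiv, c.hPc] at hsd
    have : s = p := (Nat.prime_dvd_prime_iff_eq hs c.hp.1).mp hsd
    rw [this]
    exact c.hp
  obtain ⟨L, hPL, hL1, hL2⟩ :=
    Cfsg.Agent.Lib.Helper71.BG10.exists_hall_ge (tau1 M) (P.subgroupOf E) hPτ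
  have hE₁ : IsPiHallOf (tau1 M) (L.map E.subtype) E := by
    refine ⟨Subgroup.map_subtype_le _, ?_, ?_⟩
    · intro s hs hsd
      rw [Subgroup.card_map_of_injective E.subtype_injective] at hsd
      exact hL1 s hs hsd
    · intro s hs hsπ hsd
      rw [Subgroup.relIndex, Subgroup.subgroupOf,
        Subgroup.comap_map_eq_self_of_injective E.subtype_injective] at hsd
      exact hL2 s hs hsd hsπ
  have hPE₁ : P ≤ L.map E.subtype := by
    intro x hx
    exact ⟨⟨x, hPE hx⟩, hPL (Subgroup.mem_subgroupOf.mpr hx), rfl⟩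
  generalize L.map E.subtype = E₁ at hE₁ hPE₁
  have hE₁c : IsCyclic E₁ := h15a E₁ hE₁
  refine ⟨E₁, hE₁, hE₁c, hPE₁, ?_⟩
  by_contra hne
  -- basic facts on `Sq`
  have hSqMH : Sq ≤ M ⊓ H := Subgroup.le_normalizer.trans hN
  have hSqM : Sq ≤ M := hSqMH.trans inf_le_left
  have hSqHH : Sq ≤ H := hSqMH.trans inf_le_right
  have hSqσ : Sq ≤ sigmaCore M := hSqC.trans inf_le_left
  have hSqq : IsPGroup q Sq := hSq.2.1
  have hSq1 : Sq ≠ ⊥ := by
    rintro rfl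
    exact hne (by simp)
  have hqM : q ∈ sigma M :=
    Cfsg.Agent.Lib.Helper71.BG11.sigmaCore_pi hG hM Fact.out
      ((dvd_card_of_isPGroup_ne_bot hSqq hSq1).trans (Subgroup.card_dvd_of_le hSqσ))
  -- `τ₂(M) = ∅`
  have hτ₂ : ∀ s : ℕ, s ∉ tau2 M := by
    intro s hs
    have : Fact s.Prime := ⟨hs.1⟩
    obtain ⟨A, hA⟩ := Cfsg.Agent.Lib.Helper13.BG12.exists_elemAb_sq_of_tau2 hs
    have hnil := (Cfsg.Agent.S1417.result hG M hM s hs A hA).1
    exact Cfsg.Agent.Lib.Helper31.BG12.sigma_sigma_disjoint hG hM hH hnc hnil hqM hqH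
  -- the Hall `τ₃(M)`-subgroup `E₃`
  obtain ⟨H₀, hE₃, -⟩ := Cfsg.Agent.Lib.Helper01.BGBeta.exists_hallOf E (tau3 M)
  generalize H₀.map E.subtype = E₃ at hE₃
  obtain ⟨hE₃c, hE₃E', hE₃n⟩ := h15b E₃ hE₃
  -- `E = E₁ E₃`
  have hEsup : E ≤ E₁ ⊔ E₃ := by
    rw [← Subgroup.relIndex_eq_one]
    by_contra h1
    obtain ⟨s, hs, hsd⟩ := Nat.exists_prime_and_dvd h1
    have hsE : s ∣ Nat.card E := hsd.trans (Subgroup.index_dvd_card _)
    have hsσ : s ∉ sigma M :=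
      Cfsg.Agent.Lib.Helper13.BG12.complIn_prime_not_mem_sigma hHall hE s hs hsE
    have hsM : s ∣ Nat.card M := hsE.trans (Subgroup.card_dvd_of_le hE.1)
    rcases Cfsg.Agent.Lib.Helper16.BG134.mem_tau_cases hG hM hs hsM hsσ with h | h | h
    · exact hE₁.2.2 s hs h (hsd.trans (Subgroup.relIndex_dvd_of_le_left E le_sup_left))
    · exact hτ₂ s h
    · exact hE₃.2.2 s hs h (hsd.trans (Subgroup.relIndex_dvd_of_le_left E le_sup_right))
  -- `Sq ∩ M_α = 1`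
  have hSqα : Sq ⊓ alphaCore M = ⊥ := by
    apply Cfsg.Agent.Lib.Helper31.BG12.eq_bot_of_forall_prime_not_dvd
    intro s hs hsd
    have h1 : s = q :=
      eq_of_prime_dvd_card_isPGroup hSqq hs (hsd.trans (Subgroup.card_dvd_of_le inf_le_left))
    have h2 : s ∈ alpha M :=
      Cfsg.Agent.Lib.Helper31.BG12.alphaCore_pi hs (hsd.trans (Subgroup.card_dvd_of_le inf_le_right))
    rw [h1] at h2
    exact Cfsg.Agent.Lib.Helper31.BG12.alpha_sigma_disjoint hG hM hH hnc h2 hqH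
  -- `Sq ≤ M'`
  have hσM' : sigmaCore M ≤ ⁅M, M⁆ := by
    have h1 := (h26 M hM E hE).2.1
    calc sigmaCore M = ⁅sigmaCore M, E⁆ := h1.symm
      _ ≤ ⁅M, M⁆ := Subgroup.commutator_mono (Cfsg.Agent.Lib.Helper71.BG11.sigmaCore_le M) hE.1
  -- `E₃` centralizes `Sq`
  have hE₃Sq : ∀ x ∈ E₃, ∀ y ∈ Sq, x * y = y * x := by
    intro x hx y hy
    have hxM' : x ∈ ⁅M, M⁆ := Subgroup.commutator_mono hE.1 hE.1 (hE₃E' hx)
    have hyM' : y ∈ ⁅M, M⁆ := hσM' (hSqσ hy)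
    have hcop : (orderOf x).Coprime (orderOf y) := by
      apply Nat.coprime_of_dvd
      intro s hs hsx hsy
      have h1 : s ∈ tau3 M := hE₃.2.1 s hs (hsx.trans (Subgroup.orderOf_dvd_natCard E₃ hx))
      have h2 : s = q :=
        eq_of_prime_dvd_card_isPGroup hSqq hs (hsy.trans (Subgroup.orderOf_dvd_natCard Sq hy))
      rw [h2] at h1
      exact h1.2.1 hqM
    have h1 : ⁅x, y⁆ ∈ alphaCore M := commutatorElement_mem_alphaCore hG hM hxM' hyM' hcop
    have hxN : x ∈ Subgroup.normalizer (Sq : Set G) := hESq (hE₃.1 hx)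
    have h2 : ⁅x, y⁆ ∈ Sq := by
      rw [commutatorElement_def]
      exact Sq.mul_mem ((Subgroup.mem_normalizer_iff.mp hxN y).mp hy) (Sq.inv_mem hy)
    have h3 : ⁅x, y⁆ ∈ Sq ⊓ alphaCore M := ⟨h2, h1⟩
    rw [hSqα, Subgroup.mem_bot] at h3
    exact commutatorElement_eq_one_iff_mul_comm.mp h3
  -- `Sq ∩ C(E₁) ≤ C(E)`
  set D := Sq ⊓ Subgroup.centralizer (E₁ : Set G) with hD
  have hDE : D ≤ Subgroup.centralizer (E : Set G) := by
    intro d hd
    have hdc : E₁ ⊔ E₃ ≤ Subgroup.centralizer ({d} : Set G) := by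
      apply sup_le
      · intro e he
        rw [Subgroup.mem_centralizer_singleton_iff]
        exact Subgroup.mem_centralizer_iff.mp hd.2 e he
      · intro e he
        rw [Subgroup.mem_centralizer_singleton_iff]
        exact hE₃Sq e he d hd.1
    rw [Subgroup.mem_centralizer_iff]
    intro e he
    have := hdc (hEsup he)
    rw [Subgroup.mem_centralizer_singleton_iff] at this
    exact this
  have hDσ' : D ≤ ⁅sigmaCore M, sigmaCore M⁆ := by
    intro d hd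
    exact (h26 M hM E hE).1 ⟨hSqσ hd.1, hDE hd⟩
  -- a subgroup of order `q` in `D`
  have hDq : IsPGroup q D := hSqq.to_le inf_le_left
  have hqD : q ∣ Nat.card D := dvd_card_of_isPGroup_ne_bot hDq hne
  obtain ⟨d, hd⟩ := exists_prime_orderOf_dvd_card' (G := ↥D) q hqD
  have hXc : Nat.card (Subgroup.zpowers (d : G)) = q := by
    rw [Nat.card_zpowers, Subgroup.orderOf_coe, hd]
  have hXD : Subgroup.zpowers (d : G) ≤ D := by
    rw [Subgroup.zpowers_le]
    exact d.2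
  -- S1423
  have hSqσS : IsSylowIn q (sigmaCore M) Sq :=
    ⟨hSqσ, hSqq, fun T' _ hT'p hle => hSq.2.2 T' le_top hT'p hle⟩
  have h23 := (Cfsg.Agent.S1423.result hG M hM q hqM (Subgroup.zpowers (d : G))
    ((hXD.trans inf_le_left).trans hSqM) hXc hSqσS.toSylow (Or.inr (hXD.trans hDσ'))).2.1
  rw [hSqσS.map_toSylow] at h23
  obtain ⟨L', -, huniq⟩ := h23
  have e1 : M = L' := huniq M ⟨hM, hSqM⟩
  have e2 : H = L' := huniq H ⟨hH, hSqHH⟩
  apply hnc 1
  rw [cj_one, e1, e2]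

end Cfsg.Agent.Lib.Helper58.BG134
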