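import Mathlib
import Cfsg.Agent.Lib.Helper58.BG134A3

/-!
# BG Lemma 13.4 (S1428), keystone 142803 (K-S1428-G3): `centralizes_of_le_commutator` (Lemma T)
-/

set_option autoImplicit false
set_option linter.unusedSectionVars false
set_option linter.unusedVariables false

namespace Cfsg.Agent.Lib.Helper58.BG134

open Cfsg Cfsg.Agent.Lib.Helper55 Cfsg.Agent.Lib.Helper31.BG134
open scoped commutatorElement

variable {G : Type*} [Group G] [Finite G]

/-- if `x` commutes with `c = [x,d]` then `x ^ k * d * (x ^ k)⁻¹ = c ^ k * d` -/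
theorem pow_conj_eq_of_commute_commutator {x d c : G} (hc : c = x * d * x⁻¹ * d⁻¹)
    (hxc : x * c = c * x) (k : ℕ) : x ^ k * d * (x ^ k)⁻¹ = c ^ k * d := by
  induction k with
  | zero => simp
  | succ k ih =>
    have h1 : x ^ (k + 1) * d * (x ^ (k + 1))⁻¹ = x * (x ^ k * d * (x ^ k)⁻¹) * x⁻¹ := by
      rw [pow_succ']; group
    have h2 : x * c ^ k = c ^ k * x := (Commute.pow_right (show Commute x c from hxc) k).eq
    have h3 : x * d * x⁻¹ = c * d := by rw [hc]; group
    rw [h1, ih]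
    calc x * (c ^ k * d) * x⁻¹ = (x * c ^ k) * d * x⁻¹ := by group
      _ = c ^ k * x * d * x⁻¹ := by rw [h2]
      _ = c ^ k * (x * d * x⁻¹) := by group
      _ = c ^ k * (c * d) := by rw [h3]
      _ = c ^ (k + 1) * d := by rw [pow_succ]; group

/-- **KEYSTONE 142803  K-S1428-G3**  (LEMMA T). -/
theorem centralizes_of_le_commutator (hG : IsMinSimpleOddOrder G) {M H : Subgroup G}
    (hM : IsCoatom M) (hH : IsCoatom H) (hnc : ∀ g : G, cj g M ≠ H)
    {s : ℕ} [Fact s.Prime] (hsM : s ∉ sigma M) {X : Subgroup G} (hXs : IsPGroup s X)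
    (hXM : X ≤ M) (hXH : X ≤ H) (hXc : X ≤ ⁅H, H⁆) :
    X ≤ Subgroup.centralizer ((sigmaCore M ⊓ H : Subgroup G) : Set G) := by
  have hnc' : ∀ g : G, cj g H ≠ M := by
    intro g hg
    apply hnc g⁻¹
    rw [← hg, cj_inv_cj]
  have hαυ : alphaCore H ⊓ sigmaCore M = ⊥ :=
    Cfsg.Agent.Lib.Helper31.BG12.alphaCore_inf_sigmaCore hG hH hM hnc'
  have hsσ : ¬ s ∣ Nat.card (sigmaCore M) := fun h =>
    hsM (Cfsg.Agent.Lib.Helper71.BG11.sigmaCore_pi hG hM Fact.out h)
  -- coprimality of an element of `X` and an element of `M_σ`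
  have hcop : ∀ x ∈ X, ∀ y ∈ sigmaCore M, (orderOf x).Coprime (orderOf y) := by
    intro x hx y hy
    obtain ⟨n, hn⟩ := hXs ⟨x, hx⟩
    have h1 : orderOf x ∣ s ^ n := by
      apply orderOf_dvd_of_pow_eq_one
      have := congrArg Subtype.val hn
      simpa using this
    have h2 : orderOf y ∣ Nat.card (sigmaCore M) := Subgroup.orderOf_dvd_natCard _ hy
    have h3 : (s ^ n).Coprime (Nat.card (sigmaCore M)) :=
      Nat.Coprime.pow_left n ((Nat.Prime.coprime_iff_not_dvd Fact.out).mpr hsσ)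
    exact Nat.Coprime.of_dvd h1 h2 h3
  -- (i) `x ∈ X` centralizes `M_σ ∩ H'`
  have hi : ∀ x ∈ X, ∀ y ∈ sigmaCore M, y ∈ ⁅H, H⁆ → x * y = y * x := by
    intro x hx y hy hyH'
    have h1 : ⁅x, y⁆ ∈ alphaCore H :=
      commutatorElement_mem_alphaCore hG hH (hXc hx) hyH' (hcop x hx y hy)
    have hxN : x ∈ Subgroup.normalizer (sigmaCore M : Set G) :=
      Cfsg.Agent.Lib.Helper71.BG11.le_normalizer_sigmaCore M (hXM hx)
    have h2 : ⁅x, y⁆ ∈ sigmaCore M := by
      rw [commutatorElement_def]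
      exact (sigmaCore M).mul_mem ((Subgroup.mem_normalizer_iff.mp hxN y).mp hy)
        ((sigmaCore M).inv_mem hy)
    have h3 : ⁅x, y⁆ ∈ alphaCore H ⊓ sigmaCore M := ⟨h1, h2⟩
    rw [hαυ, Subgroup.mem_bot] at h3
    exact commutatorElement_eq_one_iff_mul_comm.mp h3
  -- (ii)
  intro x hx
  rw [Subgroup.mem_centralizer_iff]
  intro d hd
  have hdσ : d ∈ sigmaCore M := hd.1
  have hdH : d ∈ H := hd.2
  have hxN : x ∈ Subgroup.normalizer (sigmaCore M : Set G) :=
    Cfsg.Agent.Lib.Helper71.BG11.le_normalizer_sigmaCore M (hXM hx)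
  set c := x * d * x⁻¹ * d⁻¹ with hc
  have hcσ : c ∈ sigmaCore M :=
    (sigmaCore M).mul_mem ((Subgroup.mem_normalizer_iff.mp hxN d).mp hdσ)
      ((sigmaCore M).inv_mem hdσ)
  have hcH' : c ∈ ⁅H, H⁆ := by
    have := Subgroup.commutator_mem_commutator (hXH hx) hdH
    rwa [commutatorElement_def] at this
  have hxc : x * c = c * x := hi x hx c hcσ hcH'
  have hpow := pow_conj_eq_of_commute_commutator hc hxc (orderOf x)
  rw [pow_orderOf_eq_one, inv_one, one_mul, mul_one] at hpow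
  have hc1 : c ^ orderOf x = 1 := by
    have : c ^ orderOf x * d = 1 * d := by rw [one_mul]; exact hpow.symm
    exact mul_right_cancel this
  have hcc : c = 1 := by
    have h1 : orderOf c ∣ orderOf x := orderOf_dvd_of_pow_eq_one hc1
    have h2 : (orderOf x).Coprime (orderOf c) := hcop x hx c hcσ
    have h3 : orderOf c ∣ 1 := by
      have := Nat.dvd_gcd h1 (dvd_refl (orderOf c))
      rwa [h2.gcd_eq_one] at this
    exact orderOf_eq_one_iff.mp (Nat.dvd_one.mp h3)
  -- `d * x = x * d`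
  have : x * d * x⁻¹ * d⁻¹ = 1 := hcc
  calc d * x = (x * d * x⁻¹ * d⁻¹)⁻¹ * (x * d) := by group
    _ = x * d := by rw [this, inv_one, one_mul]

end Cfsg.Agent.Lib.Helper58.BG134
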