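import Mathlib
import Cfsg.Agent.S1426
import Cfsg.Agent.Lib.Helper58.BG134A3

/-!
# BG Theorem 13.9 (σ-partition, S1378), Part I steps 1-6 in context-free form

`M`, `H` non-conjugate maximal subgroups, `Sq` a Sylow `q`-subgroup of `G` with `Sq ≤ M_σ`, `Sq ≤ H`,
`q ∈ σ(H)`, `E` a complement of `M_σ` in `M` normalizing `Sq`.  Then `q ∈ σ(M)`, `τ₂(M) = ∅`,
`E = E₁ E₃`, `E₃` centralizes `Sq`, `Sq ∩ C(E) = 1` and `Sq ∩ C(E₁) = 1`.
(This is the argument of the S1428 leaf A3 `Ctx.caseA_fix`, without the 13.4 context.)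
-/

set_option autoImplicit false
set_option linter.unusedSectionVars false
set_option linter.unusedVariables false

namespace Cfsg.Agent.Lib.Helper58.BG139

open Cfsg Cfsg.Agent.Lib.Helper55 Cfsg.Agent.Lib.Helper58.BG134
open scoped commutatorElement

variable {G : Type*} [Group G] [Finite G]

/-- `q ∈ σ(M)` for a nontrivial `q`-subgroup of `M_σ` -/
theorem mem_sigma_of_le_sigmaCore (hG : IsMinSimpleOddOrder G) {M : Subgroup G} (hM : IsCoatom M)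
    {q : ℕ} [Fact q.Prime] {Sq : Subgroup G} (hSqq : IsPGroup q Sq) (hSq1 : Sq ≠ ⊥)
    (hSqσ : Sq ≤ sigmaCore M) : q ∈ sigma M :=
  Cfsg.Agent.Lib.Helper71.BG11.sigmaCore_pi hG hM Fact.out
    ((dvd_card_of_isPGroup_ne_bot hSqq hSq1).trans (Subgroup.card_dvd_of_le hSqσ))

/-- a common `σ`-prime of non-conjugate maximal subgroups forces `τ₂(M) = ∅` -/
theorem tau2_empty_of_common_sigma (hG : IsMinSimpleOddOrder G) {M H : Subgroup G}
    (hM : IsCoatom M) (hH : IsCoatom H) (hnc : ∀ g : G, cj g M ≠ H) {q : ℕ}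
    (hqM : q ∈ sigma M) (hqH : q ∈ sigma H) : ∀ s : ℕ, s ∉ tau2 M := by
  intro s hs
  have : Fact s.Prime := ⟨hs.1⟩
  obtain ⟨A, hA⟩ := Cfsg.Agent.Lib.Helper13.BG12.exists_elemAb_sq_of_tau2 hs
  have hnil := (Cfsg.Agent.S1417.result hG M hM s hs A hA).1
  exact Cfsg.Agent.Lib.Helper31.BG12.sigma_sigma_disjoint hG hM hH hnc hnil hqM hqH

/-- `E = E₁ E₃` when `τ₂(M) = ∅` -/
theorem le_sup_hall_tau1_tau3 (hG : IsMinSimpleOddOrder G) {M : Subgroup G} (hM : IsCoatom M)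
    (hτ₂ : ∀ s : ℕ, s ∉ tau2 M) {E : Subgroup G} (hE : IsComplIn E (sigmaCore M) M)
    {E₁ E₃ : Subgroup G} (hE₁ : IsPiHallOf (tau1 M) E₁ E) (hE₃ : IsPiHallOf (tau3 M) E₃ E) :
    E ≤ E₁ ⊔ E₃ := by
  have hHall := (Cfsg.Agent.S1350.result hG M hM).1
  rw [← Subgroup.relIndex_eq_one]
  by_contra h1
  obtain ⟨s, hs, hsd⟩ := Nat.exists_prime_and_dvd h1
  have hsE : s ∣ Nat.card E := hsd.trans (Subgroup.index_dvd_card _)
  have hsσ : s ∉ sigma M :=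
    Cfsg.Agent.Lib.Helper13.BG12.complIn_prime_not_mem_sigma hHall hE s hs hsE
  have hsM : s ∣ Nat.card M := hsE.trans (Subgroup.card_dvd_of_le hE.1)
  rcases Cfsg.Agent.Lib.Helper16.BG134.mem_tau_cases hG hM hs hsM hsσ with h | h | h
  · exact hE₁.2.2 s hs h (hsd.trans (Subgroup.relIndex_dvd_of_le_left E le_sup_left))
  · exact hτ₂ s h
  · exact hE₃.2.2 s hs h (hsd.trans (Subgroup.relIndex_dvd_of_le_left E le_sup_right))

/-- `M_σ ≤ M'` (from S1426) -/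
theorem sigmaCore_le_commutator (hG : IsMinSimpleOddOrder G) {M : Subgroup G} (hM : IsCoatom M)
    {E : Subgroup G} (hE : IsComplIn E (sigmaCore M) M) : sigmaCore M ≤ ⁅M, M⁆ := by
  have h1 := (Cfsg.Agent.S1426.result hG M hM E hE).2.1
  calc sigmaCore M = ⁅sigmaCore M, E⁆ := h1.symm
    _ ≤ ⁅M, M⁆ := Subgroup.commutator_mono (Cfsg.Agent.Lib.Helper71.BG11.sigmaCore_le M) hE.1

/-- **Step 6**: a Hall `τ₃(M)`-subgroup `E₃` of a complement `E` normalizing `Sq` centralizes the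
`q`-subgroup `Sq ≤ M_σ`, provided `q ∉ α(M)` (e.g. `q ∈ σ(H)` for `H` not conjugate to `M`). -/
theorem hall_tau3_centralizes (hG : IsMinSimpleOddOrder G) {M : Subgroup G} (hM : IsCoatom M)
    {q : ℕ} [Fact q.Prime] (hqM : q ∈ sigma M) (hqα : q ∉ alpha M)
    {Sq : Subgroup G} (hSqq : IsPGroup q Sq) (hSqσ : Sq ≤ sigmaCore M)
    {E : Subgroup G} (hE : IsComplIn E (sigmaCore M) M)
    {E₃ : Subgroup G} (hE₃ : IsPiHallOf (tau3 M) E₃ E)
    (hE₃Sq : E₃ ≤ Subgroup.normalizer (Sq : Set G)) :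
    ∀ x ∈ E₃, ∀ y ∈ Sq, x * y = y * x := by
  obtain ⟨hnilE, h15a, h15b⟩ := Cfsg.Agent.S1415.result hG M hM E hE
  obtain ⟨hE₃c, hE₃E', hE₃n⟩ := h15b E₃ hE₃
  have hSqα : Sq ⊓ alphaCore M = ⊥ := by
    apply Cfsg.Agent.Lib.Helper31.BG12.eq_bot_of_forall_prime_not_dvd
    intro s hs hsd
    have h1 : s = q :=
      eq_of_prime_dvd_card_isPGroup hSqq hs (hsd.trans (Subgroup.card_dvd_of_le inf_le_left))
    have h2 : s ∈ alpha M :=
      Cfsg.Agent.Lib.Helper31.BG12.alphaCore_pi hs (hsd.trans (Subgroup.card_dvd_of_le inf_le_right))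
    rw [h1] at h2
    exact hqα h2
  have hσM' := sigmaCore_le_commutator hG hM hE
  intro x hx y hy
  have hxM' : x ∈ ⁅M, M⁆ := Subgroup.commutator_mono hE.1 hE.1 (hE₃E' hx)
  have hyM' : y ∈ ⁅M, M⁆ := hσM' (hSqσ hy)
  have hcop : (orderOf x).Coprime (orderOf y) := by
    apply Nat.coprime_of_dvd
    intro s hs hsx hsy
    have h1 : s ∈ tau3 M := hE₃.2.1 s hs (hsx.trans (Subgroup.orderOf_dvd_natCard E₃ hx))
    have h2 : s = q :=
      eq_of_prime_dvd_card_isPGroup hSqq hs (hsy.trans (Subgroup.orderOf_dvd_natCard Sq hy))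
    rw [h2] at h1
    exact h1.2.1 hqM
  have h1 : ⁅x, y⁆ ∈ alphaCore M := commutatorElement_mem_alphaCore hG hM hxM' hyM' hcop
  have hxN : x ∈ Subgroup.normalizer (Sq : Set G) := hE₃Sq hx
  have h2 : ⁅x, y⁆ ∈ Sq := by
    rw [commutatorElement_def]
    exact Sq.mul_mem ((Subgroup.mem_normalizer_iff.mp hxN y).mp hy) (Sq.inv_mem hy)
  have h3 : ⁅x, y⁆ ∈ Sq ⊓ alphaCore M := ⟨h2, h1⟩
  rw [hSqα, Subgroup.mem_bot] at h3
  exact commutatorElement_eq_one_iff_mul_comm.mp h3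

/-- **Step 5**: if a Sylow `q`-subgroup `Sq ≤ M_σ` of `G` lies in a second maximal subgroup `H ≠ M`
then `Sq ∩ (M_σ)' = 1`, hence `Sq ∩ C(E) = 1` (S1423 + S1426). -/
theorem sylow_inf_commutator_eq_bot (hG : IsMinSimpleOddOrder G) {M H : Subgroup G}
    (hM : IsCoatom M) (hH : IsCoatom H) (hne : M ≠ H) {q : ℕ} [Fact q.Prime]
    {Sq : Subgroup G} (hSq : IsSylowIn q ⊤ Sq) (hSqσ : Sq ≤ sigmaCore M) (hSqH : Sq ≤ H) :
    Sq ⊓ ⁅sigmaCore M, sigmaCore M⁆ = ⊥ := by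
  by_contra hne'
  have hSqq : IsPGroup q Sq := hSq.2.1
  have hSqM : Sq ≤ M := hSqσ.trans (Cfsg.Agent.Lib.Helper71.BG11.sigmaCore_le M)
  have hSq1 : Sq ≠ ⊥ := by
    rintro rfl
    exact hne' (by simp)
  have hqM : q ∈ sigma M := mem_sigma_of_le_sigmaCore hG hM hSqq hSq1 hSqσ
  set D := Sq ⊓ ⁅sigmaCore M, sigmaCore M⁆ with hD
  have hDq : IsPGroup q D := hSqq.to_le inf_le_left
  have hqD : q ∣ Nat.card D := dvd_card_of_isPGroup_ne_bot hDq hne'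
  obtain ⟨d, hd⟩ := exists_prime_orderOf_dvd_card' (G := ↥D) q hqD
  have hXc : Nat.card (Subgroup.zpowers (d : G)) = q := by
    rw [Nat.card_zpowers, Subgroup.orderOf_coe, hd]
  have hXD : Subgroup.zpowers (d : G) ≤ D := by
    rw [Subgroup.zpowers_le]
    exact d.2
  have hSqσS : IsSylowIn q (sigmaCore M) Sq :=
    ⟨hSqσ, hSqq, fun T' _ hT'p hle => hSq.2.2 T' le_top hT'p hle⟩
  have h23 := (Cfsg.Agent.S1423.result hG M hM q hqM (Subgroup.zpowers (d : G))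
    ((hXD.trans inf_le_left).trans hSqM) hXc hSqσS.toSylow (Or.inr (hXD.trans inf_le_right))).2.1
  rw [hSqσS.map_toSylow] at h23
  obtain ⟨L', -, huniq⟩ := h23
  have e1 : M = L' := huniq M ⟨hM, hSqM⟩
  have e2 : H = L' := huniq H ⟨hH, hSqH⟩
  exact hne (e1.trans e2.symm)

/-- **BG 13.9, Part I, steps 1-6.** -/
theorem common_sigma_structure (hG : IsMinSimpleOddOrder G) {M H : Subgroup G}
    (hM : IsCoatom M) (hH : IsCoatom H) (hnc : ∀ g : G, cj g M ≠ H) {q : ℕ} [Fact q.Prime]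
    (hqH : q ∈ sigma H) {Sq : Subgroup G} (hSq : IsSylowIn q ⊤ Sq) (hSq1 : Sq ≠ ⊥)
    (hSqσ : Sq ≤ sigmaCore M) (hSqH : Sq ≤ H) {E : Subgroup G}
    (hE : IsComplIn E (sigmaCore M) M) (hESq : E ≤ Subgroup.normalizer (Sq : Set G))
    {E₁ E₃ : Subgroup G} (hE₁ : IsPiHallOf (tau1 M) E₁ E) (hE₃ : IsPiHallOf (tau3 M) E₃ E) :
    q ∈ sigma M ∧ q ∉ alpha M ∧ (∀ s : ℕ, s ∉ tau2 M) ∧ E ≤ E₁ ⊔ E₃ ∧
      (∀ x ∈ E₃, ∀ y ∈ Sq, x * y = y * x) ∧
      Sq ⊓ ⁅sigmaCore M, sigmaCore M⁆ = ⊥ ∧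
      Sq ⊓ Subgroup.centralizer (E : Set G) = ⊥ ∧
      Sq ⊓ Subgroup.centralizer (E₁ : Set G) = ⊥ := by
  have hSqq : IsPGroup q Sq := hSq.2.1
  have hqM : q ∈ sigma M := mem_sigma_of_le_sigmaCore hG hM hSqq hSq1 hSqσ
  have hqα : q ∉ alpha M := fun h =>
    Cfsg.Agent.Lib.Helper31.BG12.alpha_sigma_disjoint hG hM hH hnc h hqH
  have hτ₂ := tau2_empty_of_common_sigma hG hM hH hnc hqM hqH
  have hEsup := le_sup_hall_tau1_tau3 hG hM hτ₂ hE hE₁ hE₃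
  have hE₃Sq := hall_tau3_centralizes hG hM hqM hqα hSqq hSqσ hE hE₃ (hE₃.1.trans hESq)
  have hne : M ≠ H := by
    intro h
    apply hnc 1
    rw [cj_one, h]
  have hS' := sylow_inf_commutator_eq_bot hG hM hH hne hSq hSqσ hSqH
  have hSE : Sq ⊓ Subgroup.centralizer (E : Set G) = ⊥ := by
    rw [eq_bot_iff]
    intro d hd
    have h1 : d ∈ ⁅sigmaCore M, sigmaCore M⁆ :=
      (Cfsg.Agent.S1426.result hG M hM E hE).1 ⟨hSqσ hd.1, hd.2⟩
    have h2 : d ∈ Sq ⊓ ⁅sigmaCore M, sigmaCore M⁆ := ⟨hd.1, h1⟩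
    rwa [hS'] at h2
  refine ⟨hqM, hqα, hτ₂, hEsup, hE₃Sq, hS', hSE, ?_⟩
  rw [eq_bot_iff]
  intro d hd
  have hdc : E₁ ⊔ E₃ ≤ Subgroup.centralizer ({d} : Set G) := by
    apply sup_le
    · intro e he
      rw [Subgroup.mem_centralizer_singleton_iff]
      exact Subgroup.mem_centralizer_iff.mp hd.2 e he
    · intro e he
      rw [Subgroup.mem_centralizer_singleton_iff]
      exact hE₃Sq e he d hd.1
  have hdE : d ∈ Subgroup.centralizer (E : Set G) := by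
    rw [Subgroup.mem_centralizer_iff]
    intro e he
    have := hdc (hEsup he)
    rw [Subgroup.mem_centralizer_singleton_iff] at this
    exact this
  have : d ∈ Sq ⊓ Subgroup.centralizer (E : Set G) := ⟨hd.1, hdE⟩
  rwa [hSE] at this

end Cfsg.Agent.Lib.Helper58.BG139
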