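import Mathlib
import Cfsg.Agent.S1415
import Cfsg.Agent.S1423
import Cfsg.Agent.Lib.Helper15.BG139Defs
import Cfsg.Agent.Lib.Helper15.BG139Defs2
import Cfsg.Agent.Lib.Helper71.BG11a
import Cfsg.Agent.Lib.Helper54.BG134A3a
import Cfsg.Agent.Lib.Helper55.Uniq2
import Cfsg.Agent.Lib.Helper31.BG12a
import Cfsg.Agent.Lib.Helper31.FittingHall
import Cfsg.Agent.Lib.Helper29.Sup
import Cfsg.Agent.Lib.Helper21.BG139K3a

/-!
# Keystone 137816 (K-S1378-K2c), BG Theorem 13.9, step 15(iii): `tau2_final`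

`X = ⟨x⟩ ≤ C_{M_σ}(P)` of prime order `t`, `t'` a prime divisor of `|C_{N_σ}(P)|`; both primes are in
`τ₁(H)`.  `E₁ ≥ X` a (cyclic) Hall `τ₁(H)`-subgroup of `EH`; `t' ∣ |E₁|` (by orders), so there is
`x'' ∈ E₁` of order `t'`.  `x''` commutes with `x` and normalizes `A`, hence normalizes
`A ∩ C(X) = P`; `x'' ∈ C_G(X) ≤ M` (S1423, `t ∈ β(M)`).  So `x'' ∈ N_M(P) ≤ C_{M_σ}(P) P` and
`t' ∣ |C_{M_σ}(P)| r`: either `t' = r ∈ σ(N)`, against `r ∈ τ₁(N)`, or `t' ∈ β(M) ∩ σ(N)`, against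
`α(M) ∩ σ(N) = ∅`.
-/

set_option autoImplicit false
set_option linter.unusedVariables false
set_option linter.style.haveILetI false

namespace Cfsg.Agent.Lib.Helper58.BG139

open Cfsg Cfsg.Agent.Lib.Helper55 Cfsg.Agent.Lib.Helper31.BG134 Cfsg.Agent.Lib.Helper15.BG139

variable {G : Type*} [Group G] [Finite G]

/-- a nontrivial subgroup has a prime divisor of its order -/
theorem exists_prime_dvd_card_of_ne_bot {K : Subgroup G} (hK : K ≠ ⊥) :
    ∃ t : ℕ, t.Prime ∧ t ∣ Nat.card K := by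
  have h1 : Nat.card K ≠ 1 := fun h => hK (Subgroup.card_eq_one.mp h)
  exact Nat.exists_prime_and_dvd h1

/-- Cauchy inside a subgroup -/
theorem exists_mem_orderOf_eq_of_dvd_card {K : Subgroup G} {t : ℕ} (ht : t.Prime)
    (hd : t ∣ Nat.card K) : ∃ x ∈ K, orderOf x = t := by
  haveI : Fact t.Prime := ⟨ht⟩
  obtain ⟨x, hx⟩ := exists_prime_orderOf_dvd_card' (G := K) t hd
  refine ⟨x.1, x.2, ?_⟩
  rw [← hx]
  exact (Subgroup.orderOf_coe x)

/-- KEYSTONE 137816  K-S1378-K2c  (step 15(iii)). -/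
theorem tau2_final {M N P H EH A : Subgroup G} {r : ℕ} (lM : Loc M P H r) (lN : Loc N P H r)
    (hnc : ∀ g : G, cj g M ≠ N) (hr2 : r ∈ tau2 H) (w : T2 M P H EH A r)
    (hM1 : ∀ t : ℕ, t.Prime → t ∣ Nat.card ↥(CP M P) → t ∈ tau1 H)
    (hN1 : ∀ t : ℕ, t.Prime → t ∣ Nat.card ↥(CP N P) → t ∈ tau1 H) : False := by
  have hG := lM.o.hG
  have hM := lM.o.hM
  have hN := lN.o.hM
  have hH := lM.hH
  have hr : r.Prime := lM.o.hr1.1
  have hPM := lM.o.hPM
  -- the primes `t`, `t'`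
  obtain ⟨t, ht, htd⟩ := exists_prime_dvd_card_of_ne_bot lM.o.hC1
  obtain ⟨t', ht', ht'd⟩ := exists_prime_dvd_card_of_ne_bot lN.o.hC1
  haveI : Fact t.Prime := ⟨ht⟩
  have htτ : t ∈ tau1 H := hM1 t ht htd
  have ht'τ : t' ∈ tau1 H := hN1 t' ht' ht'd
  have htσ : t ∈ sigma M := Cfsg.Agent.Lib.Helper71.BG11.sigmaCore_pi hG hM ht
    (htd.trans (Subgroup.card_dvd_of_le inf_le_left))
  have ht'σN : t' ∈ sigma N := Cfsg.Agent.Lib.Helper71.BG11.sigmaCore_pi hG hN ht'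
    (ht'd.trans (Subgroup.card_dvd_of_le inf_le_left))
  have htβ : t ∈ beta M := lM.o.hCβ t ht htd
  -- `X = ⟨x⟩`
  obtain ⟨x, hxC, hxo⟩ := exists_mem_orderOf_eq_of_dvd_card ht htd
  have hXC : Subgroup.zpowers x ≤ CP M P := Subgroup.zpowers_le.mpr hxC
  have hXcard : Nat.card (Subgroup.zpowers x) = t := by rw [Nat.card_zpowers, hxo]
  have hX1 : Subgroup.zpowers x ≠ ⊥ := by
    intro h
    rw [h, Subgroup.card_bot] at hXcard
    exact ht.one_lt.ne hXcard
  have hXEH : Subgroup.zpowers x ≤ EH := hXC.trans (le_sup_left.trans w.hCE)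
  have hXM : Subgroup.zpowers x ≤ M := hXC.trans (inf_le_left.trans
    (Cfsg.Agent.Lib.Helper71.BG11.sigmaCore_le M))
  -- the Hall `τ₁(H)`-subgroup `E₁ ≥ X` of `EH`
  have hEHH : EH ≤ H := w.hEH.1
  have hEHtop : EH ≠ ⊤ := by
    intro h
    apply hH.1
    rw [eq_top_iff, ← h]
    exact hEHH
  have hsolv : Group.IsSolvable ↥EH := Cfsg.Agent.Lib.Helper55.ms_solvable hG hEHtop
  obtain ⟨E₁, hE₁, hXE₁⟩ := Cfsg.Agent.Lib.Helper54.BG134.exists_isPiHallOf_ge hsolv (tau1 H) hXEH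
    (by
      intro q hq hqd
      rw [hXcard] at hqd
      rw [(Nat.prime_dvd_prime_iff_eq hq ht).mp hqd]
      exact htτ)
  have hE₁c : IsCyclic E₁ := (Cfsg.Agent.S1415.result hG H hH EH w.hEH).2.1 E₁ hE₁
  have hE₁EH : E₁ ≤ EH := hE₁.1
  -- `t' ∣ |E₁|`
  have ht'E₁ : t' ∣ Nat.card E₁ := by
    have hCNH : CP N P ≤ H := by
      rw [← lN.hC]; exact inf_le_right
    have h1 : t' ∣ Nat.card H := ht'd.trans (Subgroup.card_dvd_of_le hCNH)
    rw [← Cfsg.Agent.Lib.Helper31.IsComplIn.card_mul w.hEH] at h1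
    have h2 : ¬ t' ∣ Nat.card (sigmaCore H) := fun h =>
      ht'τ.2.1 (Cfsg.Agent.Lib.Helper71.BG11.sigmaCore_pi hG hH ht' h)
    have h3 : t' ∣ Nat.card EH := ((Nat.Prime.dvd_mul ht').mp h1).resolve_right h2
    have h4 : Nat.card E₁ * E₁.relIndex EH = Nat.card EH := by
      have := (E₁.subgroupOf EH).card_mul_index
      rwa [Nat.card_congr (Subgroup.subgroupOfEquivOfLe hE₁EH).toEquiv] at this
    rw [← h4] at h3
    exact ((Nat.Prime.dvd_mul ht').mp h3).resolve_right (hE₁.2.2 t' ht' ht'τ)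
  obtain ⟨y, hyE₁, hyo⟩ := exists_mem_orderOf_eq_of_dvd_card ht' ht'E₁
  have hxE₁ : x ∈ E₁ := hXE₁ (Subgroup.mem_zpowers x)
  -- `y` commutes with `x`
  have hcomm : ∀ g ∈ E₁, g * x = x * g := by
    intro g hg
    have hc : IsMulCommutative E₁ := IsCyclic.isMulCommutative
    exact congrArg Subtype.val (isMulCommutative_iff.mp hc ⟨g, hg⟩ ⟨x, hxE₁⟩)
  -- elements of `E₁` normalize `P = A ∩ C(X)`
  have hPeq : A ⊓ Subgroup.centralizer ((Subgroup.zpowers x : Subgroup G) : Set G) = P :=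
    w.hfix _ hXC hX1
  have hcentX : ∀ g : G, g * x = x * g →
      ∀ a ∈ Subgroup.centralizer ((Subgroup.zpowers x : Subgroup G) : Set G),
        g * a * g⁻¹ ∈ Subgroup.centralizer ((Subgroup.zpowers x : Subgroup G) : Set G) := by
    intro g hg a ha
    have hax : a * x = x * a := by
      have := (Subgroup.mem_centralizer_iff.mp ha) x (Subgroup.mem_zpowers x)
      exact this.symm
    have hgax : (g * a * g⁻¹) * x = x * (g * a * g⁻¹) := by
      have h1 : g⁻¹ * x = x * g⁻¹ := by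
        have : g⁻¹ * x = g⁻¹ * (x * g) * g⁻¹ := by group
        rw [this, ← hg]; group
      calc g * a * g⁻¹ * x = g * a * (g⁻¹ * x) := by group
        _ = g * a * (x * g⁻¹) := by rw [h1]
        _ = g * (a * x) * g⁻¹ := by group
        _ = g * (x * a) * g⁻¹ := by rw [hax]
        _ = (g * x) * a * g⁻¹ := by group
        _ = (x * g) * a * g⁻¹ := by rw [hg]
        _ = x * (g * a * g⁻¹) := by group
    have : Subgroup.zpowers x ≤ Subgroup.centralizer ({g * a * g⁻¹} : Set G) := by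
      rw [Subgroup.zpowers_le]
      rw [Subgroup.mem_centralizer_iff]
      intro z hz
      rw [Set.mem_singleton_iff] at hz
      rw [hz]
      exact hgax
    rw [Subgroup.mem_centralizer_iff]
    intro z hz
    have := (Subgroup.mem_centralizer_iff.mp (this hz)) (g * a * g⁻¹) (Set.mem_singleton _)
    exact this.symm
  have hconjP : ∀ g ∈ E₁, ∀ a ∈ P, g * a * g⁻¹ ∈ P := by
    intro g hg a ha
    rw [← hPeq] at ha ⊢
    obtain ⟨haA, haC⟩ := Subgroup.mem_inf.mp ha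
    have hgN : g ∈ Subgroup.normalizer (A : Set G) := w.hAn (hE₁EH hg)
    exact Subgroup.mem_inf.mpr ⟨(Subgroup.mem_normalizer_iff.mp hgN a).mp haA,
      hcentX g (hcomm g hg) a haC⟩
  have hyNP : y ∈ Subgroup.normalizer (P : Set G) := by
    rw [Subgroup.mem_normalizer_iff]
    intro a
    constructor
    · exact hconjP y hyE₁ a
    · intro h
      have := hconjP y⁻¹ (E₁.inv_mem hyE₁) _ h
      have h2 : y⁻¹ * (y * a * y⁻¹) * y⁻¹⁻¹ = a := by group
      rwa [h2] at this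
  -- `y ∈ C_G(X) ≤ M`
  have hCXM : Subgroup.centralizer ((Subgroup.zpowers x : Subgroup G) : Set G) ≤ M :=
    (Cfsg.Agent.S1423.result hG M hM t htσ (Subgroup.zpowers x) hXM hXcard default
      (Or.inl htβ)).1.1
  have hyM : y ∈ M := by
    apply hCXM
    have : Subgroup.zpowers x ≤ Subgroup.centralizer ({y} : Set G) := by
      rw [Subgroup.zpowers_le, Subgroup.mem_centralizer_iff]
      intro z hz
      rw [Set.mem_singleton_iff] at hz
      rw [hz]
      exact hcomm y hyE₁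
    rw [Subgroup.mem_centralizer_iff]
    intro z hz
    have := (Subgroup.mem_centralizer_iff.mp (this hz)) y (Set.mem_singleton _)
    exact this.symm
  have hysup : y ∈ CP M P ⊔ P := lM.o.hNP (Subgroup.mem_inf.mpr ⟨hyM, hyNP⟩)
  -- `t' ∣ |C_{M_σ}(P)| r`
  have hdvd : t' ∣ Nat.card ↥(CP M P) * Nat.card P := by
    have h1 : orderOf (⟨y, hysup⟩ : ↥(CP M P ⊔ P)) ∣ Nat.card ↥(CP M P ⊔ P) :=
      orderOf_dvd_natCard _
    rw [Subgroup.orderOf_mk, hyo] at h1
    exact h1.trans (Cfsg.Agent.Lib.Helper29.card_sup_dvd_of_le_normalizer (CP M P) P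
      (Cfsg.Agent.Lib.Helper21.BG139.k3a_le_normalizer_CP hPM))
  rcases (Nat.Prime.dvd_mul ht').mp hdvd with h | h
  · -- `t' ∈ β(M) ∩ σ(N)`
    have hβ : t' ∈ beta M := lM.o.hCβ t' ht' h
    exact Cfsg.Agent.Lib.Helper31.BG12.alpha_sigma_disjoint hG hM hN hnc hβ.1 ht'σN
  · -- `t' = r ∈ σ(N)`
    rw [lM.o.hPc] at h
    have : t' = r := (Nat.prime_dvd_prime_iff_eq ht' hr).mp h
    rw [this] at ht'σN
    exact lN.o.hr1.2.1 ht'σN

end Cfsg.Agent.Lib.Helper58.BG139
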