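import Mathlib
import Cfsg.Agent.S1426
import Cfsg.Agent.Lib.Helper15.BG139Defs
import Cfsg.Agent.Lib.Helper71.BG11a
import Cfsg.Agent.Lib.Helper54.BG134A3a
import Cfsg.Agent.Lib.Helper55.Uniq
import Cfsg.Agent.Lib.Helper55.BG134G9

/-!
# Keystone 137811 (K-S1378-L12), BG Theorem 13.9, steps 10 + 12: `C_{M ∩ N}(P) = P`

Elementwise proof.  `x ∈ M ∩ N ∩ C(P)`; `x = b a` with `b ∈ P`, `a ∈ M_σ ∩ C(P)` (`Str.cent_decomp`,
from `M_σ ∩ E = 1` and `C_{E₃}(P) = 1`); `a ∈ N`, so again `a = b' a'` with `b' ∈ P`,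
`a' ∈ N_σ ∩ C(P)`, whence `a ^ r = a' ^ r ∈ N_σ` and `a ∈ N_σ` (`o(a)` is prime to `r`).  `E₃` centralizes
`M_σ ∩ N` (BG 13.1(a)), so `a ∈ M_σ ∩ C(E) ≤ (M_σ)'` (S1426); a prime divisor of `o(a)` is in
`σ(M) ∩ σ(N)` and divides `|(M_σ)'|`: contradiction with G9.
-/

set_option autoImplicit false
set_option linter.unusedVariables false

namespace Cfsg.Agent.Lib.Helper58.BG139

open Cfsg Cfsg.Agent.Lib.Helper55 Cfsg.Agent.Lib.Helper31.BG134 Cfsg.Agent.Lib.Helper15.BG139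

variable {G : Type*} [Group G] [Finite G]

/-- an element of `L` centralizing `P` is `b a` with `b ∈ P` and `a ∈ C_{L_σ}(P)`
(`E = E₃ P` a complement of `L_σ` with `C_{E₃}(P) = 1`). -/
theorem Str.cent_decomp {L S E P E₃ : Subgroup G} (d : Str L S E P E₃)
    (h3 : E₃ ⊓ Subgroup.centralizer (P : Set G) = ⊥) {x : G} (hxL : x ∈ L)
    (hxC : x ∈ Subgroup.centralizer (P : Set G)) :
    ∃ b ∈ P, ∃ a ∈ sigmaCore L ⊓ Subgroup.centralizer (P : Set G), x = b * a := by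
  obtain ⟨hEL, hσL, hEσ, hfacL⟩ := d.hE
  have hPE : P ≤ E := d.hE₁.1
  have hPab : ∀ u ∈ P, ∀ v ∈ P, u * v = v * u := by
    have := d.hE₁c
    have hc : IsMulCommutative P := IsCyclic.isMulCommutative
    intro u hu v hv
    exact congrArg Subtype.val (isMulCommutative_iff.mp hc ⟨u, hu⟩ ⟨v, hv⟩)
  obtain ⟨e, he, s, hs, rfl⟩ := hfacL x hxL
  -- for `y ∈ P`: `y e y⁻¹ = e` and `y s y⁻¹ = s`
  have key : ∀ y ∈ P, y * e = e * y ∧ y * s = s * y := by
    intro y hy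
    have hxy : y * (e * s) = e * s * y := (Subgroup.mem_centralizer_iff.mp hxC) y hy
    have hyE : y ∈ E := hPE hy
    have hyN : y ∈ Subgroup.normalizer ((sigmaCore L : Subgroup G) : Set G) :=
      Cfsg.Agent.Lib.Helper71.BG11.le_normalizer_sigmaCore L (hEL hyE)
    have h1 : y * s * y⁻¹ ∈ sigmaCore L := (Subgroup.mem_normalizer_iff.mp hyN s).mp hs
    have hwσ : y * s * y⁻¹ * s⁻¹ ∈ sigmaCore L :=
      (sigmaCore L).mul_mem h1 ((sigmaCore L).inv_mem hs)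
    have hwE : y * s * y⁻¹ * s⁻¹ ∈ E := by
      have : y * s * y⁻¹ * s⁻¹ = (y * e * y⁻¹)⁻¹ * e := by
        have h2 : y * s * y⁻¹ = (y * e * y⁻¹)⁻¹ * (y * (e * s)) * y⁻¹ := by group
        rw [h2, hxy]; group
      rw [this]
      exact E.mul_mem (E.inv_mem (E.mul_mem (E.mul_mem hyE he) (E.inv_mem hyE))) he
    have hw1 : y * s * y⁻¹ * s⁻¹ = 1 := by
      have : y * s * y⁻¹ * s⁻¹ ∈ E ⊓ sigmaCore L := Subgroup.mem_inf.mpr ⟨hwE, hwσ⟩
      rw [hEσ] at this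
      exact Subgroup.mem_bot.mp this
    have hys : y * s = s * y := by
      have h2 : y * s = (y * s * y⁻¹ * s⁻¹) * s * y := by group
      rw [hw1, one_mul] at h2
      exact h2
    refine ⟨?_, hys⟩
    have h5 : y * e = y * (e * s) * (y * s)⁻¹ * y := by group
    rw [h5, hxy, hys]; group
  have heC : e ∈ Subgroup.centralizer (P : Set G) := by
    rw [Subgroup.mem_centralizer_iff]
    intro y hy
    exact (key y hy).1
  have hsC : s ∈ Subgroup.centralizer (P : Set G) := by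
    rw [Subgroup.mem_centralizer_iff]
    intro y hy
    exact (key y hy).2
  obtain ⟨a₃, ha₃, b, hb, rfl⟩ := d.hfac e he
  have hbC : b ∈ Subgroup.centralizer (P : Set G) := by
    rw [Subgroup.mem_centralizer_iff]
    intro y hy
    exact hPab y hy b hb
  have ha₃C : a₃ ∈ Subgroup.centralizer (P : Set G) := by
    have : a₃ = (a₃ * b) * b⁻¹ := by group
    rw [this]
    exact Subgroup.mul_mem _ heC (Subgroup.inv_mem _ hbC)
  have ha₃1 : a₃ = 1 := by
    have : a₃ ∈ E₃ ⊓ Subgroup.centralizer (P : Set G) := Subgroup.mem_inf.mpr ⟨ha₃, ha₃C⟩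
    rw [h3] at this
    exact Subgroup.mem_bot.mp this
  subst ha₃1
  exact ⟨b, hb, s, Subgroup.mem_inf.mpr ⟨hs, hsC⟩, by rw [one_mul]⟩

/-- KEYSTONE 137811  K-S1378-L12  (steps 10 + 12: `C_{M∩N}(P) = P`). -/
theorem Cfg.cent_inf_le {M N S E E' P E₃ E₃' : Subgroup G} {p : ℕ} (c : Cfg M N S p)
    (d : Str M S E P E₃) (d' : Str N S E' P E₃') (hr : (Nat.card P).Prime)
    (hτ : tau1 M = tau1 N) (hτ2N : ∀ q : ℕ, q ∉ tau2 N) (h131 : T131 G)
    (h3 : E₃ ⊓ Subgroup.centralizer (P : Set G) = ⊥)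
    (h3' : E₃' ⊓ Subgroup.centralizer (P : Set G) = ⊥) :
    M ⊓ N ⊓ Subgroup.centralizer (P : Set G) ≤ P := by
  have hG := c.hG
  have hM := c.hM
  have hN := c.hN
  have hPE : P ≤ E := d.hE₁.1
  have hENS : E ≤ M ⊓ N := d.hES.trans c.hNS
  have hPN : P ≤ N := fun y hy => (hENS (hPE hy)).2
  have hrM : Nat.card P ∈ tau1 M := d.hE₁.2.1 _ hr dvd_rfl
  have hrσ : Nat.card P ∉ sigma M := hrM.2.1
  haveI : Fact (Nat.card P).Prime := ⟨hr⟩
  intro x hx
  obtain ⟨hxMN, hxC⟩ := Subgroup.mem_inf.mp hx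
  obtain ⟨hxM, hxN⟩ := Subgroup.mem_inf.mp hxMN
  obtain ⟨b, hb, a, ha, rfl⟩ := Str.cent_decomp d h3 hxM hxC
  obtain ⟨haσ, haC⟩ := Subgroup.mem_inf.mp ha
  have haN : a ∈ N := by
    have : a = b⁻¹ * (b * a) := by group
    rw [this]
    exact N.mul_mem (N.inv_mem (hPN hb)) hxN
  -- `a ∈ N_σ`
  obtain ⟨b', hb', a', ha', hab'⟩ := Str.cent_decomp d' h3' haN haC
  obtain ⟨ha'σ, ha'C⟩ := Subgroup.mem_inf.mp ha'
  have hcomm : Commute b' a' := (Subgroup.mem_centralizer_iff.mp ha'C) b' hb'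
  have hb'r : b' ^ Nat.card P = 1 := by
    have := pow_card_eq_one' (G := P) (x := ⟨b', hb'⟩)
    exact congrArg Subtype.val this
  have hpow : a ^ Nat.card P = a' ^ Nat.card P := by
    rw [hab', hcomm.mul_pow, hb'r, one_mul]
  have hoa : orderOf a ∣ Nat.card (sigmaCore M) := by
    have : orderOf (⟨a, haσ⟩ : sigmaCore M) ∣ Nat.card (sigmaCore M) := orderOf_dvd_natCard _
    rwa [Subgroup.orderOf_mk] at this
  have hcop : Nat.Coprime (Nat.card P) (orderOf a) := by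
    rw [Nat.Prime.coprime_iff_not_dvd hr]
    intro h
    exact hrσ (Cfsg.Agent.Lib.Helper71.BG11.sigmaCore_pi hG hM hr (h.trans hoa))
  have haσN : a ∈ sigmaCore N := by
    obtain ⟨m, hm⟩ := exists_pow_eq_self_of_coprime hcop
    rw [← hm, hpow]
    exact (sigmaCore N).pow_mem ((sigmaCore N).pow_mem ha'σ _) _
  -- `E₃` centralizes `M_σ ∩ N`
  have hE₃C : E₃ ≤ Subgroup.centralizer ((sigmaCore M ⊓ N : Subgroup G) : Set G) := by
    have hcop3 : (Nat.card E₃).Coprime (Nat.card P) := by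
      apply Nat.Coprime.symm
      rw [Nat.Prime.coprime_iff_not_dvd hr]
      intro h
      exact Cfsg.Agent.Lib.Helper54.BG134.not_tau1_and_tau3 hrM (d.hE₃.2.1 _ hr h)
    apply le_of_invariant_sylows_le (p := Nat.card P) (A := ⊥) IsPGroup.of_bot hcop3 bot_le
    intro s hs hsr T hT _
    haveI : Fact s.Prime := ⟨hs⟩
    by_cases hT1 : T = ⊥
    · rw [hT1]; exact bot_le
    have hsT : s ∣ Nat.card T := by
      obtain ⟨n, hn⟩ := IsPGroup.iff_card.mp hT.2.1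
      have hn0 : n ≠ 0 := by
        rintro rfl
        rw [pow_zero] at hn
        exact hT1 (Subgroup.card_eq_one.mp hn)
      rw [hn]
      exact dvd_pow_self s hn0
    have hs3 : s ∈ tau3 M := d.hE₃.2.1 s hs (hsT.trans (Subgroup.card_dvd_of_le hT.1))
    have hsσ : s ∉ sigma M := hs3.2.1
    have hsτ : s ∉ tau1 N := by
      rw [← hτ]
      intro h
      exact Cfsg.Agent.Lib.Helper54.BG134.not_tau1_and_tau3 h hs3
    have hTE : T ≤ E := hT.1.trans d.hE₃.1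
    exact h131 M N hM hN c.hnc s hsσ T hT.2.1 (fun t ht => (hENS (hTE ht)).1)
      (fun t ht => (hENS (hTE ht)).2) hsτ
  -- `a ∈ C(E)`
  have haCE : a ∈ Subgroup.centralizer (E : Set G) := by
    rw [Subgroup.mem_centralizer_iff]
    intro y hy
    obtain ⟨a₃, ha₃, b₁, hb₁, rfl⟩ := d.hfac y hy
    have h1 : a₃ * a = a * a₃ :=
      ((Subgroup.mem_centralizer_iff.mp (hE₃C ha₃)) a (Subgroup.mem_inf.mpr ⟨haσ, haN⟩)).symm
    have h2 : b₁ * a = a * b₁ := (Subgroup.mem_centralizer_iff.mp haC) b₁ hb₁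
    calc a₃ * b₁ * a = a₃ * (b₁ * a) := by group
      _ = a₃ * (a * b₁) := by rw [h2]
      _ = (a₃ * a) * b₁ := by group
      _ = (a * a₃) * b₁ := by rw [h1]
      _ = a * (a₃ * b₁) := by group
  have haD : a ∈ ⁅sigmaCore M, sigmaCore M⁆ :=
    (Cfsg.Agent.S1426.result hG M hM E d.hE).1 (Subgroup.mem_inf.mpr ⟨haσ, haCE⟩)
  -- `a = 1`
  have ha1 : a = 1 := by
    by_contra hne
    have ho : orderOf a ≠ 1 := fun h => hne (orderOf_eq_one_iff.mp h)
    obtain ⟨z, hz, hzo⟩ := Nat.exists_prime_and_dvd ho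
    haveI : Fact z.Prime := ⟨hz⟩
    have hzM : z ∈ sigma M :=
      Cfsg.Agent.Lib.Helper71.BG11.sigmaCore_pi hG hM hz (hzo.trans hoa)
    have hoaN : orderOf a ∣ Nat.card (sigmaCore N) := by
      have : orderOf (⟨a, haσN⟩ : sigmaCore N) ∣ Nat.card (sigmaCore N) := orderOf_dvd_natCard _
      rwa [Subgroup.orderOf_mk] at this
    have hzN : z ∈ sigma N :=
      Cfsg.Agent.Lib.Helper71.BG11.sigmaCore_pi hG hN hz (hzo.trans hoaN)
    have hoaD : orderOf a ∣ Nat.card ↥⁅sigmaCore M, sigmaCore M⁆ := by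
      have : orderOf (⟨a, haD⟩ : ↥⁅sigmaCore M, sigmaCore M⁆) ∣
          Nat.card ↥⁅sigmaCore M, sigmaCore M⁆ := orderOf_dvd_natCard _
      rwa [Subgroup.orderOf_mk] at this
    exact (Cfsg.Agent.Lib.Helper55.BG134.comm_of_sigma_sigma hG hM hN c.hnc hzM hzN).2.1
      (hzo.trans hoaD)
  subst ha1
  rw [mul_one]
  exact hb

end Cfsg.Agent.Lib.Helper58.BG139
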