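import Mathlib
import Cfsg.Agent.Lib.Helper15.BG139Defs
import Cfsg.Agent.Lib.Helper03.CoprimeAbelian
import Cfsg.Agent.Lib.Helper71.BG11a
import Cfsg.Agent.Lib.Helper54.BG134A3a

/-!
# Keystone 137810 (K-S1378-L12a), BG Theorem 13.9, end of step 11

Structure of `E = E₃ ⋊ P` for a complement `E` of `M_σ` with `Str M S E P E₃`:
* `Str.E3_inf_centralizer`: `C_{E₃}(P) = 1` (transfer: `E' ∩ Z(E) ∩ E₃ = 1` for the abelian Hall
  subgroup `E₃` of `E`, and `C_{E₃}(P)` is central in `E = E₃ P` and lies in `E₃ ≤ E'`);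
* `Str.normalizer_le`: `N_M(P) ≤ C_{M_σ}(P) P`.
-/

set_option autoImplicit false

namespace Cfsg.Agent.Lib.Helper58.BG139

open Cfsg Cfsg.Agent.Lib.Helper55 Cfsg.Agent.Lib.Helper31.BG134 Cfsg.Agent.Lib.Helper15.BG139

variable {G : Type*} [Group G] [Finite G]

/-- KEYSTONE 137810 (a): `C_{E₃}(P) = 1`. -/
theorem Str.E3_inf_centralizer (hG : IsMinSimpleOddOrder G) {M S E P E₃ : Subgroup G}
    (hM : IsCoatom M) (d : Str M S E P E₃) (hr : (Nat.card P).Prime) :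
    E₃ ⊓ Subgroup.centralizer (P : Set G) = ⊥ := by
  have hE₃E : E₃ ≤ E := d.hE₃.1
  have hc : IsMulCommutative E₃ := by
    have := d.hE₃c
    exact IsCyclic.isMulCommutative
  have hcomm : ∀ a b : E₃, a * b = b * a := isMulCommutative_iff.mp hc
  have hcop : Nat.Coprime (Nat.card E₃) (E₃.relIndex E) := by
    apply Nat.coprime_of_dvd
    intro k hk hk1 hk2
    exact d.hE₃.2.2 k hk (d.hE₃.2.1 k hk hk1) hk2
  have hkey := Cfsg.Agent.Lib.Helper03.commutator_inf_centralizer_inf_eq_bot_of_abelian_hall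
    E₃ E hE₃E hc hcop
  rw [eq_bot_iff]
  intro x hx
  obtain ⟨hx3, hxP⟩ := Subgroup.mem_inf.mp hx
  rw [← hkey]
  refine Subgroup.mem_inf.mpr ⟨Subgroup.mem_inf.mpr ⟨d.hE₃d hx3, ?_⟩, hx3⟩
  rw [Subgroup.mem_centralizer_iff]
  intro y hy
  obtain ⟨a, ha, b, hb, rfl⟩ := d.hfac y hy
  have h1 : a * x = x * a := by
    have := hcomm ⟨a, ha⟩ ⟨x, hx3⟩
    exact congrArg Subtype.val this
  have h2 : b * x = x * b := (Subgroup.mem_centralizer_iff.mp hxP) b hb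
  calc a * b * x = a * (b * x) := by group
    _ = a * (x * b) := by rw [h2]
    _ = (a * x) * b := by group
    _ = (x * a) * b := by rw [h1]
    _ = x * (a * b) := by group

/-- KEYSTONE 137810 (b): `N_M(P) ≤ C_{M_σ}(P) P`. -/
theorem Str.normalizer_le (hG : IsMinSimpleOddOrder G) {M S E P E₃ : Subgroup G}
    (hM : IsCoatom M) (d : Str M S E P E₃) (hr : (Nat.card P).Prime)
    (h3 : E₃ ⊓ Subgroup.centralizer (P : Set G) = ⊥) :
    M ⊓ Subgroup.normalizer (P : Set G) ≤ CP M P ⊔ P := by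
  obtain ⟨hEM, hσM, hEσ, hfacM⟩ := d.hE
  have hPE : P ≤ E := d.hE₁.1
  have hE₃E : E₃ ≤ E := d.hE₃.1
  -- `P ∩ E₃ = 1`
  have hPE₃ : ∀ z, z ∈ P → z ∈ E₃ → z = 1 := by
    intro z hzP hz3
    by_contra hz1
    have ho : orderOf z ≠ 1 := fun h => hz1 (orderOf_eq_one_iff.mp h)
    obtain ⟨q, hq, hqo⟩ := Nat.exists_prime_and_dvd ho
    have hqP : q ∣ Nat.card P := by
      have : orderOf (⟨z, hzP⟩ : P) ∣ Nat.card P := orderOf_dvd_natCard _
      rw [Subgroup.orderOf_mk] at this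
      exact hqo.trans this
    have hq3 : q ∣ Nat.card E₃ := by
      have : orderOf (⟨z, hz3⟩ : E₃) ∣ Nat.card E₃ := orderOf_dvd_natCard _
      rw [Subgroup.orderOf_mk] at this
      exact hqo.trans this
    exact Cfsg.Agent.Lib.Helper54.BG134.not_tau1_and_tau3 (d.hE₁.2.1 q hq hqP)
      (d.hE₃.2.1 q hq hq3)
  intro x hx
  obtain ⟨hxM, hxN⟩ := Subgroup.mem_inf.mp hx
  obtain ⟨e, he, s, hs, rfl⟩ := hfacM x hxM
  -- `s` centralizes `P`
  have hsC : s ∈ Subgroup.centralizer (P : Set G) := by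
    rw [Subgroup.mem_centralizer_iff]
    intro y hy
    have hy' : e * s * y * (e * s)⁻¹ ∈ P := (Subgroup.mem_normalizer_iff.mp hxN y).mp hy
    -- `w := y⁻¹ * s * y * s⁻¹ ∈ M_σ ∩ E`
    have hyM : y ∈ M := hEM (hPE hy)
    have hyinv : y⁻¹ ∈ Subgroup.normalizer ((sigmaCore M : Subgroup G) : Set G) :=
      Cfsg.Agent.Lib.Helper71.BG11.le_normalizer_sigmaCore M (M.inv_mem hyM)
    have h1 : y⁻¹ * s * y⁻¹⁻¹ ∈ sigmaCore M := (Subgroup.mem_normalizer_iff.mp hyinv s).mp hs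
    have hwσ : y⁻¹ * s * y * s⁻¹ ∈ sigmaCore M := by
      have : y⁻¹ * s * y * s⁻¹ = (y⁻¹ * s * y⁻¹⁻¹) * s⁻¹ := by group
      rw [this]
      exact (sigmaCore M).mul_mem h1 ((sigmaCore M).inv_mem hs)
    have hwE : y⁻¹ * s * y * s⁻¹ ∈ E := by
      have : y⁻¹ * s * y * s⁻¹ = y⁻¹ * (e⁻¹ * (e * s * y * (e * s)⁻¹) * e) := by group
      rw [this]
      exact E.mul_mem (E.inv_mem (hPE hy))
        (E.mul_mem (E.mul_mem (E.inv_mem he) (hPE hy')) he)
    have hw1 : y⁻¹ * s * y * s⁻¹ = 1 := by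
      have : y⁻¹ * s * y * s⁻¹ ∈ E ⊓ sigmaCore M := Subgroup.mem_inf.mpr ⟨hwE, hwσ⟩
      rw [hEσ] at this
      exact Subgroup.mem_bot.mp this
    have h2 : s * y = y * (y⁻¹ * s * y * s⁻¹) * s := by group
    rw [hw1, mul_one] at h2
    exact h2.symm
  have hsCP : s ∈ CP M P := Subgroup.mem_inf.mpr ⟨hs, hsC⟩
  -- `e ∈ N(P)`
  have hsN : s ∈ Subgroup.normalizer (P : Set G) := Subgroup.centralizer_le_normalizer _ hsC
  have heN : e ∈ Subgroup.normalizer (P : Set G) := by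
    have : e = (e * s) * s⁻¹ := by group
    rw [this]
    exact Subgroup.mul_mem _ hxN (Subgroup.inv_mem _ hsN)
  obtain ⟨a, ha, b, hb, rfl⟩ := d.hfac e he
  have hbN : b ∈ Subgroup.normalizer (P : Set G) := Subgroup.le_normalizer hb
  have haN : a ∈ Subgroup.normalizer (P : Set G) := by
    have : a = (a * b) * b⁻¹ := by group
    rw [this]
    exact Subgroup.mul_mem _ heN (Subgroup.inv_mem _ hbN)
  -- `a ∈ C(P)`
  have haC : a ∈ Subgroup.centralizer (P : Set G) := by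
    rw [Subgroup.mem_centralizer_iff]
    intro y hy
    have h1 : a * y * a⁻¹ ∈ P := (Subgroup.mem_normalizer_iff.mp haN y).mp hy
    have hwP : a * y * a⁻¹ * y⁻¹ ∈ P := P.mul_mem h1 (P.inv_mem hy)
    have hyN : y ∈ Subgroup.normalizer (E₃ : Set G) := d.hE₃n (hPE hy)
    have h2 : y * a⁻¹ * y⁻¹ ∈ E₃ := (Subgroup.mem_normalizer_iff.mp hyN a⁻¹).mp (E₃.inv_mem ha)
    have hw3 : a * y * a⁻¹ * y⁻¹ ∈ E₃ := by
      have : a * y * a⁻¹ * y⁻¹ = a * (y * a⁻¹ * y⁻¹) := by group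
      rw [this]
      exact E₃.mul_mem ha h2
    have hw1 := hPE₃ _ hwP hw3
    have h4 : a * y = (a * y * a⁻¹ * y⁻¹) * y * a := by group
    rw [hw1, one_mul] at h4
    exact h4.symm
  have ha1 : a = 1 := by
    have : a ∈ E₃ ⊓ Subgroup.centralizer (P : Set G) := Subgroup.mem_inf.mpr ⟨ha, haC⟩
    rw [h3] at this
    exact Subgroup.mem_bot.mp this
  subst ha1
  rw [one_mul]
  have h1 : b ∈ CP M P ⊔ P := (le_sup_right : P ≤ CP M P ⊔ P) hb
  have h2 : s ∈ CP M P ⊔ P := (le_sup_left : CP M P ≤ CP M P ⊔ P) hsCP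
  exact Subgroup.mul_mem _ h1 h2

end Cfsg.Agent.Lib.Helper58.BG139
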