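import Mathlib
import Cfsg.Agent.Lib.Helper31.BG12a
import Cfsg.Agent.Lib.Helper01.BGNarrow

/-!
# BG Lemma 13.4 (S1428), keystone 142812 (K-S1428-CJ): `τ₂` is invariant under conjugation
-/

set_option autoImplicit false
set_option linter.unusedSectionVars false
set_option linter.unusedVariables false

namespace Cfsg.Agent.Lib.Helper58.BG134

open Cfsg Cfsg.Agent.Lib.Helper55

variable {G : Type*} [Group G] [Finite G]

/-- the isomorphism `M ≃* cj g M` -/
noncomputable def cjEquiv (g : G) (M : Subgroup G) : ↥M ≃* ↥(cj g M) :=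
  M.equivMapOfInjective (MulAut.conj g).toMonoidHom (MulAut.conj g).injective

/-- **KEYSTONE 142812  K-S1428-CJ**. -/
theorem mem_tau2_cj {M : Subgroup G} {p : ℕ} (hp : p ∈ tau2 M) (g : G) : p ∈ tau2 (cj g M) := by
  obtain ⟨hpp, hσ, h2, h1⟩ := hp
  have : Fact p.Prime := ⟨hpp⟩
  refine ⟨hpp, ?_, ?_, ?_⟩
  · intro h
    apply hσ
    have := Cfsg.Agent.Lib.Helper31.BG12.mem_sigma_cj h g⁻¹
    rwa [cj_inv_cj] at this
  · exact Cfsg.Agent.Lib.Helper01.BGNarrow.pRankLE_of_mulEquiv (cjEquiv g M) h2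
  · intro h
    exact h1 (Cfsg.Agent.Lib.Helper01.BGNarrow.pRankLE_of_mulEquiv (cjEquiv g M).symm h)

end Cfsg.Agent.Lib.Helper58.BG134
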