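import Mathlib
import Cfsg.Prelude.Def_Transfer
import Cfsg.Agent.Lib.Helper97.ThompsonPN
import Cfsg.Agent.Lib.Helper03.NormalPComplement
import Cfsg.Agent.Lib.Helper60.TwoComplement
import Cfsg.Agent.Lib.Helper16.ZJ

/-!
# Normal `p`-complements: elementary reductions used for the characteristic subgroup `K(S)`
-/

set_option autoImplicit false
open Cfsg
open Cfsg.Agent.Lib.Helper97

namespace Cfsg.Agent.Lib.Helper58.KChar

variable {G : Type*} [Group G]

/-- if `x ^ a` and `x ^ b` lie in `H` with `a`, `b` coprime then `x ∈ H` -/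
theorem mem_of_pow_mem_of_coprime (H : Subgroup G) (x : G) {a b : ℕ} (hab : a.Coprime b)
    (ha : x ^ a ∈ H) (hb : x ^ b ∈ H) : x ∈ H := by
  have h1 : x ^ (a.gcd b : ℤ) ∈ H := by
    rw [Nat.gcd_eq_gcd_ab, zpow_add, zpow_mul, zpow_mul, zpow_natCast, zpow_natCast]
    exact H.mul_mem (H.zpow_mem ha _) (H.zpow_mem hb _)
  rw [hab] at h1
  simpa using h1

section Finite
variable [Finite G] {p : ℕ} [Fact p.Prime]

/-- in a group with a normal `p`-complement, the elements of order prime to `p` normalizing a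
`p`-subgroup centralize it -/
theorem centralizes_of_npc (h : HasNormalPComplement p G) (X : Subgroup G) (hX : IsPGroup p X)
    (g : G) (hg : g ∈ Subgroup.normalizer (X : Set G)) (hgo : (orderOf g).Coprime p) :
    g ∈ Subgroup.centralizer (X : Set G) := by
  obtain ⟨M, hMn, hMc, k, hk⟩ := pn_iff.mp h
  haveI := hMn
  have hgM : g ∈ M := mem_of_coprime_of_index_pow M hk g hgo
  rw [Subgroup.mem_centralizer_iff]
  intro x hx
  have h1 : g * x * g⁻¹ * x⁻¹ ∈ M := by
    have : g * x * g⁻¹ * x⁻¹ = g * (x * g⁻¹ * x⁻¹) := by group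
    rw [this]
    exact M.mul_mem hgM (hMn.conj_mem _ (M.inv_mem hgM) x)
  have h2 : g * x * g⁻¹ * x⁻¹ ∈ X :=
    X.mul_mem ((Subgroup.mem_normalizer_iff.mp hg x).mp hx) (X.inv_mem hx)
  have h3 : g * x * g⁻¹ * x⁻¹ = 1 := by
    have hinf : X ⊓ M = ⊥ := by
      apply Subgroup.inf_eq_bot_of_coprime
      obtain ⟨n, hn⟩ := IsPGroup.iff_card.mp hX
      rw [hn]
      exact (Nat.Coprime.pow_right n hMc).symm
    have : g * x * g⁻¹ * x⁻¹ ∈ X ⊓ M := ⟨h2, h1⟩
    rw [hinf, Subgroup.mem_bot] at this
    exact this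
  calc x * g = (g * x * g⁻¹ * x⁻¹)⁻¹ * (g * x) := by group
    _ = g * x := by rw [h3]; group

/-- a normal subgroup containing all elements of order prime to `p` has `p`-power index -/
theorem index_pow_of_coprime_mem (N : Subgroup G) [N.Normal]
    (h : ∀ g : G, (orderOf g).Coprime p → g ∈ N) : ∃ j : ℕ, N.index = p ^ j := by
  have hp : p.Prime := Fact.out
  have hq : IsPGroup p (G ⧸ N) := by
    intro x
    obtain ⟨g, rfl⟩ := QuotientGroup.mk_surjective x
    obtain ⟨k, m, hm, hkm⟩ := Nat.exists_eq_pow_mul_and_not_dvd (orderOf_pos g).ne' p hp.ne_one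
    refine ⟨k, ?_⟩
    have hym : (g ^ p ^ k) ^ m = 1 := by
      rw [← pow_mul, ← hkm, pow_orderOf_eq_one]
    have hyo : (orderOf (g ^ p ^ k)).Coprime p := by
      have h1 : orderOf (g ^ p ^ k) ∣ m := orderOf_dvd_of_pow_eq_one hym
      exact Nat.Coprime.coprime_dvd_left h1 ((hp.coprime_iff_not_dvd.mpr hm).symm)
    have := h _ hyo
    rw [← QuotientGroup.mk_pow]
    exact (QuotientGroup.eq_one_iff _).mpr this
  obtain ⟨j, hj⟩ := IsPGroup.iff_card.mp hq
  exact ⟨j, by rw [Subgroup.index_eq_card, hj]⟩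

/-- Frattini-type lemma: if the elements of order prime to `p` normalizing `P ∩ C` lie in the normal
subgroup `C`, then all elements of order prime to `p` lie in `C` -/
theorem coprime_mem_of_normalizer (P : Sylow p G) (C : Subgroup G) [C.Normal]
    (h : ∀ g ∈ Subgroup.normalizer (((P : Subgroup G) ⊓ C : Subgroup G) : Set G),
      (orderOf g).Coprime p → g ∈ C) :
    ∀ g : G, (orderOf g).Coprime p → g ∈ C := by
  have hp : p.Prime := Fact.out
  intro g hgo
  obtain ⟨a, ha, c, hc, rfl⟩ := Cfsg.Agent.Lib.Helper16.ZJ.frattini_inf_normal P C g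
  suffices haC : a ∈ C from C.mul_mem haC hc
  obtain ⟨k, m, hm, hkm⟩ := Nat.exists_eq_pow_mul_and_not_dvd (orderOf_pos a).ne' p hp.ne_one
  -- `a ^ p ^ k ∈ C`
  have h1 : a ^ p ^ k ∈ C := by
    apply h _ (Subgroup.pow_mem _ ha _)
    have hym : (a ^ p ^ k) ^ m = 1 := by
      rw [← pow_mul, ← hkm, pow_orderOf_eq_one]
    have h1 : orderOf (a ^ p ^ k) ∣ m := orderOf_dvd_of_pow_eq_one hym
    exact Nat.Coprime.coprime_dvd_left h1 ((hp.coprime_iff_not_dvd.mpr hm).symm)
  -- `a ^ orderOf (a c) ∈ C`
  have h2 : a ^ orderOf (a * c) ∈ C := by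
    have h3 : ((a * c) ^ orderOf (a * c) : G) = 1 := pow_orderOf_eq_one _
    have h4 : (QuotientGroup.mk (a * c) : G ⧸ C) = QuotientGroup.mk a := by
      rw [QuotientGroup.mk_mul, (QuotientGroup.eq_one_iff c).mpr hc, mul_one]
    have h5 : (QuotientGroup.mk (a ^ orderOf (a * c)) : G ⧸ C) = 1 := by
      rw [QuotientGroup.mk_pow, ← h4, ← QuotientGroup.mk_pow, h3, QuotientGroup.mk_one]
    exact (QuotientGroup.eq_one_iff _).mp h5
  exact mem_of_pow_mem_of_coprime C a (Nat.Coprime.pow_right k hgo) h2 h1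

/-- the quotient by a central `p`-subgroup detects normal `p`-complements -/
theorem npc_of_quotient_central (Z : Subgroup G) [Z.Normal] (hZp : IsPGroup p Z)
    (hZc : Z ≤ Subgroup.center G) (h : HasNormalPComplement p (G ⧸ Z)) :
    HasNormalPComplement p G := by
  have hp : p.Prime := Fact.out
  obtain ⟨Mb, hMbn, hMbc, k, hk⟩ := pn_iff.mp h
  set π := QuotientGroup.mk' Z with hπ
  have hπs : Function.Surjective π := QuotientGroup.mk'_surjective Z
  set M := Mb.comap π with hM
  have hMn : M.Normal := hMbn.comap π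
  have hMi : M.index = p ^ k := by
    rw [hM, Subgroup.index_comap_of_surjective Mb hπs, hk]
  have hZM : Z ≤ M := by
    intro z hz
    rw [hM, Subgroup.mem_comap]
    have : π z = 1 := (QuotientGroup.eq_one_iff z).mpr hz
    rw [this]; exact Mb.one_mem
  have hrel : Z.relIndex M = Nat.card Mb := by
    have h1 : Z = (⊥ : Subgroup (G ⧸ Z)).comap π := by
      have := QuotientGroup.ker_mk' Z
      rw [MonoidHom.ker] at this
      exact this.symm
    have h2 := Subgroup.relIndex_comap (⊥ : Subgroup (G ⧸ Z)) π M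
    rw [← h1] at h2
    rw [h2, Subgroup.relIndex_bot_left, hM, Subgroup.map_comap_eq_self_of_surjective hπs]
  -- `Z` as a Sylow subgroup of `M`
  have hZ'p : IsPGroup p (Z.subgroupOf M) := hZp.comap_subtype
  have hZ'i : ¬ p ∣ (Z.subgroupOf M).index := by
    show ¬ p ∣ Z.relIndex M
    rw [hrel]
    exact fun hd => hp.one_lt.ne' (Nat.Coprime.eq_one_of_dvd hMbc.symm hd)
  set Q : Sylow p ↥M := hZ'p.toSylow hZ'i with hQ
  have hQc : (Q : Subgroup ↥M) = Z.subgroupOf M := IsPGroup.toSylow_coe _ _
  have hnpcM : HasNormalPComplement p ↥M := by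
    apply Cfsg.Agent.Lib.Helper03.hasNormalPComplement_of_normalizer_le_centralizer Q
    intro x _
    rw [Subgroup.mem_centralizer_iff]
    intro z hz
    have hz' : (z : G) ∈ Z := by
      have : z ∈ (Q : Subgroup ↥M) := hz
      rw [hQc, Subgroup.mem_subgroupOf] at this
      exact this
    have := Subgroup.mem_center_iff.mp (hZc hz') (x : G)
    apply Subtype.ext
    simpa using this.symm
  exact Cfsg.Agent.Lib.Helper60.hasNormalPComplement_of_normal_of_index_pow M k hMi hnpcM

/-- first reduction: `Z` normal, `C = C_G(Z)` has a normal `p`-complement, and the elements of order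
prime to `p` normalizing `P ∩ C` centralize `Z` -/
theorem npc_case1 (P : Sylow p G) (Z : Subgroup G) [Z.Normal]
    (h1 : HasNormalPComplement p ↥(Subgroup.centralizer (Z : Set G)))
    (h2 : ∀ g ∈ Subgroup.normalizer
      (((P : Subgroup G) ⊓ Subgroup.centralizer (Z : Set G) : Subgroup G) : Set G),
      (orderOf g).Coprime p → g ∈ Subgroup.centralizer (Z : Set G)) :
    HasNormalPComplement p G := by
  have : (Subgroup.centralizer (Z : Set G)).Normal := Subgroup.normal_centralizer
  have hall := coprime_mem_of_normalizer P (Subgroup.centralizer (Z : Set G)) h2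
  obtain ⟨j, hj⟩ := index_pow_of_coprime_mem (Subgroup.centralizer (Z : Set G)) hall
  exact Cfsg.Agent.Lib.Helper60.hasNormalPComplement_of_normal_of_index_pow _ j hj h1

/-- second reduction: `Z` a normal `p`-subgroup centralized by `P`, `G/Z` has a normal
`p`-complement, and the elements of order prime to `p` normalizing `P` centralize `Z` -/
theorem npc_case2 (P : Sylow p G) (Z : Subgroup G) [Z.Normal] (hZp : IsPGroup p Z)
    (hPZ : (P : Subgroup G) ≤ Subgroup.centralizer (Z : Set G))
    (h1 : HasNormalPComplement p (G ⧸ Z))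
    (h2 : ∀ g ∈ Subgroup.normalizer ((P : Subgroup G) : Set G),
      (orderOf g).Coprime p → g ∈ Subgroup.centralizer (Z : Set G)) :
    HasNormalPComplement p G := by
  have hp : p.Prime := Fact.out
  have : (Subgroup.centralizer (Z : Set G)).Normal := Subgroup.normal_centralizer
  have hinf : (P : Subgroup G) ⊓ Subgroup.centralizer (Z : Set G) = P := inf_eq_left.mpr hPZ
  have hall := coprime_mem_of_normalizer P (Subgroup.centralizer (Z : Set G))
    (by rw [hinf]; exact h2)
  obtain ⟨j, hj⟩ := index_pow_of_coprime_mem (Subgroup.centralizer (Z : Set G)) hall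
  have hdvd : (Subgroup.centralizer (Z : Set G)).index ∣ (P : Subgroup G).index :=
    Subgroup.index_dvd_of_le hPZ
  have hj0 : j = 0 := by
    by_contra hne
    have : p ∣ (P : Subgroup G).index := by
      refine dvd_trans ?_ hdvd
      rw [hj]
      exact dvd_pow_self p hne
    exact P.not_dvd_index this
  rw [hj0, pow_zero, Subgroup.index_eq_one] at hj
  apply npc_of_quotient_central Z hZp _ h1
  intro z hz
  rw [Subgroup.mem_center_iff]
  intro g
  have hg : g ∈ Subgroup.centralizer (Z : Set G) := by rw [hj]; trivial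
  exact (Subgroup.mem_centralizer_iff.mp hg z hz).symm

end Finite

end Cfsg.Agent.Lib.Helper58.KChar
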