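import Cfsg.Agent.S1416
import Cfsg.Agent.S1417
import Cfsg.Agent.S1418
import Cfsg.Agent.S1423
import Cfsg.Agent.Lib.Helper58.BG1217

/-!
# Unconditional versions of the `Hyp16/17/18/23`-parametrised lemmas of `Helper58.BG1217`

Now that S1416, S1417, S1418 and S1423 are landed, the hypotheses `Hyp16 M`, `Hyp17 M`, `Hyp18 M`
(`Helper13.BG12`) and `Hyp23 L` (`Helper58.BG12`) hold for every maximal subgroup.  This file
records them and restates Lemma K (`no_sigma_overgroup`) & co. without hypotheses.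
-/

set_option autoImplicit false

namespace Cfsg.Agent.Lib.Helper58.BG12U

open Cfsg Cfsg.Agent.Lib.Helper13.BG12 Cfsg.Agent.Lib.Helper58.BG12

variable {G : Type*} [Group G] [Finite G]

/-- S1416 (first conjunct) for the maximal subgroup `M`. -/
theorem hyp16 (hG : IsMinSimpleOddOrder G) {M : Subgroup G} (hM : IsCoatom M) : Hyp16 M :=
  fun p _ A hA => (Cfsg.Agent.S1416.result hG M hM p A hA).1

/-- S1417 for the maximal subgroup `M`. -/
theorem hyp17 (hG : IsMinSimpleOddOrder G) {M : Subgroup G} (hM : IsCoatom M) : Hyp17 M :=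
  fun p _ hp A hA => Cfsg.Agent.S1417.result hG M hM p hp A hA

/-- S1418 for the maximal subgroup `M`. -/
theorem hyp18 (hG : IsMinSimpleOddOrder G) {M : Subgroup G} (hM : IsCoatom M) : Hyp18 M :=
  fun E hE p _ hp A hA => Cfsg.Agent.S1418.result hG M hM E hE p hp A hA

/-- The part of S1423 used by Lemma K, for the maximal subgroup `L`. -/
theorem hyp23 (hG : IsMinSimpleOddOrder G) {L : Subgroup G} (hL : IsCoatom L) : Hyp23 L :=
  fun q _ hq Y hYL hYc hY P =>
    (Cfsg.Agent.S1423.result hG L hL q hq Y hYL hYc P (Or.inr hY)).2.1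

/-- If `N_G(A) ≤ M₂` for an elementary abelian subgroup `A` of order `p ^ 2` and `M₂` is maximal,
then `p ∈ σ(M₂)`. -/
theorem mem_sigma_of_normalizer_elemAb_le (hG : IsMinSimpleOddOrder G) {M₂ : Subgroup G}
    (hM₂ : IsCoatom M₂) {p : ℕ} [Fact p.Prime] {A : Subgroup G}
    (hAe : IsElementaryAbelian p A) (hAc : Nat.card A = p ^ 2)
    (hN : Subgroup.normalizer (A : Set G) ≤ M₂) : p ∈ sigma M₂ :=
  Cfsg.Agent.Lib.Helper58.BG12.mem_sigma_of_normalizer_elemAb_le hG hM₂ (hyp17 hG hM₂) hAe hAc hN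

/-- **Lemma K** (unconditional): let `C ≤ M_σ` be normalized but not centralized by the `p`-group
`S`, where `p ∉ σ(M)`.  Then no maximal subgroup `L ≥ C S` has `p ∈ σ(L)`. -/
theorem no_sigma_overgroup (hG : IsMinSimpleOddOrder G) {M : Subgroup G} (hM : IsCoatom M)
    {p : ℕ} [Fact p.Prime] (hpM : p ∉ sigma M) {C S : Subgroup G} (hC : C ≤ sigmaCore M)
    (hS : IsPGroup p S) (hSC : S ≤ Subgroup.normalizer (C : Set G))
    (hne : ¬ C ≤ Subgroup.centralizer (S : Set G)) {L : Subgroup G} (hL : IsCoatom L)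
    (hCL : C ≤ L) (hSL : S ≤ L) (hpL : p ∈ sigma L) : False :=
  Cfsg.Agent.Lib.Helper58.BG12.no_sigma_overgroup hG hM hpM hC hS hSC hne hL (hyp23 hG hL)
    hCL hSL hpL

/-- Lemma K in the form "`p ∈ σ(L)`, `p ∉ σ(M)`: every `p`-subgroup `S` of `M ∩ L` centralizes
every `S`-invariant subgroup `C` of `M_σ ∩ L`". -/
theorem le_centralizer_of_mem_sigma (hG : IsMinSimpleOddOrder G) {M : Subgroup G} (hM : IsCoatom M)
    {p : ℕ} [Fact p.Prime] (hpM : p ∉ sigma M) {C S : Subgroup G} (hC : C ≤ sigmaCore M)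
    (hS : IsPGroup p S) (hSC : S ≤ Subgroup.normalizer (C : Set G))
    {L : Subgroup G} (hL : IsCoatom L) (hCL : C ≤ L) (hSL : S ≤ L) (hpL : p ∈ sigma L) :
    C ≤ Subgroup.centralizer (S : Set G) := by
  by_contra hne
  exact no_sigma_overgroup hG hM hpM hC hS hSC hne hL hCL hSL hpL

/-- Core of BG 13.3 (unconditional): `M` of `p`-rank one, `p ∉ σ(M)`, `S ≤ M` an abelian
`p`-subgroup and `X ≤ S` of order `p`.  Then `C_{M_σ}(X) ≤ C_G(S)`. -/
theorem sigmaCore_inf_centralizer_le (hG : IsMinSimpleOddOrder G)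
    {M : Subgroup G} (hM : IsCoatom M) {p : ℕ} [Fact p.Prime] (hpM : p ∉ sigma M)
    (hrank : PRankLE p 1 M) {S X : Subgroup G} (hSM : S ≤ M) (hSp : IsPGroup p S)
    (hSc : ∀ a ∈ S, ∀ b ∈ S, a * b = b * a) (hXS : X ≤ S) (hX : Nat.card X = p) :
    sigmaCore M ⊓ Subgroup.centralizer (X : Set G) ≤ Subgroup.centralizer (S : Set G) :=
  Cfsg.Agent.Lib.Helper58.BG12.sigmaCore_inf_centralizer_le hG
    (fun _ hL => hyp17 hG hL) (fun _ hL => hyp18 hG hL) (fun _ hL => hyp23 hG hL)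
    hM hpM hrank hSM hSp hSc hXS hX

end Cfsg.Agent.Lib.Helper58.BG12U
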