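import Mathlib
import Cfsg.Agent.S1415
import Cfsg.Agent.S1428
import Cfsg.Agent.Lib.Helper15.BG139Defs
import Cfsg.Agent.Lib.Helper71.BG11a
import Cfsg.Agent.Lib.Helper31.BG139L178
import Cfsg.Agent.Lib.Helper15.BG139Glue
import Cfsg.Agent.Lib.Helper64.BG14K
import Cfsg.Agent.Lib.Helper80.BG14C
import Cfsg.Agent.Lib.Helper82.BG14B0
import Cfsg.Agent.Lib.Helper31.BG137
import Cfsg.Agent.Lib.Helper71.BG1310Glue
import Cfsg.Agent.Lib.Helper16.BG134Asm
import Cfsg.Agent.Lib.Helper77.BG144B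

/-!
# Glue for S1352 / S1353 / S1354 (BG Theorem 14.2 for a cyclic Hall `κ(M)`-subgroup `K`)

`kappa_data`: if `K ≠ 1` is a cyclic Hall `κ(M)`-subgroup of the maximal subgroup `M`, there is a
complement `E` of `M_σ` in `M` such that `K` is a Hall `τ₁(M)`-subgroup of `E`, `K` acts in a prime
manner on `M_σ`, `C_{M_σ}(K) ≠ 1` and `C_E(k) = K` for all `k ∈ K#`.
-/

set_option autoImplicit false
set_option linter.unusedVariables false

namespace Cfsg.Agent.Lib.Helper58.BG14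

open Cfsg Cfsg.Agent.Lib.Helper55 Cfsg.Agent.Lib.Helper31.BG134 Cfsg.Agent.Lib.Helper15.BG139

variable {G : Type*} [Group G] [Finite G]

/-- S1428 for all maximal subgroups -/
theorem h1428 (hG : IsMinSimpleOddOrder G) : H1428 G :=
  fun M hM E hE p hp P hPE hP R hRE hR =>
    Cfsg.Agent.S1428.result hG M hM E hE p hp P hPE hP R hRE hR

/-- BG 13.5 for all maximal subgroups -/
theorem primeAct_all (hG : IsMinSimpleOddOrder G) (L EL EL₁ : Subgroup G) (hL : IsCoatom L)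
    (hEL : IsComplIn EL (sigmaCore L) L) (hEL₁ : IsPiHallOf (tau1 L) EL₁ EL) : PrimeAct L EL₁ :=
  Cfsg.Agent.Lib.Helper31.BG139.primeAct hG hL (h1428 hG) hEL hEL₁

/-- an element of `M` centralizing `k ∈ E` is `e a` with `e ∈ C_E(k)`, `a ∈ C_{M_σ}(k)`. -/
theorem cent_decomp_of_compl {M E : Subgroup G} (hE : IsComplIn E (sigmaCore M) M) {k : G}
    (hk : k ∈ E) {x : G} (hxM : x ∈ M) (hxk : x ∈ Subgroup.centralizer ({k} : Set G)) :
    ∃ e ∈ E ⊓ Subgroup.centralizer ({k} : Set G),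
      ∃ a ∈ sigmaCore M ⊓ Subgroup.centralizer ({k} : Set G), x = e * a := by
  obtain ⟨hEM, hσM, hEσ, hfac⟩ := hE
  obtain ⟨e, he, a, ha, rfl⟩ := hfac x hxM
  have hxk' : k * (e * a) = e * a * k :=
    (Subgroup.mem_centralizer_iff.mp hxk) k (Set.mem_singleton k)
  have hkN : k ∈ Subgroup.normalizer ((sigmaCore M : Subgroup G) : Set G) :=
    Cfsg.Agent.Lib.Helper71.BG11.le_normalizer_sigmaCore M (hEM hk)
  have h1 : k * a * k⁻¹ ∈ sigmaCore M := (Subgroup.mem_normalizer_iff.mp hkN a).mp ha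
  have hwσ : k * a * k⁻¹ * a⁻¹ ∈ sigmaCore M :=
    (sigmaCore M).mul_mem h1 ((sigmaCore M).inv_mem ha)
  have hwE : k * a * k⁻¹ * a⁻¹ ∈ E := by
    have : k * a * k⁻¹ * a⁻¹ = (k * e * k⁻¹)⁻¹ * e := by
      have h2 : k * a * k⁻¹ = (k * e * k⁻¹)⁻¹ * (k * (e * a)) * k⁻¹ := by group
      rw [h2, hxk']; group
    rw [this]
    exact E.mul_mem (E.inv_mem (E.mul_mem (E.mul_mem hk he) (E.inv_mem hk))) he
  have hw1 : k * a * k⁻¹ * a⁻¹ = 1 := by
    have : k * a * k⁻¹ * a⁻¹ ∈ E ⊓ sigmaCore M := Subgroup.mem_inf.mpr ⟨hwE, hwσ⟩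
    rw [hEσ] at this
    exact Subgroup.mem_bot.mp this
  have hka : k * a = a * k := by
    have h2 : k * a = (k * a * k⁻¹ * a⁻¹) * a * k := by group
    rw [hw1, one_mul] at h2
    exact h2
  have hke : k * e = e * k := by
    have h5 : k * e = k * (e * a) * (k * a)⁻¹ * k := by group
    rw [h5, hxk', hka]; group
  refine ⟨e, Subgroup.mem_inf.mpr ⟨he, ?_⟩, a, Subgroup.mem_inf.mpr ⟨ha, ?_⟩, rfl⟩
  · rw [Subgroup.mem_centralizer_iff]
    intro y hy
    rw [Set.mem_singleton_iff] at hy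
    rw [hy]; exact hke
  · rw [Subgroup.mem_centralizer_iff]
    intro y hy
    rw [Set.mem_singleton_iff] at hy
    rw [hy]; exact hka

/-- the key structural fact for a nontrivial cyclic Hall `κ(M)`-subgroup -/
theorem kappa_data (hG : IsMinSimpleOddOrder G) {M K : Subgroup G} (hM : IsCoatom M)
    (hKc : IsCyclic K) (hK : IsPiHallOf (kappa M) K M) (hK1 : K ≠ ⊥) :
    ∃ E : Subgroup G, IsComplIn E (sigmaCore M) M ∧ IsPiHallOf (tau1 M) K E ∧ PrimeAct M K ∧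
      sigmaCore M ⊓ Subgroup.centralizer (K : Set G) ≠ ⊥ ∧
      ∀ k ∈ K, k ≠ 1 → E ⊓ Subgroup.centralizer ({k} : Set G) = K := by
  have hκ : ∀ p : ℕ, p ∈ kappa M → p ∈ tau1 M := by
    intro p hpκ
    have hcomm : ∀ a ∈ K, ∀ b ∈ K, a * b = b * a := by
      have hc : IsMulCommutative K := IsCyclic.isMulCommutative
      intro a ha b hb
      exact congrArg Subtype.val (isMulCommutative_iff.mp hc ⟨a, ha⟩ ⟨b, hb⟩)
    have h3 := Cfsg.Agent.Lib.Helper71.BG1310.not_tau3_of_kappa_hall_comm hG hM hK hcomm p hpκ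
    rcases Cfsg.Agent.Lib.Helper16.BG134.mem_tau_cases hG hM hpκ.1 hpκ.2.1 hpκ.2.2.1 with
      h1 | h2 | h3'
    · exact h1
    · exact (Cfsg.Agent.Lib.Helper77.BG144.not_kappa_of_tau2 h2 hpκ).elim
    · exact (h3 h3').elim
  obtain ⟨E, hE, hKE, hκ1, hKstar⟩ := Cfsg.Agent.Lib.Helper82.BG14.exists_compl_hall_tau1_of hG hM
    (fun P p hp hPM hPc => Cfsg.Agent.Lib.Helper64.BG14.cent_ne_bot_of_mem_kappa hG hM hp hPM hPc)
    (fun R r hr hrM hrs hr1 hRM hRc hC =>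
      Cfsg.Agent.Lib.Helper64.BG14.mem_kappa_of_cent_ne_bot hG hM hr hrM hrs hr1 hRM hRc hC)
    hK hK1 hκ
    (fun E E₁ hE hE₁ => primeAct_all hG M E E₁ hM hE hE₁)
  refine ⟨E, hE, hKE, primeAct_all hG M E K hM hE hKE, hKstar, ?_⟩
  apply Cfsg.Agent.Lib.Helper80.BG14.cent_compl_eq hG hM hE hKE hκ hκ1
  intro P A p q hp hPE hPc hq hAE hA hAc hCA
  haveI : Fact q.Prime := ⟨hq.1⟩
  exact Cfsg.Agent.Lib.Helper31.BG137.tau12_regular hG hM hE hp hPE hPc hq ⟨hAE, hA, hAc⟩ hCA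

end Cfsg.Agent.Lib.Helper58.BG14
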