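import Mathlib
import Cfsg.Agent.S1350
import Cfsg.Agent.Lib.Helper71.BG11a
import Cfsg.Agent.Lib.Helper13.BG12B
import Cfsg.Agent.Lib.Helper54.BG134A3a
import Cfsg.Agent.Lib.Helper54.Conj
import Cfsg.Agent.Lib.Helper18.BG14D6

/-!
# Glue for S1352 (BG Theorem 14.2 for a cyclic Hall `κ(M)`-subgroup `K`), part 2

* `coatom_ne_bot` : a maximal subgroup of a minimal simple group is not trivial;
* `exists_normal_compl_tau1` : a Hall `τ₁(M)`-subgroup `K` of a complement `E` of `M_σ` has a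
  normal complement `U` in `E` (the Hall `τ₁(M)'`-subgroup over `E'`);
* `sigmaDecomposition_of_hall_tau1`, `sigmaDecomposition_bot`, `le_normalizer_sup_sigmaCore`.
-/

set_option autoImplicit false
set_option linter.unusedVariables false

namespace Cfsg.Agent.Lib.Helper58.BG14

open Cfsg
open scoped commutatorElement

variable {G : Type*} [Group G] [Finite G]

/-- a maximal subgroup of a minimal simple group is not trivial -/
theorem coatom_ne_bot (hG : IsMinSimpleOddOrder G) {M : Subgroup G} (hM : IsCoatom M) : M ≠ ⊥ := by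
  intro hbot
  obtain ⟨-, -, hnc, -⟩ := hG
  apply hnc
  have h1 : ∀ x : G, Subgroup.zpowers x = ⊤ ∨ x = 1 := by
    intro x
    have : M ≤ Subgroup.zpowers x := hbot ▸ bot_le
    rcases (hM.le_iff).mp this with h | h
    · exact Or.inl h
    · rw [hbot] at h
      exact Or.inr (Subgroup.zpowers_eq_bot.mp h)
  refine ⟨⟨fun a b => ?_⟩⟩
  rcases h1 a with h | h
  · have hb : b ∈ Subgroup.zpowers a := h ▸ Subgroup.mem_top b
    obtain ⟨j, rfl⟩ := Subgroup.mem_zpowers_iff.mp hb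
    exact ((Commute.refl a).zpow_right j).eq
  · rw [h, one_mul, mul_one]

/-- a Hall `τ₁(M)`-subgroup `K` of a complement `E` of `M_σ` has a normal complement in `E` whose
order is prime to `τ₁(M)` -/
theorem exists_normal_compl_tau1 (hG : IsMinSimpleOddOrder G) {M E K : Subgroup G}
    (hM : IsCoatom M) (hE : IsComplIn E (sigmaCore M) M) (hKE : IsPiHallOf (tau1 M) K E) :
    ∃ U : Subgroup G, U ≤ E ∧ E ≤ Subgroup.normalizer (U : Set G) ∧ U ⊓ K = ⊥ ∧
      (∀ e ∈ E, ∃ u ∈ U, ∃ k ∈ K, e = u * k) ∧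
      ∀ p : ℕ, p.Prime → p ∣ Nat.card U → p ∉ tau1 M := by
  have hEM : E ≤ M := hE.1
  haveI hsM : Group.IsSolvable ↥M := Cfsg.Agent.Lib.Helper55.ms_solvable hG hM.1
  have hsE : Group.IsSolvable ↥E :=
    solvable_of_solvable_injective (Subgroup.inclusion_injective hEM)
  have hDE : ⁅E, E⁆ ≤ E := Subgroup.commutator_le.mpr
    (fun a ha b hb => E.mul_mem (E.mul_mem (E.mul_mem ha hb) (E.inv_mem ha)) (E.inv_mem hb))
  have hDπ : ∀ p : ℕ, p.Prime → p ∣ Nat.card ↥⁅E, E⁆ → p ∈ (tau1 M)ᶜ := by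
    intro p hp hpd hτ
    exact hτ.2.2.2.1 (hpd.trans (Subgroup.card_dvd_of_le (Subgroup.commutator_mono hEM hEM)))
  obtain ⟨U, hU, hDU⟩ :=
    Cfsg.Agent.Lib.Helper54.BG134.exists_isPiHallOf_ge hsE (tau1 M)ᶜ hDE hDπ
  have hUE : U ≤ E := hU.1
  have hconj : ∀ e ∈ E, ∀ u ∈ U, e * u * e⁻¹ ∈ U := by
    intro e he u hu
    have h1 : e * u * e⁻¹ = ⁅e, u⁆ * u := by
      rw [commutatorElement_def]; group
    rw [h1]
    exact U.mul_mem (hDU (Subgroup.commutator_mem_commutator he (hUE hu))) hu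
  have hEN : E ≤ Subgroup.normalizer (U : Set G) := by
    intro e he
    rw [Subgroup.mem_normalizer_iff]
    intro h
    constructor
    · exact hconj e he h
    · intro hh
      have := hconj e⁻¹ (E.inv_mem he) _ hh
      have h2 : e⁻¹ * (e * h * e⁻¹) * e⁻¹⁻¹ = h := by group
      rwa [h2] at this
  have hcop : (Nat.card U).Coprime (Nat.card K) := by
    apply Nat.Coprime.symm
    apply Nat.coprime_of_dvd
    intro p hp hpK hpU
    exact hU.2.1 p hp hpU (hKE.2.1 p hp hpK)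
  have hdisj : U ⊓ K = ⊥ := (Subgroup.disjoint_of_coprime_natCard hcop).eq_bot
  have hKN : K ≤ Subgroup.normalizer (U : Set G) := hKE.1.trans hEN
  have hle : E ≤ U ⊔ K := by
    rw [← Subgroup.relIndex_eq_one]
    by_contra hne
    obtain ⟨p, hp, hpd⟩ := Nat.exists_prime_and_dvd hne
    have h1 : p ∣ U.relIndex E := hpd.trans (Subgroup.relIndex_dvd_of_le_left E le_sup_left)
    have h2 : p ∣ K.relIndex E := hpd.trans (Subgroup.relIndex_dvd_of_le_left E le_sup_right)
    by_cases hτ : p ∈ tau1 M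
    · exact hKE.2.2 p hp hτ h2
    · exact hU.2.2 p hp hτ h1
  refine ⟨U, hUE, hEN, hdisj, ?_, ?_⟩
  · intro e he
    exact Cfsg.Agent.Lib.Helper54.exists_mul_of_mem_sup_of_le_normalizer hKN (hle he)
  · intro p hp hpd
    exact hU.2.1 p hp hpd

/-- from a complement `E ≥ K` of `M_σ` with `K` a Hall `τ₁(M)`-subgroup of `E` to a
`σ`-decomposition -/
theorem sigmaDecomposition_of_hall_tau1 (hG : IsMinSimpleOddOrder G) {M E K : Subgroup G}
    (hM : IsCoatom M) (hKc : IsCyclic K) (hK : IsPiHallOf (kappa M) K M)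
    (hE : IsComplIn E (sigmaCore M) M) (hKE : IsPiHallOf (tau1 M) K E) :
    ∃ U : Subgroup G, IsSigmaDecomposition M K U := by
  obtain ⟨U, hUE, hEN, hdisj, hfac, -⟩ := exists_normal_compl_tau1 hG hM hE hKE
  obtain ⟨hEM, hσM, hEσ, hMfac⟩ := hE
  have hKσN : K ≤ Subgroup.normalizer ((sigmaCore M : Subgroup G) : Set G) :=
    (hKE.1.trans hEM).trans (Cfsg.Agent.Lib.Helper71.BG11.le_normalizer_sigmaCore M)
  refine ⟨U, hKc, hK, ⟨hUE.trans hEM, sup_le (hKE.1.trans hEM) hσM, ?_, ?_⟩, hKE.1.trans hEN⟩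
  · rw [eq_bot_iff]
    intro x hx
    obtain ⟨hxU, hxKσ⟩ := Subgroup.mem_inf.mp hx
    obtain ⟨a, ha, k, hk, rfl⟩ :=
      Cfsg.Agent.Lib.Helper54.exists_mul_of_mem_sup_of_le_normalizer hKσN
        (by rwa [sup_comm] at hxKσ)
    -- `a = (a k) k⁻¹ ∈ E ⊓ M_σ = 1`
    have haE : a ∈ E := by
      have : a = a * k * k⁻¹ := by group
      rw [this]
      exact E.mul_mem (hUE hxU) (E.inv_mem (hKE.1 hk))
    have ha1 : a = 1 := by
      have : a ∈ E ⊓ sigmaCore M := Subgroup.mem_inf.mpr ⟨haE, ha⟩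
      rw [hEσ] at this
      exact Subgroup.mem_bot.mp this
    rw [ha1, one_mul] at hxU ⊢
    have : k ∈ U ⊓ K := Subgroup.mem_inf.mpr ⟨hxU, hk⟩
    rw [hdisj] at this
    exact this
  · intro m hm
    obtain ⟨e, he, a, ha, rfl⟩ := hMfac m hm
    obtain ⟨u, hu, k, hk, rfl⟩ := hfac e he
    refine ⟨u, hu, k * a, Subgroup.mul_mem_sup hk ha, ?_⟩
    group

/-- the case `K = 1`: any complement of `M_σ` is a `σ`-decomposition -/
theorem sigmaDecomposition_bot (hG : IsMinSimpleOddOrder G) {M K : Subgroup G}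
    (hM : IsCoatom M) (hKc : IsCyclic K) (hK : IsPiHallOf (kappa M) K M) (hK1 : K = ⊥) :
    ∃ U : Subgroup G, IsSigmaDecomposition M K U := by
  have hHall := (Cfsg.Agent.S1350.result hG M hM).1
  obtain ⟨E, hE, -⟩ := Cfsg.Agent.Lib.Helper13.BG12.exists_complIn_ge hG hM hHall
    (K := ⊥) bot_le (by
      intro p hp hpd
      rw [Subgroup.card_bot] at hpd
      exact absurd (Nat.dvd_one.mp hpd) hp.ne_one)
  refine ⟨E, hKc, hK, ?_, ?_⟩
  · rw [hK1, bot_sup_eq]
    exact hE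
  · rw [hK1]
    exact bot_le

/-- for every `σ`-decomposition, `U M_σ` is normal in `M` -/
theorem le_normalizer_sup_sigmaCore {M K U : Subgroup G} (hKU : IsSigmaDecomposition M K U) :
    M ≤ Subgroup.normalizer ((U ⊔ sigmaCore M : Subgroup G) : Set G) := by
  obtain ⟨hUM, hKσM, -, hfac⟩ := hKU.compl
  have hKM : K ≤ M := le_sup_left.trans hKσM
  intro m hm
  obtain ⟨u, hu, b, hb, rfl⟩ := hfac m hm
  apply Subgroup.mul_mem
  · exact Subgroup.le_normalizer (Subgroup.mem_sup_left hu)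
  · have hle : K ⊔ sigmaCore M ≤ Subgroup.normalizer ((U ⊔ sigmaCore M : Subgroup G) : Set G) := by
      apply sup_le
      · intro k hk
        exact Cfsg.Agent.Lib.Helper18.BG14.mem_normalizer_sup (hKU.normal hk)
          (Cfsg.Agent.Lib.Helper71.BG11.le_normalizer_sigmaCore M (hKM hk))
      · exact le_sup_right.trans Subgroup.le_normalizer
    exact hle hb

end Cfsg.Agent.Lib.Helper58.BG14
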