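import Mathlib
import Cfsg.Agent.S1459

/-!
# A quotient form of S1459(a)

If `S` is a normal Hall subgroup of the finite solvable group `X` with complement `E`, `S ≤ X'`,
and `y ∈ S` centralizes `E` modulo `X''`, then `y ∈ X''`.
-/

set_option autoImplicit false
set_option linter.unusedVariables false

namespace Cfsg.Agent.Lib.Helper58.BG14D

open scoped commutatorElement Pointwise

theorem mem_derived_two_of_comm_mod {X : Type*} [Group X] [Finite X] [Group.IsSolvable X]
    (S E : Subgroup X) [hSn : S.Normal] (hcop : (Nat.card S).Coprime S.index)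
    (hc : Subgroup.IsComplement' S E) (hS : S ≤ commutator X) {y : X} (hy : y ∈ S)
    (hyE : ∀ e ∈ E, ⁅y, e⁆ ∈ ⁅commutator X, commutator X⁆) :
    y ∈ ⁅commutator X, commutator X⁆ := by
  classical
  set N : Subgroup X := ⁅commutator X, commutator X⁆ with hN
  haveI hNn : N.Normal := by rw [hN]; infer_instance
  set π : X →* X ⧸ N := QuotientGroup.mk' N with hπdef
  have hπ : Function.Surjective π := QuotientGroup.mk'_surjective N
  have hker : π.ker = N := QuotientGroup.ker_mk' N
  haveI : (S.map π).Normal := Subgroup.Normal.map hSn π hπ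
  -- coprimality
  have h1 : Nat.card (S.map π) ∣ Nat.card S := Subgroup.card_map_dvd S π
  have h2 : (S.map π).index ∣ S.index := Subgroup.index_map_dvd S hπ
  have hcop' : (Nat.card (S.map π)).Coprime (S.map π).index :=
    Nat.Coprime.coprime_dvd_left h1 (Nat.Coprime.coprime_dvd_right h2 hcop)
  -- `|E| = |X : S|`
  have hEcard : Nat.card E = S.index := by
    have ha := hc.card_mul_card
    have hb := S.card_mul_index
    have hpos : 0 < Nat.card S := Nat.card_pos
    exact Nat.eq_of_mul_eq_mul_left hpos (ha.trans hb.symm)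
  have hcopE : (Nat.card (S.map π)).Coprime (Nat.card (E.map π)) := by
    have h3 : Nat.card (E.map π) ∣ S.index := by
      rw [← hEcard]; exact Subgroup.card_map_dvd E π
    exact Nat.Coprime.coprime_dvd_left h1 (Nat.Coprime.coprime_dvd_right h3 hcop)
  have hcompl : Subgroup.IsComplement' (S.map π) (E.map π) := by
    apply Subgroup.isComplement'_of_disjoint_and_mul_eq_univ
    · exact Subgroup.disjoint_of_coprime_natCard hcopE
    · apply Set.eq_univ_of_forall
      intro q
      obtain ⟨x, rfl⟩ := hπ q
      obtain ⟨⟨⟨s, hs⟩, ⟨e, he⟩⟩, hse⟩ := (Subgroup.isComplement_iff_existsUnique.mp hc x).exists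
      refine Set.mem_mul.mpr ⟨π s, Subgroup.mem_map_of_mem π hs, π e, Subgroup.mem_map_of_mem π he, ?_⟩
      rw [← map_mul]
      exact congrArg π hse
  -- `S̄ ≤ X̄'`
  have hle : S.map π ≤ commutator (X ⧸ N) := by
    have h3 : (commutator X).map π = commutator (X ⧸ N) := by
      rw [commutator_def, commutator_def, Subgroup.map_commutator, ← MonoidHom.range_eq_map,
        MonoidHom.range_eq_top.mpr hπ]
    rw [← h3]
    exact Subgroup.map_mono hS
  have h59 := (Cfsg.Agent.S1459.result (G := X ⧸ N)).1 (S.map π) (E.map π) inferInstance hcop'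
    hcompl hle
  have hHH : ⁅S.map π, S.map π⁆ = ⊥ := by
    rw [← Subgroup.map_commutator, eq_bot_iff, Subgroup.map_le_iff_le_comap]
    intro z hz
    rw [Subgroup.mem_comap, Subgroup.mem_bot]
    have hzN : z ∈ N := Subgroup.commutator_mono hS hS hz
    exact (QuotientGroup.eq_one_iff z).mpr hzN
  have hmem : π y ∈ S.map π ⊓ Subgroup.centralizer ((E.map π : Subgroup (X ⧸ N)) : Set (X ⧸ N)) := by
    refine Subgroup.mem_inf.mpr ⟨Subgroup.mem_map_of_mem π hy, ?_⟩
    rw [Subgroup.mem_centralizer_iff]
    rintro _ ⟨e, he, rfl⟩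
    -- `π e * π y = π y * π e`
    have h4 : π ⁅y, e⁆ = 1 := (QuotientGroup.eq_one_iff _).mpr (hyE e he)
    rw [map_commutatorElement, commutatorElement_eq_one_iff_commute] at h4
    exact h4.eq.symm
  have h5 := h59.2 hmem
  rw [hHH, Subgroup.mem_bot] at h5
  exact (QuotientGroup.eq_one_iff y).mp h5

end Cfsg.Agent.Lib.Helper58.BG14D
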