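import Mathlib
import Cfsg.Agent.S1350
import Cfsg.Agent.S1426
import Cfsg.Agent.Lib.Helper31.BG15KA
import Cfsg.Agent.Lib.Helper54.Conj
import Cfsg.Agent.Lib.Helper55.Uniq3
import Cfsg.Agent.Lib.Helper58.BG14Glue2
import Cfsg.Agent.Lib.Helper58.BG14DW2a

/-!
# K-1370-W2 (keystone 137007, architect helper11): S1365 from the free action of `K` on `U`

`M = K U M_σ` a standard factorisation with `K ≠ 1` acting freely on `U`.  Then `M' = U M_σ` and
`K* = C_{M_σ}(K) ≤ M''`.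
-/

set_option autoImplicit false
set_option linter.unusedVariables false
set_option linter.style.haveILetI false

namespace Cfsg.Agent.Lib.Helper58.BG14D

open Cfsg Subgroup
open scoped commutatorElement

variable {G : Type*} [Group G] [Finite G]

/-- `V ≤ N_G(N)` gives `[V, N] ≤ N`. -/
theorem commutator_le_of_le_normalizer {V N : Subgroup G}
    (hV : V ≤ normalizer (N : Set G)) : ⁅V, N⁆ ≤ N := by
  rw [Subgroup.commutator_le]
  intro a ha b hb
  have h1 : a * b * a⁻¹ ∈ N := (Subgroup.mem_normalizer_iff.mp (hV ha) b).mp hb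
  rw [commutatorElement_def]
  exact N.mul_mem h1 (N.inv_mem hb)

/-- the image of the derived subgroup of `↥M` in `G` -/
theorem map_commutator_subtype (M : Subgroup G) :
    (commutator ↥M).map M.subtype = ⁅M, M⁆ := by
  rw [commutator_def, Subgroup.map_commutator, ← MonoidHom.range_eq_map, Subgroup.range_subtype]

/-- a free action of `k` on `U` makes every element of `U` a commutator with `k` -/
theorem le_commutator_of_free {M K U : Subgroup G} (hUM : U ≤ M) (hKM : K ≤ M)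
    (hKU : K ≤ normalizer (U : Set G)) {k : G} (hk : k ∈ K)
    (hfree : U ⊓ centralizer ({k} : Set G) = ⊥) : U ≤ ⁅M, M⁆ := by
  classical
  have hkn : ∀ u ∈ U, k * u * k⁻¹ ∈ U := fun u hu =>
    (Subgroup.mem_normalizer_iff.mp (hKU hk) u).mp hu
  let f : U → U := fun u => ⟨(u : G)⁻¹ * (k * u * k⁻¹), U.mul_mem (U.inv_mem u.2) (hkn u u.2)⟩
  have hinj : Function.Injective f := by
    intro u w huw
    have h1 : (u : G)⁻¹ * (k * u * k⁻¹) = (w : G)⁻¹ * (k * w * k⁻¹) := congrArg Subtype.val huw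
    have h2 : (w : G) * (u : G)⁻¹ ∈ U ⊓ centralizer ({k} : Set G) := by
      refine Subgroup.mem_inf.mpr ⟨U.mul_mem w.2 (U.inv_mem u.2), ?_⟩
      rw [Subgroup.mem_centralizer_iff]
      intro z hz
      rw [Set.mem_singleton_iff] at hz
      rw [hz]
      -- `k * (w u⁻¹) = (w u⁻¹) * k`
      have h3 : k * (u : G) * k⁻¹ = (u : G) * ((w : G)⁻¹ * (k * w * k⁻¹)) := by
        rw [← h1]; group
      have h4 : k * ((w : G) * (u : G)⁻¹) = (w : G) * (u : G)⁻¹ * k := by
        have h5 : k * (u : G) = (u : G) * (w : G)⁻¹ * k * w := by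
          have : k * (u : G) = k * (u : G) * k⁻¹ * k := by group
          rw [this, h3]; group
        have h6 : (w : G) * (u : G)⁻¹ * k = (w : G) * ((u : G)⁻¹ * (k * (u : G))) * (u : G)⁻¹ := by
          group
        rw [h6, h5]; group
      exact h4
    rw [hfree, Subgroup.mem_bot] at h2
    apply Subtype.ext
    have : (w : G) = u := by
      have h7 : (w : G) = (w : G) * (u : G)⁻¹ * u := by group
      rw [h7, h2, one_mul]
    exact this.symm
  have hsurj : Function.Surjective f := Finite.injective_iff_surjective.mp hinj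
  intro v hv
  obtain ⟨u, hu⟩ := hsurj ⟨v, hv⟩
  have h1 : (u : G)⁻¹ * (k * u * k⁻¹) = v := congrArg Subtype.val hu
  have h2 : v = ⁅(u : G)⁻¹, k⁆ := by
    rw [commutatorElement_def, ← h1]; group
  rw [h2]
  exact Subgroup.commutator_mem_commutator (hUM (U.inv_mem u.2)) (hKM hk)

/-- KEYSTONE 137007 (K-1370-W2): S1365 from the free action. -/
theorem s1365_of (hG : IsMinSimpleOddOrder G) (M : Subgroup G) (hM : IsCoatom M) (K U : Subgroup G)
    (hKU : IsSigmaDecomposition M K U) (hK1 : K ≠ ⊥)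
    (hfree : ∀ k ∈ K, k ≠ 1 → U ⊓ centralizer ({k} : Set G) = ⊥) :
    ⁅M, M⁆ = U ⊔ sigmaCore M ∧ (sigmaCore M ⊓ centralizer (K : Set G)) ≤ ⁅⁅M, M⁆, ⁅M, M⁆⁆ := by
  classical
  have hUM : U ≤ M := hKU.compl.1
  have hKM : K ≤ M := hKU.hall.1
  have hSM : sigmaCore M ≤ M := Cfsg.Agent.Lib.Helper71.BG11.sigmaCore_le M
  have hE : IsComplIn (U ⊔ K) (sigmaCore M) M :=
    Cfsg.Agent.Lib.Helper31.BG15.isComplIn_sup_of_sigmaDecomposition hG hM hKU
  have hNM : M ≤ normalizer ((U ⊔ sigmaCore M : Subgroup G) : Set G) :=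
    Cfsg.Agent.Lib.Helper58.BG14.le_normalizer_sup_sigmaCore hKU
  have hcomm : ∀ a ∈ K, ∀ b ∈ K, a * b = b * a := by
    have hc : IsMulCommutative K := by
      haveI := hKU.cyclic
      exact IsCyclic.isMulCommutative
    intro a ha b hb
    exact congrArg Subtype.val (isMulCommutative_iff.mp hc ⟨a, ha⟩ ⟨b, hb⟩)
  -- `U ≤ M'`
  obtain ⟨k, hk1⟩ := (Subgroup.ne_bot_iff_exists_ne_one).mp hK1
  have hk1' : (k : G) ≠ 1 := fun h => hk1 (Subtype.ext h)
  have hUd : U ≤ ⁅M, M⁆ :=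
    le_commutator_of_free hUM hKM hKU.normal k.2 (hfree k k.2 hk1')
  -- `M_σ ≤ M'`
  have hSd : sigmaCore M ≤ ⁅M, M⁆ := by
    have h26 := (Cfsg.Agent.S1426.result hG M hM (U ⊔ K) hE).2.1
    rw [← h26]
    exact Subgroup.commutator_mono hSM hE.1
  -- `M' ≤ U M_σ`
  have hMle : M ≤ K ⊔ (U ⊔ sigmaCore M) := by
    intro m hm
    obtain ⟨u, hu, b, hb, rfl⟩ := hKU.compl.2.2.2 m hm
    refine Subgroup.mul_mem _ (Subgroup.mem_sup_right (Subgroup.mem_sup_left hu)) ?_
    exact (sup_le le_sup_left (le_sup_right.trans le_sup_right) :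
      K ⊔ sigmaCore M ≤ K ⊔ (U ⊔ sigmaCore M)) hb
  have hKN : K ≤ normalizer ((U ⊔ sigmaCore M : Subgroup G) : Set G) := hKM.trans hNM
  have hNN : U ⊔ sigmaCore M ≤ normalizer ((U ⊔ sigmaCore M : Subgroup G) : Set G) :=
    Subgroup.le_normalizer
  have hVN : K ⊔ (U ⊔ sigmaCore M) ≤ normalizer ((U ⊔ sigmaCore M : Subgroup G) : Set G) :=
    sup_le hKN hNN
  have hKK : ⁅K, K⁆ ≤ U ⊔ sigmaCore M := by
    rw [Subgroup.commutator_le]
    intro a ha b hb
    rw [commutatorElement_eq_one_iff_commute.mpr (hcomm a ha b hb)]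
    exact Subgroup.one_mem _
  have h_a : ⁅K ⊔ (U ⊔ sigmaCore M), K⁆ ≤ U ⊔ sigmaCore M := by
    rw [Subgroup.commutator_comm]
    exact Cfsg.Agent.Lib.Helper54.commutator_sup_le hKN hNN hKK (commutator_le_of_le_normalizer hKN)
  have h_b : ⁅K ⊔ (U ⊔ sigmaCore M), U ⊔ sigmaCore M⁆ ≤ U ⊔ sigmaCore M :=
    commutator_le_of_le_normalizer hVN
  have hdle : ⁅M, M⁆ ≤ U ⊔ sigmaCore M :=
    (Subgroup.commutator_mono hMle hMle).trans
      (Cfsg.Agent.Lib.Helper54.commutator_sup_le hKN hNN h_a h_b)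
  have hd : ⁅M, M⁆ = U ⊔ sigmaCore M := le_antisymm hdle (sup_le hUd hSd)
  refine ⟨hd, ?_⟩
  -- `K* ≤ M''`
  haveI hsolv : Group.IsSolvable ↥M := Cfsg.Agent.Lib.Helper55.ms_solvable hG hM.1
  set H : Subgroup ↥M := piCore (sigma M) ↥M with hHdef
  have hσH : sigmaCore M = H.map M.subtype := rfl
  have hcardH : Nat.card (sigmaCore M) = Nat.card H := by
    rw [hσH]; exact Subgroup.card_map_of_injective M.subtype_injective
  have hidxH : (sigmaCore M).relIndex M = H.index := by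
    rw [hσH]
    show ((H.map M.subtype).comap M.subtype).index = H.index
    rw [Subgroup.comap_map_eq_self_of_injective M.subtype_injective]
  obtain ⟨-, hH1, hH2⟩ := (Cfsg.Agent.S1350.result hG M hM).1
  rw [hcardH] at hH1
  rw [hidxH] at hH2
  have hcop : (Nat.card H).Coprime H.index :=
    Nat.coprime_of_dvd (fun k hk hk1 hk2 => hH2 k hk (hH1 k hk hk1) hk2)
  have hmapd : (commutator ↥M).map M.subtype = ⁅M, M⁆ := map_commutator_subtype M
  have hmapdd : (⁅commutator ↥M, commutator ↥M⁆).map M.subtype = ⁅⁅M, M⁆, ⁅M, M⁆⁆ := by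
    rw [Subgroup.map_commutator, hmapd]
  have hHcomm : H ≤ commutator ↥M := by
    intro h hh
    have h1 : (h : G) ∈ ⁅M, M⁆ := hSd ⟨h, hh, rfl⟩
    rw [← hmapd] at h1
    obtain ⟨c, hc, hch⟩ := h1
    have : c = h := Subtype.ext hch
    rwa [this] at hc
  obtain ⟨hEM, -, hdisj, hprod⟩ := hE
  set E' : Subgroup ↥M := (U ⊔ K).subgroupOf M with hE'def
  have hcompl : Subgroup.IsComplement' H E' := by
    apply Subgroup.isComplement'_of_disjoint_and_mul_eq_univ
    · rw [Subgroup.disjoint_def]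
      intro x hxH hxK
      have h1 : (x : G) ∈ (U ⊔ K) ⊓ sigmaCore M := ⟨Subgroup.mem_subgroupOf.1 hxK, ⟨x, hxH, rfl⟩⟩
      rw [hdisj, Subgroup.mem_bot] at h1
      exact Subtype.ext h1
    · apply Set.eq_univ_of_forall
      intro x
      obtain ⟨a, ha, b, hb, hab⟩ := hprod x.1 x.2
      obtain ⟨b', hb', rfl⟩ := hb
      set a' : ↥M := ⟨a, hEM ha⟩ with ha'
      have haK : a' ∈ E' := Subgroup.mem_subgroupOf.2 ha
      refine Set.mem_mul.2 ⟨a' * b' * a'⁻¹, ?_, a', haK, ?_⟩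
      · exact (inferInstance : H.Normal).conj_mem b' hb' a'
      · apply Subtype.ext
        rw [hab]
        simp [ha']
  intro y hy
  obtain ⟨hyS, hyK⟩ := Subgroup.mem_inf.mp hy
  obtain ⟨y', hy'H, hy'y⟩ := hyS
  have hy'mem : y' ∈ ⁅commutator ↥M, commutator ↥M⁆ := by
    apply mem_derived_two_of_comm_mod H E' hcop hcompl hHcomm hy'H
    intro e he
    have heUK : (e : G) ∈ U ⊔ K := Subgroup.mem_subgroupOf.1 he
    obtain ⟨u, hu, k', hk', hek⟩ :=
      (Cfsg.Agent.Lib.Helper31.BG15.mem_sup_iff_of_sigmaDecomposition hKU).mp heUK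
    -- `⁅y, u k'⁆ = ⁅y, u⁆`
    have hyk : y * k' = k' * y := ((Subgroup.mem_centralizer_iff.mp hyK) k' hk').symm
    have h1 : ((⁅y', e⁆ : ↥M) : G) = ⁅y, u⁆ := by
      have h2 : ((⁅y', e⁆ : ↥M) : G) = ⁅(y' : G), (e : G)⁆ := by
        simp [commutatorElement_def]
      have hy'y' : (y' : G) = y := hy'y
      rw [h2, hy'y', hek, commutatorElement_def, commutatorElement_def]
      have h3 : y * (u * k') * y⁻¹ * (u * k')⁻¹ = y * u * (k' * y⁻¹) * k'⁻¹ * u⁻¹ := by group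
      have h4 : k' * y⁻¹ = y⁻¹ * k' := by
        have : k' * y⁻¹ = y⁻¹ * (y * k') * y⁻¹ := by group
        rw [this, hyk]; group
      rw [h3, h4]; group
    have h5 : ⁅y, u⁆ ∈ ⁅⁅M, M⁆, ⁅M, M⁆⁆ :=
      Subgroup.commutator_mem_commutator (hSd ⟨y', hy'H, hy'y⟩) (hUd hu)
    rw [← hmapdd, ← h1] at h5
    obtain ⟨c, hc, hcc⟩ := h5
    have : c = ⁅y', e⁆ := Subtype.ext hcc
    rwa [this] at hc
  rw [← hmapdd]
  exact ⟨y', hy'mem, hy'y⟩

end Cfsg.Agent.Lib.Helper58.BG14D
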