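import Mathlib
import Cfsg.Agent.Lib.Helper58.KChar1
import Cfsg.Agent.Lib.Helper57.GTReduction
import Cfsg.Agent.Lib.Helper66.AbelAct
import Cfsg.Agent.Lib.Helper20.SylowNormal

/-!
# The characteristic subgroup `K(S)` deciding normal `p`-complements: set-up

`Works p S K`: whenever `S` is embedded as a Sylow `p`-subgroup of a finite group `G` in which the
elements of order prime to `p` normalizing the image of `K` centralize it, `G` has a normal
`p`-complement.
-/

set_option autoImplicit false
open Cfsg
open Cfsg.Agent.Lib.Helper16 Cfsg.Agent.Lib.Helper97 Cfsg.Agent.Lib.Helper57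
open scoped commutatorElement

universe u

namespace Cfsg.Agent.Lib.Helper58.KChar

section Transport

/-- the image of a characteristic subgroup under an isomorphism is characteristic -/
theorem characteristic_map_equiv {A B : Type*} [Group A] [Group B] (e : A ≃* B) (K : Subgroup A)
    [hK : K.Characteristic] : (K.map e.toMonoidHom).Characteristic := by
  rw [Subgroup.characteristic_iff_map_eq]
  intro φ
  have h := Subgroup.characteristic_iff_map_eq.mp hK ((e.trans φ).trans e.symm)
  rw [Subgroup.map_map]
  conv_rhs => rw [← h]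
  rw [Subgroup.map_map]
  congr 1
  ext x
  simp

/-- elements normalizing the image `Q` of an embedding `ι : S → G` normalize the image of every
characteristic subgroup of `S` -/
theorem normalizer_le_normalizer_map_of_char {S G : Type*} [Group S] [Group G] (ι : S →* G)
    (hinj : Function.Injective ι) (Q : Subgroup G) (hQ : ι.range = Q) (K : Subgroup S)
    [hK : K.Characteristic] :
    Subgroup.normalizer (Q : Set G) ≤ Subgroup.normalizer ((K.map ι : Subgroup G) : Set G) := by
  subst hQ
  set e : S ≃* ι.range := MonoidHom.ofInjective hinj with he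
  have : (K.map e.toMonoidHom).Characteristic := characteristic_map_equiv e K
  have h1 : (K.map e.toMonoidHom).map ι.range.subtype = K.map ι := by
    rw [Subgroup.map_map]
    congr 1
  rw [← h1]
  exact Cfsg.Agent.Lib.Helper66.normalizer_le_normalizer_map_of_characteristic ι.range
    (K.map e.toMonoidHom)

/-- the normalizer of a subgroup normalizes its centralizer -/
theorem normalizer_le_normalizer_centralizer {G : Type*} [Group G] (H : Subgroup G) :
    Subgroup.normalizer (H : Set G) ≤
      Subgroup.normalizer ((Subgroup.centralizer (H : Set G) : Subgroup G) : Set G) := by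
  have key : ∀ g ∈ Subgroup.normalizer (H : Set G), ∀ c ∈ Subgroup.centralizer (H : Set G),
      g * c * g⁻¹ ∈ Subgroup.centralizer (H : Set G) := by
    intro g hg c hc
    rw [Subgroup.mem_centralizer_iff]
    intro h hh
    have h1 : g⁻¹ * h * g ∈ H := by
      have := (Subgroup.mem_normalizer_iff.mp (Subgroup.inv_mem _ hg) h).mp hh
      simpa using this
    have h2 := Subgroup.mem_centralizer_iff.mp hc _ h1
    calc h * (g * c * g⁻¹) = g * ((g⁻¹ * h * g) * c) * g⁻¹ := by group
      _ = g * (c * (g⁻¹ * h * g)) * g⁻¹ := by rw [h2]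
      _ = g * c * g⁻¹ * h := by group
  intro g hg
  rw [Subgroup.mem_normalizer_iff]
  intro c
  constructor
  · exact key g hg c
  · intro hc
    have := key g⁻¹ (Subgroup.inv_mem _ hg) _ hc
    simpa [mul_assoc] using this

/-- lifting an element of order prime to `p` along a homomorphism -/
theorem exists_coprime_pow {X Y : Type*} [Group X] [Group Y] [Finite X] {p : ℕ} [Fact p.Prime]
    (f : X →* Y) (g : X) (h : (orderOf (f g)).Coprime p) :
    ∃ k : ℕ, (orderOf (g ^ k)).Coprime p ∧ f (g ^ k) = f g := by
  have hp : p.Prime := Fact.out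
  have hpos : orderOf g ≠ 0 := (orderOf_pos g).ne'
  obtain ⟨a, m, hm, hxm⟩ := Nat.exists_eq_pow_mul_and_not_dvd hpos p hp.ne_one
  have hc : (p ^ a).Coprime (orderOf (f g)) := Nat.Coprime.pow_left a h.symm
  obtain ⟨c, hc'⟩ := exists_pow_eq_self_of_coprime hc
  refine ⟨p ^ a * c, ?_, ?_⟩
  · rw [pow_mul]
    have h1 : orderOf (g ^ p ^ a) = m := by
      rw [orderOf_pow, hxm, Nat.gcd_eq_right (Dvd.intro _ rfl)]
      rw [Nat.mul_div_cancel_left _ (pow_pos hp.pos a)]
    have h2 : orderOf ((g ^ p ^ a) ^ c) ∣ m := by
      rw [← h1]; exact orderOf_pow_dvd c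
    exact Nat.Coprime.coprime_dvd_left h2 ((Nat.Prime.coprime_iff_not_dvd hp).mpr hm).symm
  · rw [pow_mul, map_pow, map_pow]
    exact hc'

end Transport

/-- `K ≤ S` decides normal `p`-complements in every finite group having `S` as a Sylow
`p`-subgroup -/
def Works (p : ℕ) (S : Type u) [Group S] (K : Subgroup S) : Prop :=
  ∀ (G : Type u) [Group G] [Finite G] (P : Sylow p G) (ι : S →* G), Function.Injective ι →
    ι.range = (P : Subgroup G) →
    (∀ g ∈ Subgroup.normalizer ((K.map ι : Subgroup G) : Set G), (orderOf g).Coprime p →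
      g ∈ Subgroup.centralizer ((K.map ι : Subgroup G) : Set G)) →
    HasNormalPComplement p G

/-- the normalizer of the image of `Z ≤ S` controls normal `p`-complements -/
def GTProp (p : ℕ) (S : Type u) [Group S] (Z : Subgroup S) : Prop :=
  ∀ (G : Type u) [Group G] [Finite G] (P : Sylow p G) (ι : S →* G), Function.Injective ι →
    ι.range = (P : Subgroup G) →
    HasNormalPComplement p ↥(Subgroup.normalizer ((Z.map ι : Subgroup G) : Set G)) →
    HasNormalPComplement p G

/-- the Glauberman–Thompson subgroup (intersection of the abelian subgroups of maximal order) -/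
def ZA (S : Type u) [Group S] : Subgroup S :=
  ZJ.WW (fun U : Subgroup S => IsMulCommutative ↥U) ⊤

section ZA
variable {p : ℕ} [Fact p.Prime] (S : Type u) [Group S] [Finite S]

instance ZA_characteristic : (ZA S).Characteristic := by
  rw [Subgroup.characteristic_iff_map_eq]
  intro φ
  unfold ZA
  rw [ZJ.WW_map ZJ.goodPred_comm φ ⊤]
  congr 1
  rw [← MonoidHom.range_eq_map, MonoidHom.range_eq_top]
  exact φ.surjective

theorem ZA_commutator : ⁅ZA S, ZA S⁆ = ⊥ := ZJ.WW_commutator_eq_bot ZJ.goodPred_comm ⊤

theorem ZA_le_centralizer : ZA S ≤ Subgroup.centralizer (ZA S : Set S) := by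
  intro x hx
  rw [Subgroup.mem_centralizer_iff]
  intro y hy
  have h1 : ⁅x, y⁆ ∈ ⁅ZA S, ZA S⁆ := Subgroup.commutator_mem_commutator hx hy
  rw [ZA_commutator, Subgroup.mem_bot, commutatorElement_eq_one_iff_mul_comm] at h1
  exact h1.symm

theorem ZA_ne_bot (hS : IsPGroup p S) (hne : Nontrivial S) : ZA S ≠ ⊥ := by
  have hQ := GT.goodFam_comm (p := p)
  apply hQ.ne_bot S ⊤
  · exact hS.to_subgroup ⊤
  · intro h
    have h1 : Subsingleton (Subgroup S) := subsingleton_of_bot_eq_top h.symm
    have : Subsingleton S := Subgroup.subsingleton_iff.mp h1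
    exact not_subsingleton S this

theorem ZA_gtprop (hp : p ≠ 2) : GTProp p S (ZA S) := by
  intro G _ _ P ι hinj hrange hN
  have hQ := GT.goodFam_comm.{u} (p := p)
  have h1 : (ZA S).map ι = ZJ.WW (fun U : Subgroup G => IsMulCommutative ↥U) (P : Subgroup G) := by
    unfold ZA
    rw [GT.WW_map_of_injective hQ ι hinj ⊤, ← MonoidHom.range_eq_map, hrange]
  rw [h1] at hN
  exact GT.gt_main hp hQ P (P : Subgroup G) (ZJ.stronglyClosed_self (P : Subgroup G)) hN

end ZA

section Base
variable {p : ℕ} [Fact p.Prime]

/-- for the trivial group, `K = ⊤` works -/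
theorem works_of_subsingleton (S : Type u) [Group S] [Subsingleton S] (K : Subgroup S) :
    Works p S K := by
  intro G _ _ P ι _ hrange _
  apply pn_of_coprime_card
  have hp : p.Prime := Fact.out
  rw [Nat.coprime_comm, hp.coprime_iff_not_dvd]
  intro hdvd
  have hne : (P : Subgroup G) ≠ ⊥ := P.ne_bot_of_dvd_card hdvd
  apply hne
  rw [← hrange, eq_bot_iff]
  rintro _ ⟨s, rfl⟩
  rw [Subsingleton.elim s 1, map_one]
  exact Subgroup.one_mem _

end Base

end Cfsg.Agent.Lib.Helper58.KChar
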