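import Mathlib
import Cfsg.Agent.Lib.Helper58.KChar2

set_option autoImplicit false
open Cfsg
open Cfsg.Agent.Lib.Helper16 Cfsg.Agent.Lib.Helper97 Cfsg.Agent.Lib.Helper57
open scoped commutatorElement

universe u

namespace Cfsg.Agent.Lib.Helper58.KChar

section Sub
variable {G : Type*} [Group G]

theorem mem_centralizer_subgroupOf {N A : Subgroup G} (hAN : A ≤ N) (x : ↥N) :
    x ∈ Subgroup.centralizer ((A.subgroupOf N : Subgroup ↥N) : Set ↥N) ↔
      (x : G) ∈ Subgroup.centralizer (A : Set G) := by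
  rw [Subgroup.mem_centralizer_iff, Subgroup.mem_centralizer_iff]
  constructor
  · intro h z hz
    have := h ⟨z, hAN hz⟩ (by rw [SetLike.mem_coe, Subgroup.mem_subgroupOf]; exact hz)
    exact congrArg Subtype.val this
  · intro h z hz
    apply Subtype.ext
    exact h (z : G) (by rw [SetLike.mem_coe, Subgroup.mem_subgroupOf] at hz; exact hz)

theorem coe_mem_normalizer_map_subtype {H : Subgroup G} (A : Subgroup ↥H) (g : ↥H)
    (hg : g ∈ Subgroup.normalizer (A : Set ↥H)) :
    (g : G) ∈ Subgroup.normalizer ((A.map H.subtype : Subgroup G) : Set G) :=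
  Subgroup.le_normalizer_map H.subtype ⟨g, hg, rfl⟩

theorem mem_centralizer_of_coe_mem {H : Subgroup G} (A : Subgroup ↥H) (g : ↥H)
    (hg : (g : G) ∈ Subgroup.centralizer ((A.map H.subtype : Subgroup G) : Set G)) :
    g ∈ Subgroup.centralizer (A : Set ↥H) := by
  rw [Subgroup.mem_centralizer_iff] at hg ⊢
  intro y hy
  apply Subtype.ext
  exact hg (y : G) ⟨y, hy, rfl⟩

end Sub

section Case1
variable {p : ℕ} [Fact p.Prime]

/-- self-centralizing property in the first case -/
theorem case1_le (S : Type u) [Group S] (Z S₁ : Subgroup S)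
    (hS₁ : S₁ = Subgroup.centralizer (Z : Set S)) (hZab : Z ≤ S₁)
    (K₁ : Subgroup ↥S₁) (hK₁c : Subgroup.centralizer (K₁ : Set ↥S₁) ≤ K₁) :
    Z ≤ K₁.map S₁.subtype := by
  intro z hz
  refine ⟨⟨z, hZab hz⟩, hK₁c ?_, rfl⟩
  rw [Subgroup.mem_centralizer_iff]
  intro k _
  apply Subtype.ext
  have hk : (k : S) ∈ Subgroup.centralizer (Z : Set S) := hS₁ ▸ k.2
  have := Subgroup.mem_centralizer_iff.mp hk z hz
  exact this.symm

theorem case1_cent (S : Type u) [Group S] (Z S₁ : Subgroup S)
    (hS₁ : S₁ = Subgroup.centralizer (Z : Set S)) (hZab : Z ≤ S₁)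
    (K₁ : Subgroup ↥S₁) (hK₁c : Subgroup.centralizer (K₁ : Set ↥S₁) ≤ K₁) :
    Subgroup.centralizer ((K₁.map S₁.subtype : Subgroup S) : Set S) ≤ K₁.map S₁.subtype := by
  intro x hx
  have hxZ : x ∈ S₁ := by
    rw [hS₁]
    exact Subgroup.centralizer_le (case1_le S Z S₁ hS₁ hZab K₁ hK₁c) hx
  refine ⟨⟨x, hxZ⟩, hK₁c ?_, rfl⟩
  exact mem_centralizer_of_coe_mem K₁ ⟨x, hxZ⟩ hx

/-- `Works` in the first case -/
theorem case1_works (S : Type u) [Group S] [Finite S] (Z S₁ : Subgroup S) [Z.Characteristic]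
    (hS₁ : S₁ = Subgroup.centralizer (Z : Set S)) (hZab : Z ≤ S₁) (hGT : GTProp p S Z)
    (K₁ : Subgroup ↥S₁) [K₁.Characteristic]
    (hK₁c : Subgroup.centralizer (K₁ : Set ↥S₁) ≤ K₁)
    (hK₁w : Works p ↥S₁ K₁) :
    Works p S (K₁.map S₁.subtype) := by
  intro G _ _ P ι hinj hrange cond
  have hZK := case1_le S Z S₁ hS₁ hZab K₁ hK₁c
  set K := K₁.map S₁.subtype with hK
  set ZG := Z.map ι with hZG
  set N := Subgroup.normalizer (ZG : Set G) with hN
  set CG := Subgroup.centralizer (ZG : Set G) with hCG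
  have hPN : (P : Subgroup G) ≤ N :=
    le_trans Subgroup.le_normalizer (normalizer_le_normalizer_map_of_char ι hinj P hrange Z)
  have hCN : CG ≤ N := Subgroup.centralizer_le_normalizer _
  have hZN : ZG ≤ N := Subgroup.le_normalizer
  have hNC : N ≤ Subgroup.normalizer (CG : Set G) := normalizer_le_normalizer_centralizer ZG
  apply hGT G P ι hinj hrange
  -- the embedding of `S₁` into `G`
  set ι' : ↥S₁ →* G := ι.comp S₁.subtype with hι'
  have hinj' : Function.Injective ι' := hinj.comp Subtype.val_injective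
  have hι'C : ∀ s : ↥S₁, ι' s ∈ CG := by
    intro s
    rw [hCG, Subgroup.mem_centralizer_iff]
    rintro _ ⟨z, hz, rfl⟩
    have hs : (s : S) ∈ Subgroup.centralizer (Z : Set S) := hS₁ ▸ s.2
    have := Subgroup.mem_centralizer_iff.mp hs z hz
    change ι z * ι (s : S) = ι (s : S) * ι z
    rw [← map_mul, ← map_mul, this]
  have hrange' : ι'.range = (P : Subgroup G) ⊓ CG := by
    ext x
    constructor
    · rintro ⟨s, rfl⟩
      refine ⟨?_, hι'C s⟩
      rw [← hrange]
      exact ⟨(s : S), rfl⟩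
    · rintro ⟨hxP, hxC⟩
      rw [← hrange] at hxP
      obtain ⟨s, rfl⟩ := hxP
      have hs : s ∈ S₁ := by
        rw [hS₁, Subgroup.mem_centralizer_iff]
        intro z hz
        apply hinj
        rw [map_mul, map_mul]
        exact Subgroup.mem_centralizer_iff.mp hxC (ι z) ⟨z, hz, rfl⟩
      exact ⟨⟨s, hs⟩, rfl⟩
  have hKι : K₁.map ι' = K.map ι := by
    rw [hK, Subgroup.map_map]
  -- `CG` has a normal `p`-complement
  have hnpcC : HasNormalPComplement p ↥CG := by
    have hPp : IsPGroup p ((P : Subgroup G).subgroupOf CG) := P.2.comap_subtype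
    have hidx : ¬ p ∣ ((P : Subgroup G).subgroupOf CG).index := by
      have := Cfsg.Agent.Lib.Helper20.not_dvd_relIndex_inf_of_le_normalizer P CG N hPN hCN hNC
      rwa [Subgroup.inf_relIndex_right] at this
    set P' : Sylow p ↥CG := hPp.toSylow hidx with hP'
    have hP'c : (P' : Subgroup ↥CG) = (P : Subgroup G).subgroupOf CG := IsPGroup.toSylow_coe _ _
    set ι₁ : ↥S₁ →* ↥CG := ι'.codRestrict CG hι'C with hι₁
    have hinj₁ : Function.Injective ι₁ := by
      intro a b hab
      apply hinj'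
      exact congrArg Subtype.val hab
    have hcomp : CG.subtype.comp ι₁ = ι' := by
      ext s; rfl
    have hrange₁ : ι₁.range = (P' : Subgroup ↥CG) := by
      rw [hP'c]
      ext x
      rw [Subgroup.mem_subgroupOf]
      constructor
      · rintro ⟨s, rfl⟩
        have : ι' s ∈ ι'.range := ⟨s, rfl⟩
        rw [hrange'] at this
        exact this.1
      · intro hx
        have : (x : G) ∈ ι'.range := by
          rw [hrange']; exact ⟨hx, x.2⟩
        obtain ⟨s, hs⟩ := this
        exact ⟨s, Subtype.ext hs⟩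
    have hmap₁ : (K₁.map ι₁).map CG.subtype = K.map ι := by
      rw [Subgroup.map_map, hcomp, hKι]
    apply hK₁w ↥CG P' ι₁ hinj₁ hrange₁
    intro g hg hgo
    apply mem_centralizer_of_coe_mem
    rw [hmap₁]
    apply cond
    · rw [← hmap₁]
      exact coe_mem_normalizer_map_subtype _ g hg
    · rwa [Subgroup.orderOf_coe]
  -- work inside `N`
  have hZXn : (ZG.subgroupOf N).Normal := Subgroup.normal_in_normalizer
  set PX : Sylow p ↥N := P.subtype hPN with hPX
  have hPXc : (PX : Subgroup ↥N) = (P : Subgroup G).subgroupOf N := Sylow.coe_subtype _ _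
  apply npc_case1 PX (ZG.subgroupOf N)
  · -- the centralizer of `Z` in `N` has a normal `p`-complement
    apply pn_of_map_le N.subtype Subtype.val_injective _ CG _ hnpcC
    rintro _ ⟨x, hx, rfl⟩
    exact (mem_centralizer_subgroupOf hZN x).mp hx
  · intro g hg hgo
    rw [mem_centralizer_subgroupOf hZN]
    have h1 : ((PX : Subgroup ↥N) ⊓ Subgroup.centralizer ((ZG.subgroupOf N : Subgroup ↥N) : Set ↥N)).map
        N.subtype = (P : Subgroup G) ⊓ CG := by
      ext y
      constructor
      · rintro ⟨x, ⟨hx1, hx2⟩, rfl⟩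
        have hx1' : x ∈ (PX : Subgroup ↥N) := hx1
        rw [hPXc, Subgroup.mem_subgroupOf] at hx1'
        exact ⟨hx1', (mem_centralizer_subgroupOf hZN x).mp hx2⟩
      · rintro ⟨hy1, hy2⟩
        refine ⟨⟨y, hPN hy1⟩, ⟨?_, ?_⟩, rfl⟩
        · change (⟨y, hPN hy1⟩ : ↥N) ∈ (PX : Subgroup ↥N)
          rw [hPXc, Subgroup.mem_subgroupOf]; exact hy1
        · exact (mem_centralizer_subgroupOf hZN _).mpr hy2
    have h2 : (g : G) ∈ Subgroup.normalizer ((((P : Subgroup G) ⊓ CG : Subgroup G)) : Set G) := by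
      rw [← h1]
      exact coe_mem_normalizer_map_subtype _ g hg
    have h3 : (g : G) ∈ Subgroup.normalizer ((K.map ι : Subgroup G) : Set G) := by
      rw [← hKι]
      exact normalizer_le_normalizer_map_of_char ι' hinj' _ hrange' K₁ h2
    have h4 := cond (g : G) h3 (by rwa [Subgroup.orderOf_coe])
    exact Subgroup.centralizer_le (Subgroup.map_mono hZK) h4

end Case1

end Cfsg.Agent.Lib.Helper58.KChar
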