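import Mathlib
import Cfsg.Agent.Lib.Helper58.KChar3

set_option autoImplicit false
open Cfsg
open Cfsg.Agent.Lib.Helper16 Cfsg.Agent.Lib.Helper97 Cfsg.Agent.Lib.Helper57
open scoped commutatorElement

universe u

namespace Cfsg.Agent.Lib.Helper58.KChar

section Case2
variable {p : ℕ} [Fact p.Prime]

/-- the preimage of a characteristic subgroup of the quotient by a characteristic subgroup is
characteristic -/
theorem case2_char (S : Type u) [Group S] (Z : Subgroup S) [hZ : Z.Characteristic]
    (Kb : Subgroup (S ⧸ Z)) [hKb : Kb.Characteristic] :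
    (Kb.comap (QuotientGroup.mk' Z)).Characteristic := by
  rw [Subgroup.characteristic_iff_comap_eq]
  intro φ
  have hφ : Z.map φ.toMonoidHom = Z := Subgroup.characteristic_iff_map_eq.mp hZ φ
  set φb : S ⧸ Z ≃* S ⧸ Z := QuotientGroup.congr Z Z φ hφ with hφb
  have h1 : (QuotientGroup.mk' Z).comp φ.toMonoidHom = φb.toMonoidHom.comp (QuotientGroup.mk' Z) := by
    ext x
    rfl
  rw [Subgroup.comap_comap, h1, ← Subgroup.comap_comap,
    Subgroup.characteristic_iff_comap_eq.mp hKb φb]

theorem case2_le (S : Type u) [Group S] (Z : Subgroup S) [Z.Normal]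
    (Kb : Subgroup (S ⧸ Z)) : Z ≤ Kb.comap (QuotientGroup.mk' Z) := by
  intro z hz
  rw [Subgroup.mem_comap]
  have : QuotientGroup.mk' Z z = 1 := (QuotientGroup.eq_one_iff z).mpr hz
  rw [this]
  exact Kb.one_mem

theorem case2_cent (S : Type u) [Group S] (Z : Subgroup S) [Z.Normal]
    (Kb : Subgroup (S ⧸ Z)) (hKb : Subgroup.centralizer (Kb : Set (S ⧸ Z)) ≤ Kb) :
    Subgroup.centralizer ((Kb.comap (QuotientGroup.mk' Z) : Subgroup S) : Set S) ≤
      Kb.comap (QuotientGroup.mk' Z) := by
  intro x hx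
  rw [Subgroup.mem_comap]
  apply hKb
  rw [Subgroup.mem_centralizer_iff]
  intro y hy
  obtain ⟨s, rfl⟩ := QuotientGroup.mk'_surjective Z y
  have hs : s ∈ Kb.comap (QuotientGroup.mk' Z) := hy
  have := Subgroup.mem_centralizer_iff.mp hx s hs
  rw [← map_mul, ← map_mul, this]

/-- `Works` in the second case -/
theorem case2_works (S : Type u) [Group S] [Finite S] (Z : Subgroup S) [Z.Characteristic]
    (hZc : Z ≤ Subgroup.center S) (hGT : GTProp p S Z)
    (Kb : Subgroup (S ⧸ Z)) [Kb.Characteristic] (hKbw : Works p (S ⧸ Z) Kb) :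
    Works p S (Kb.comap (QuotientGroup.mk' Z)) := by
  intro G _ _ P ι hinj hrange cond
  have hZK := case2_le S Z Kb
  have hKchar := case2_char S Z Kb
  set K := Kb.comap (QuotientGroup.mk' Z) with hK
  set ZG := Z.map ι with hZG
  set N := Subgroup.normalizer (ZG : Set G) with hN
  have hPN : (P : Subgroup G) ≤ N :=
    le_trans Subgroup.le_normalizer (normalizer_le_normalizer_map_of_char ι hinj P hrange Z)
  have hZN : ZG ≤ N := Subgroup.le_normalizer
  have hZP : ZG ≤ (P : Subgroup G) := by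
    rw [← hrange]; exact Subgroup.map_le_range ι Z
  apply hGT G P ι hinj hrange
  have hZXn : (ZG.subgroupOf N).Normal := Subgroup.normal_in_normalizer
  set PX : Sylow p ↥N := P.subtype hPN with hPX
  have hPXc : (PX : Subgroup ↥N) = (P : Subgroup G).subgroupOf N := Sylow.coe_subtype _ _
  have hPXmap : (PX : Subgroup ↥N).map N.subtype = (P : Subgroup G) := by
    rw [hPXc, Subgroup.subgroupOf_map_subtype, inf_eq_left.mpr hPN]
  have hιN : ∀ s : S, ι s ∈ N := fun s => hPN (hrange ▸ ⟨s, rfl⟩)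
  set ιX : S →* ↥N := ι.codRestrict N hιN with hιX
  have hcompX : N.subtype.comp ιX = ι := by ext s; rfl
  have hKXmap : (K.map ιX).map N.subtype = K.map ι := by
    rw [Subgroup.map_map, hcompX]
  apply npc_case2 PX (ZG.subgroupOf N)
  · exact (P.2.to_le hZP).comap_subtype
  · intro x hx
    rw [hPXc, Subgroup.mem_subgroupOf, ← hrange] at hx
    obtain ⟨s, hs⟩ := hx
    rw [mem_centralizer_subgroupOf hZN, ← hs, Subgroup.mem_centralizer_iff]
    rintro _ ⟨z, hz, rfl⟩
    rw [← map_mul, ← map_mul, (Subgroup.mem_center_iff.mp (hZc hz) s)]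
  · -- the quotient `N / Z` has a normal `p`-complement
    set ZX := ZG.subgroupOf N with hZX
    set π := QuotientGroup.mk' ZX with hπ
    have hπs : Function.Surjective π := QuotientGroup.mk'_surjective ZX
    set Pb : Sylow p (↥N ⧸ ZX) := PX.mapSurjective hπs with hPb
    have hPbc : (Pb : Subgroup (↥N ⧸ ZX)) = (PX : Subgroup ↥N).map π := Sylow.coe_mapSurjective _ _
    have hle : Z ≤ ZX.comap ιX := by
      intro z hz
      rw [Subgroup.mem_comap, hZX, Subgroup.mem_subgroupOf]
      exact ⟨z, hz, rfl⟩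
    set ιb : S ⧸ Z →* ↥N ⧸ ZX := QuotientGroup.map Z ZX ιX hle with hιb
    have hιbmk : ∀ s : S, ιb (QuotientGroup.mk' Z s) = π (ιX s) := fun s => rfl
    have hinjb : Function.Injective ιb := by
      rw [injective_iff_map_eq_one]
      intro x hx
      obtain ⟨s, rfl⟩ := QuotientGroup.mk'_surjective Z x
      rw [hιbmk, hπ, QuotientGroup.mk'_apply, QuotientGroup.eq_one_iff, hZX,
        Subgroup.mem_subgroupOf] at hx
      obtain ⟨z, hz, hzs⟩ := hx
      have : z = s := hinj hzs
      rw [QuotientGroup.mk'_apply, QuotientGroup.eq_one_iff, ← this]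
      exact hz
    have hrangeb : ιb.range = (Pb : Subgroup (↥N ⧸ ZX)) := by
      rw [hPbc]
      ext y
      constructor
      · rintro ⟨x, rfl⟩
        obtain ⟨s, rfl⟩ := QuotientGroup.mk'_surjective Z x
        rw [hιbmk]
        refine ⟨ιX s, ?_, rfl⟩
        change ιX s ∈ (PX : Subgroup ↥N)
        rw [hPXc, Subgroup.mem_subgroupOf, ← hrange]
        exact ⟨s, rfl⟩
      · rintro ⟨x, hx, rfl⟩
        have hx' : x ∈ (PX : Subgroup ↥N) := hx
        rw [hPXc, Subgroup.mem_subgroupOf, ← hrange] at hx'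
        obtain ⟨s, hs⟩ := hx'
        refine ⟨QuotientGroup.mk' Z s, ?_⟩
        rw [hιbmk]
        congr 1
        exact Subtype.ext hs
    have hKb : Kb = K.map (QuotientGroup.mk' Z) := by
      rw [hK, Subgroup.map_comap_eq_self_of_surjective (QuotientGroup.mk'_surjective Z)]
    have hKbmap : Kb.map ιb = (K.map ιX).map π := by
      rw [hKb, Subgroup.map_map, Subgroup.map_map]
      congr 1
    have hZKX : ZX ≤ K.map ιX := by
      intro x hx
      rw [hZX, Subgroup.mem_subgroupOf] at hx
      obtain ⟨z, hz, hzx⟩ := hx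
      exact ⟨z, hZK hz, Subtype.ext hzx⟩
    apply hKbw (↥N ⧸ ZX) Pb ιb hinjb hrangeb
    intro gb hgb hgbo
    obtain ⟨g, rfl⟩ := hπs gb
    rw [hKbmap] at hgb ⊢
    have hgN : g ∈ Subgroup.normalizer ((K.map ιX : Subgroup ↥N) : Set ↥N) := by
      have h1 : g ∈ (Subgroup.normalizer (((K.map ιX).map π : Subgroup (↥N ⧸ ZX)) :
          Set (↥N ⧸ ZX))).comap π := hgb
      rw [Subgroup.comap_normalizer_eq_of_surjective _ hπs, Subgroup.comap_map_eq, hπ,
        QuotientGroup.ker_mk', sup_of_le_left hZKX] at h1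
      exact h1
    obtain ⟨k, hk1, hk2⟩ := exists_coprime_pow π g hgbo
    have h2 : ((g ^ k : ↥N) : G) ∈ Subgroup.normalizer ((K.map ι : Subgroup G) : Set G) := by
      rw [← hKXmap]
      exact coe_mem_normalizer_map_subtype _ _ (Subgroup.pow_mem _ hgN k)
    have h3 := cond _ h2 (by rwa [Subgroup.orderOf_coe])
    rw [← hKXmap] at h3
    have h4 := mem_centralizer_of_coe_mem _ _ h3
    rw [← hk2, Subgroup.mem_centralizer_iff]
    rintro _ ⟨x, hx, rfl⟩
    rw [← map_mul, ← map_mul, Subgroup.mem_centralizer_iff.mp h4 x hx]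
  · intro g hg hgo
    rw [mem_centralizer_subgroupOf hZN]
    have h2 : (g : G) ∈ Subgroup.normalizer (((P : Subgroup G)) : Set G) := by
      rw [← hPXmap]
      exact coe_mem_normalizer_map_subtype _ g hg
    have h3 : (g : G) ∈ Subgroup.normalizer ((K.map ι : Subgroup G) : Set G) :=
      normalizer_le_normalizer_map_of_char ι hinj _ hrange K h2
    have h4 := cond (g : G) h3 (by rwa [Subgroup.orderOf_coe])
    exact Subgroup.centralizer_le (Subgroup.map_mono hZK) h4

end Case2

end Cfsg.Agent.Lib.Helper58.KChar
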