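import Mathlib
import Cfsg.Agent.S1350
import Cfsg.Agent.S1420
import Cfsg.Agent.Lib.Helper13.BG12B
import Cfsg.Agent.Lib.Helper18.BG14D6
import Cfsg.Agent.Lib.Helper54.Conj
import Cfsg.Agent.Lib.Helper71.BG11a
import Cfsg.Agent.Lib.Helper76.Fitting

/-!
# K-152-L1a (keystone 135603) `second_derived_le_of_nilpotent`: `M_σ` nilpotent ⇒ `M'' ≤ M_σ ≤ F(M)`
-/

set_option autoImplicit false
set_option linter.unusedVariables false
set_option linter.unusedSectionVars false

namespace Cfsg.Agent.Lib.Helper58.BG152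

open Cfsg
open scoped commutatorElement

variable {G : Type*} [Group G]

/-- if `V` normalizes `N` then `⁅V, N⁆ ≤ N` -/
theorem commutator_le_of_le_normalizer {V N : Subgroup G}
    (h : V ≤ Subgroup.normalizer (N : Set G)) : ⁅V, N⁆ ≤ N := by
  rw [Subgroup.commutator_le]
  intro v hv n hn
  have h1 : v * n * v⁻¹ ∈ N := (Subgroup.mem_normalizer_iff.mp (h hv) n).mp hn
  have : ⁅v, n⁆ = (v * n * v⁻¹) * n⁻¹ := by
    rw [commutatorElement_def]
  rw [this]
  exact N.mul_mem h1 (N.inv_mem hn)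

/-- `⁅S ⊔ T, S ⊔ T⁆ ≤ N` as soon as `S`, `T` normalize `N` and the four "mixed" commutators lie in `N`. -/
theorem commutator_sup_sup_le {N S T : Subgroup G}
    (hS : S ≤ Subgroup.normalizer (N : Set G)) (hT : T ≤ Subgroup.normalizer (N : Set G))
    (hSS : ⁅S, S⁆ ≤ N) (hST : ⁅S, T⁆ ≤ N) (hTT : ⁅T, T⁆ ≤ N) : ⁅S ⊔ T, S ⊔ T⁆ ≤ N := by
  have hTS : ⁅T, S⁆ ≤ N := by rw [Subgroup.commutator_comm]; exact hST
  have h1 : ⁅S, S ⊔ T⁆ ≤ N := Cfsg.Agent.Lib.Helper54.commutator_sup_le hS hT hSS hST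
  have h2 : ⁅T, S ⊔ T⁆ ≤ N := Cfsg.Agent.Lib.Helper54.commutator_sup_le hS hT hTS hTT
  have h1' : ⁅S ⊔ T, S⁆ ≤ N := by rw [Subgroup.commutator_comm]; exact h1
  have h2' : ⁅S ⊔ T, T⁆ ≤ N := by rw [Subgroup.commutator_comm]; exact h2
  exact Cfsg.Agent.Lib.Helper54.commutator_sup_le hS hT h1' h2'

/-- K-152-L1a -/
theorem second_derived_le_of_nilpotent {G : Type*} [Group G] [Finite G]
    (hG : IsMinSimpleOddOrder G) {M : Subgroup G} (hM : IsCoatom M)
    (hnil : Group.IsNilpotent (sigmaCore M)) : ⁅⁅M, M⁆, ⁅M, M⁆⁆ ≤ fittingOf M := by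
  have hHall := (Cfsg.Agent.S1350.result hG M hM).1
  obtain ⟨E, hE, -⟩ := Cfsg.Agent.Lib.Helper13.BG12.exists_complIn_ge hG hM hHall
    (K := ⊥) bot_le (by
      intro p hp hpd
      rw [Subgroup.card_bot] at hpd
      exact absurd (Nat.dvd_one.mp hpd) hp.ne_one)
  obtain ⟨hEM, hσM, hEσ, hfac⟩ := hE
  have hMσn : M ≤ Subgroup.normalizer ((sigmaCore M : Subgroup G) : Set G) :=
    Cfsg.Agent.Lib.Helper71.BG11.le_normalizer_sigmaCore M
  have hab : IsMulCommutative ↥⁅E, E⁆ :=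
    (Cfsg.Agent.S1420.result hG M hM E ⟨hEM, hσM, hEσ, hfac⟩).2.1
  have hDE : ⁅E, E⁆ ≤ E := Subgroup.commutator_le.mpr
    (fun a ha b hb => E.mul_mem (E.mul_mem (E.mul_mem ha hb) (E.inv_mem ha)) (E.inv_mem hb))
  have hEnD : E ≤ Subgroup.normalizer ((⁅E, E⁆ : Subgroup G) : Set G) := by
    intro e he
    rw [Subgroup.mem_normalizer_iff]
    intro x
    constructor
    · intro hx
      have h1 : ⁅e, x⁆ ∈ ⁅E, E⁆ := Subgroup.commutator_mem_commutator he (hDE hx)
      have : e * x * e⁻¹ = ⁅e, x⁆ * x := by rw [commutatorElement_def]; group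
      rw [this]
      exact Subgroup.mul_mem _ h1 hx
    · intro hx
      have hx' : e * x * e⁻¹ ∈ E := hDE hx
      have hxE : x ∈ E := by
        have := E.mul_mem (E.mul_mem (E.inv_mem he) hx') he
        have e2 : e⁻¹ * (e * x * e⁻¹) * e = x := by group
        rwa [e2] at this
      have h1 : ⁅e⁻¹, e * x * e⁻¹⁆ ∈ ⁅E, E⁆ :=
        Subgroup.commutator_mem_commutator (E.inv_mem he) hx'
      have : x = ⁅e⁻¹, e * x * e⁻¹⁆ * (e * x * e⁻¹) := by rw [commutatorElement_def]; group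
      rw [this]
      exact Subgroup.mul_mem _ h1 hx
  -- `M = M_σ ⊔ E`
  have hMsup : M = sigmaCore M ⊔ E := by
    apply le_antisymm
    · intro m hm
      obtain ⟨e, he, s, hs, rfl⟩ := hfac m hm
      exact Subgroup.mul_mem _ (Subgroup.mem_sup_right he) (Subgroup.mem_sup_left hs)
    · exact sup_le hσM hEM
  -- `N := M_σ ⊔ E'`
  set N : Subgroup G := sigmaCore M ⊔ ⁅E, E⁆ with hN
  have hσN : sigmaCore M ≤ Subgroup.normalizer ((N : Subgroup G) : Set G) :=
    le_sup_left.trans Subgroup.le_normalizer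
  have hEN : E ≤ Subgroup.normalizer ((N : Subgroup G) : Set G) := fun e he =>
    Cfsg.Agent.Lib.Helper18.BG14.mem_normalizer_sup (hMσn (hEM he)) (hEnD he)
  have hder1 : ⁅M, M⁆ ≤ N := by
    have h := commutator_sup_sup_le (N := N) (S := sigmaCore M) (T := E) hσN hEN
      ((commutator_le_of_le_normalizer (hσM.trans hMσn)).trans le_sup_left)
      (by
        rw [Subgroup.commutator_comm]
        exact (commutator_le_of_le_normalizer (hEM.trans hMσn)).trans le_sup_left)
      le_sup_right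
    rw [← hMsup] at h
    exact h
  have hNM : N ≤ M := sup_le hσM (hDE.trans hEM)
  have hder2 : ⁅N, N⁆ ≤ sigmaCore M := by
    apply commutator_sup_sup_le (hσM.trans hMσn) ((hDE.trans hEM).trans hMσn)
    · exact commutator_le_of_le_normalizer (hσM.trans hMσn)
    · rw [Subgroup.commutator_comm]
      exact commutator_le_of_le_normalizer ((hDE.trans hEM).trans hMσn)
    · rw [Subgroup.commutator_le]
      intro a ha b hb
      have hc : a * b = b * a := by
        have := hab.is_comm.comm (⟨a, ha⟩ : ↥⁅E, E⁆) ⟨b, hb⟩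
        exact congrArg Subtype.val this
      have : ⁅a, b⁆ = 1 := by
        rw [commutatorElement_def, hc]; group
      rw [this]
      exact Subgroup.one_mem _
  have h2 : ⁅⁅M, M⁆, ⁅M, M⁆⁆ ≤ sigmaCore M :=
    (Subgroup.commutator_mono hder1 hder1).trans hder2
  -- `M_σ ≤ F(M)`
  have h3 : sigmaCore M ≤ fittingOf M := by
    unfold sigmaCore fittingOf
    apply Subgroup.map_mono
    apply Cfsg.Agent.Lib.Helper76.le_fittingSubgroup (piCore_normal (sigma M) ↥M)
    haveI := hnil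
    have e : ↥(piCore (sigma M) ↥M) ≃* ↥(sigmaCore M) :=
      (piCore (sigma M) ↥M).equivMapOfInjective M.subtype M.subtype_injective
    exact nilpotent_of_mulEquiv e.symm
  exact h2.trans h3

end Cfsg.Agent.Lib.Helper58.BG152
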