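import Mathlib
import Cfsg.Agent.S1350
import Cfsg.Agent.S1417
import Cfsg.Agent.S1430
import Cfsg.Agent.Lib.Helper13.BG12B
import Cfsg.Agent.Lib.Helper13.BG134A1
import Cfsg.Agent.Lib.Helper16.BG134Asm
import Cfsg.Agent.Lib.Helper29.Sup
import Cfsg.Agent.Lib.Helper55.SylowIn
import Cfsg.Agent.Lib.Helper64.BG14K
import Cfsg.Agent.Lib.Helper68.BG139S11
import Cfsg.Agent.Lib.Helper71.BG10Hall
import Cfsg.Agent.Lib.Helper83.BG11e
import Cfsg.Agent.Lib.Helper58.BG139K2c
import Cfsg.Agent.Lib.Helper58.BG14Glue2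

/-!
# BG 14.7(f), second half: a maximal subgroup of type `𝒫₂` has `|K|` prime

`M` maximal, `K ≠ 1` a Hall `κ(M)`-subgroup.  If some prime divisor of `|M|` lies outside
`κ(M) ∪ σ(M)` (equivalently `U ≠ 1` in `M = K U M_σ`), then `|K|` is a prime.

Proof: the Frobenius group `U K` acts on `M_σ`, `K` in a prime manner; the Frobenius–Wielandt fixed
point formula for `U X` and `U K` (`X ≤ K` of prime order) gives `X = K` unless `U` centralizes
`M_σ`, which is impossible (`τ₁, τ₃`: the prime would be in `κ(M)`; `τ₂`: `C_{M_σ}(A) = 1`).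
-/

set_option autoImplicit false
set_option linter.unusedVariables false
set_option linter.style.haveILetI false

namespace Cfsg.Agent.Lib.Helper58.BG147

open Cfsg Subgroup Cfsg.Agent.Lib.Helper55

variable {G : Type*} [Group G] [Finite G]

/-- `U ≠ 1` does not centralize `M_σ` -/
theorem not_sigmaCore_le_centralizer (hG : IsMinSimpleOddOrder G) {M U : Subgroup G}
    (hM : IsCoatom M)
    (hUH : IsPiHallOf {q | q.Prime ∧ q ∉ kappa M ∧ q ∉ sigma M} U M) (hU1 : U ≠ ⊥) :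
    ¬ sigmaCore M ≤ centralizer (U : Set G) := by
  intro hcent
  have hσ1 : sigmaCore M ≠ ⊥ := Cfsg.Agent.Lib.Helper83.BG11.sigmaCore_ne_bot hG hM
    (Cfsg.Agent.Lib.Helper58.BG14.coatom_ne_bot hG hM)
  have hUM : U ≤ M := hUH.1
  obtain ⟨r, hr, hrU⟩ := Cfsg.Agent.Lib.Helper58.BG139.exists_prime_dvd_card_of_ne_bot hU1
  haveI : Fact r.Prime := ⟨hr⟩
  obtain ⟨-, hrκ, hrσ⟩ := hUH.2.1 r hr hrU
  have hrM : r ∣ Nat.card M := hrU.trans (Subgroup.card_dvd_of_le hUM)
  obtain ⟨u, huU, huo⟩ := Cfsg.Agent.Lib.Helper58.BG139.exists_mem_orderOf_eq_of_dvd_card hr hrU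
  have hRc : Nat.card (Subgroup.zpowers u) = r := by rw [Nat.card_zpowers, huo]
  have hRU : Subgroup.zpowers u ≤ U := by
    rw [Subgroup.zpowers_le]; exact huU
  have hcentR : sigmaCore M ⊓ centralizer ((Subgroup.zpowers u : Subgroup G) : Set G) ≠ ⊥ := by
    have : sigmaCore M ≤ centralizer ((Subgroup.zpowers u : Subgroup G) : Set G) :=
      hcent.trans (Subgroup.centralizer_le (by exact_mod_cast hRU))
    rw [inf_of_le_left this]
    exact hσ1
  rcases Cfsg.Agent.Lib.Helper16.BG134.mem_tau_cases hG hM hr hrM hrσ with h1 | h2 | h3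
  · exact hrκ (Cfsg.Agent.Lib.Helper64.BG14.mem_kappa_of_cent_ne_bot hG hM hr hrM hrσ h1.2.2.2.2
      (hRU.trans hUM) hRc hcentR)
  · -- `r ∈ τ₂(M)`: an elementary abelian `r²`-subgroup of `M` is conjugate into `U`
    obtain ⟨A, hAM, hAe, hAc⟩ := Cfsg.Agent.Lib.Helper13.BG12.exists_elemAb_sq_of_tau2 h2
    obtain ⟨T, hT, -⟩ := exists_isSylowIn_ge (p := r) (K := U) (Z := ⊥) bot_le IsPGroup.of_bot
    have hTM : T ≤ M := hT.1.trans hUM
    have hidx : ¬ r ∣ T.relIndex M := by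
      rw [← Subgroup.relIndex_mul_relIndex T U M hT.1 hUM]
      intro hd
      rcases (hr.dvd_mul).mp hd with h | h
      · exact Cfsg.Agent.Lib.Helper71.BG10.sylow_not_dvd_relIndex hT h
      · exact hUH.2.2 r hr ⟨hr, hrκ, hrσ⟩ h
    have hTsyl : IsSylowIn r M T :=
      Cfsg.Agent.Lib.Helper13.BG134.a1_isSylowIn_of_not_dvd_relIndex hTM hT.2.1 hidx
    have hAp : IsPGroup r A := by
      apply IsPGroup.of_card (n := 2)
      exact hAc
    obtain ⟨m, hm, hmA⟩ := hTsyl.exists_conj_le hAM hAp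
    have hcjM : cj m A ≤ M := hmA.trans hTM
    have h17 := (Cfsg.Agent.S1417.result hG M hM r h2 (cj m A)
      ⟨hcjM, Cfsg.Agent.Lib.Helper83.BG11.isElementaryAbelian_cj hAe m, by
        rw [card_cj]; exact hAc⟩).2.2.2.1
    have hle : sigmaCore M ≤ centralizer ((cj m A : Subgroup G) : Set G) :=
      hcent.trans (Subgroup.centralizer_le (by exact_mod_cast hmA.trans hT.1))
    rw [inf_of_le_left hle] at h17
    exact hσ1 h17
  · exact hrκ (Cfsg.Agent.Lib.Helper64.BG14.mem_kappa_of_cent_ne_bot hG hM hr hrM hrσ h3.2.2.2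
      (hRU.trans hUM) hRc hcentR)

/-- BG 14.7(f), second half, for a given abelian `K`-invariant Hall subgroup `U ≠ 1` on which `K`
acts freely. -/
theorem card_prime_of_hall (hG : IsMinSimpleOddOrder G) {M K U : Subgroup G} (hM : IsCoatom M)
    (hK : IsPiHallOf (kappa M) K M) (hK1 : K ≠ ⊥)
    (hpa : ∀ k ∈ K, k ≠ 1 → sigmaCore M ⊓ centralizer ({k} : Set G) =
      sigmaCore M ⊓ centralizer (K : Set G))
    (hUc : IsMulCommutative U)
    (hUH : IsPiHallOf {q | q.Prime ∧ q ∉ kappa M ∧ q ∉ sigma M} U M)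
    (hKU : K ≤ normalizer (U : Set G))
    (hfree : ∀ k ∈ K, k ≠ 1 → U ⊓ centralizer ({k} : Set G) = ⊥) (hU1 : U ≠ ⊥) :
    (Nat.card K).Prime := by
  classical
  have hKM : K ≤ M := hK.1
  have hUM : U ≤ M := hUH.1
  have hσM : sigmaCore M ≤ M := Cfsg.Agent.Lib.Helper71.BG11.sigmaCore_le M
  have hHallσ := (Cfsg.Agent.S1350.result hG M hM).1
  obtain ⟨p, hp, hpK⟩ := Cfsg.Agent.Lib.Helper58.BG139.exists_prime_dvd_card_of_ne_bot hK1
  obtain ⟨x, hxK, hxo⟩ := Cfsg.Agent.Lib.Helper58.BG139.exists_mem_orderOf_eq_of_dvd_card hp hpK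
  have hXc : Nat.card (Subgroup.zpowers x) = p := by rw [Nat.card_zpowers, hxo]
  have hXK : Subgroup.zpowers x ≤ K := by
    rw [Subgroup.zpowers_le]; exact hxK
  have hx1 : x ≠ 1 := by
    intro h
    rw [h, orderOf_one] at hxo
    exact hp.ne_one hxo.symm
  -- hypotheses of the Wielandt argument
  have hSn : ∀ e ∈ K, ∀ u ∈ U, e * u * e⁻¹ ∈ U := fun e he u hu =>
    (Subgroup.mem_normalizer_iff.mp (hKU he) u).mp hu
  have hfpf : ∀ e ∈ K, e ≠ 1 → ∀ u ∈ U, e * u = u * e → u = 1 := by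
    intro e he he1 u hu hcomm
    have : u ∈ U ⊓ centralizer ({e} : Set G) := by
      refine Subgroup.mem_inf.mpr ⟨hu, ?_⟩
      rw [Subgroup.mem_centralizer_iff]
      intro y hy
      rw [Set.mem_singleton_iff] at hy
      rw [hy]; exact hcomm
    rw [hfree e he he1] at this
    exact Subgroup.mem_bot.mp this
  have hnil : Group.IsNilpotent U := by
    letI : CommGroup ↥U :=
      { (inferInstance : Group ↥U) with mul_comm := fun a b => isMulCommutative_iff.mp hUc a b }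
    exact CommGroup.isNilpotent (G := ↥U)
  have hHn : ∀ y ∈ U ⊔ K, ∀ h ∈ sigmaCore M, y * h * y⁻¹ ∈ sigmaCore M := by
    intro y hy h hh
    have hyM : y ∈ M := (sup_le hUM hKM) hy
    exact (Subgroup.mem_normalizer_iff.mp
      (Cfsg.Agent.Lib.Helper71.BG11.le_normalizer_sigmaCore M hyM) h).mp hh
  haveI hsolvM : Group.IsSolvable ↥M := ms_solvable hG hM.1
  have hsolv : Group.IsSolvable ↥(sigmaCore M) :=
    solvable_of_solvable_injective (Subgroup.inclusion_injective hσM)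
  have hcop : Nat.Coprime (Nat.card (sigmaCore M)) (Nat.card ↥(U ⊔ K)) := by
    apply Nat.Coprime.coprime_dvd_right
      (Cfsg.Agent.Lib.Helper29.card_sup_dvd_of_le_normalizer U K hKU)
    apply Nat.Coprime.mul_right
    · apply Nat.coprime_of_dvd
      intro q hq hq1 hq2
      exact (hUH.2.1 q hq hq2).2.2 (hHallσ.2.1 q hq hq1)
    · apply Nat.coprime_of_dvd
      intro q hq hq1 hq2
      exact (hK.2.1 q hq hq2).2.2.1 (hHallσ.2.1 q hq hq1)
  have hprime : sigmaCore M ⊓ centralizer ((Subgroup.zpowers x : Subgroup G) : Set G) =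
      sigmaCore M ⊓ centralizer (K : Set G) := by
    rw [← hpa x hxK hx1]
    congr 1
    ext y
    rw [Subgroup.mem_centralizer_iff, Subgroup.mem_centralizer_iff]
    constructor
    · intro h z hz
      rw [Set.mem_singleton_iff] at hz
      rw [hz]
      exact h x (Subgroup.mem_zpowers x)
    · intro h z hz
      obtain ⟨n, rfl⟩ := Subgroup.mem_zpowers_iff.mp hz
      have hc : Commute x y := h x (Set.mem_singleton x)
      exact (hc.zpow_left n).eq
  have hnc := not_sigmaCore_le_centralizer hG hM hUH hU1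
  have hXeq : Subgroup.zpowers x = K :=
    Cfsg.Agent.Lib.Helper68.BG139.eq_of_wielandt U K (Subgroup.zpowers x) (sigmaCore M) hXK hSn hfpf
      hnil hHn hsolv hcop hprime hnc
  rw [← hXeq, hXc]
  exact hp

/-- **BG 14.7(f), second half**: if some prime divisor of `|M|` lies outside `κ(M) ∪ σ(M)` then a
Hall `κ(M)`-subgroup `K ≠ 1` of `M` has prime order. -/
theorem card_kappa_hall_prime (hG : IsMinSimpleOddOrder G) {M K : Subgroup G} (hM : IsCoatom M)
    (hK : IsPiHallOf (kappa M) K M) (hK1 : K ≠ ⊥) {q : ℕ} (hq : q.Prime)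
    (hqM : q ∣ Nat.card M) (hqκ : q ∉ kappa M) (hqσ : q ∉ sigma M) : (Nat.card K).Prime := by
  obtain ⟨hpa, ⟨U, hUc, hUH, hKU, hfree⟩, -⟩ := Cfsg.Agent.S1430.result hG M hM K hK hK1
  apply card_prime_of_hall hG hM hK hK1 hpa hUc hUH hKU hfree
  intro hU
  -- `q ∣ |U|` as `U` is a Hall subgroup for a set of primes containing `q`
  have h1 : Nat.card U * U.relIndex M = Nat.card M := by
    have h1 := Subgroup.card_mul_index (U.subgroupOf M)
    rwa [Nat.card_congr (Subgroup.subgroupOfEquivOfLe hUH.1).toEquiv] at h1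
  have h2 := hUH.2.2 q hq ⟨hq, hqκ, hqσ⟩
  rw [hU, Subgroup.card_bot, one_mul] at h1
  rw [hU, h1] at h2
  exact h2 hqM

/-- the same for a standard factorisation `M = K U M_σ` with `K ≠ 1`, `U ≠ 1` (type `𝒫₂`) -/
theorem card_prime_of_sigmaDecomposition (hG : IsMinSimpleOddOrder G) {M K U : Subgroup G}
    (hM : IsCoatom M) (hKU : IsSigmaDecomposition M K U) (hK1 : K ≠ ⊥) (hU1 : U ≠ ⊥) :
    (Nat.card K).Prime := by
  have hHallσ := (Cfsg.Agent.S1350.result hG M hM).1
  obtain ⟨q, hq, hqU⟩ := Cfsg.Agent.Lib.Helper58.BG139.exists_prime_dvd_card_of_ne_bot hU1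
  have hidx : (K ⊔ sigmaCore M).relIndex M = Nat.card U :=
    Cfsg.Agent.Lib.Helper13.BG12.relIndex_eq_card_of_complIn hKU.compl
  have hKσM : K ⊔ sigmaCore M ≤ M := hKU.compl.2.1
  have hqM : q ∣ Nat.card M := hqU.trans (Subgroup.card_dvd_of_le hKU.compl.1)
  refine card_kappa_hall_prime hG hM hKU.hall hK1 hq hqM ?_ ?_
  · intro hqκ
    apply hKU.hall.2.2 q hq hqκ
    rw [← Subgroup.relIndex_mul_relIndex K (K ⊔ sigmaCore M) M le_sup_left hKσM, hidx]
    exact Dvd.dvd.mul_left hqU _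
  · intro hqσ
    apply hHallσ.2.2 q hq hqσ
    rw [← Subgroup.relIndex_mul_relIndex (sigmaCore M) (K ⊔ sigmaCore M) M le_sup_right hKσM, hidx]
    exact Dvd.dvd.mul_left hqU _

end Cfsg.Agent.Lib.Helper58.BG147
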