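import Mathlib
import Cfsg.Agent.S1350
import Cfsg.Agent.S1351
import Cfsg.Agent.S1352
import Cfsg.Agent.S1359
import Cfsg.Agent.S1430
import Cfsg.Agent.S1431
import Cfsg.Agent.Lib.Helper13.BG12B
import Cfsg.Agent.Lib.Helper32.BG147P2
import Cfsg.Agent.Lib.Helper36.BG142Glue
import Cfsg.Agent.Lib.Helper54.BG134A3a
import Cfsg.Agent.Lib.Helper55.Basic
import Cfsg.Agent.Lib.Helper71.BG11a
import Cfsg.Agent.Lib.Helper76.Fitting
import Cfsg.Agent.Lib.Helper97.BG1366O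
import Cfsg.Agent.Lib.Helper58.BG139I

/-!
# K-152-L2b (keystone 135606) `centralizer_le_fittingOf_of_nilpotent`: `C_M(M_σ)` is abelian, hence `≤ F(M)`
-/

set_option autoImplicit false
set_option linter.unusedVariables false
set_option linter.unusedSectionVars false

namespace Cfsg.Agent.Lib.Helper58.BG152

open Cfsg

/-- if `e * s` centralizes a subgroup `S ∋ s` normalized by `e`, and the orders of `e`, `s` are
coprime, then `e` centralizes `S`. -/
theorem left_mem_centralizer_of_mul {G : Type*} [Group G] {S : Subgroup G} {e s : G}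
    (hs : s ∈ S) (hc : e * s ∈ Subgroup.centralizer (S : Set G))
    (hcop : (orderOf s).Coprime (orderOf e)) : e ∈ Subgroup.centralizer (S : Set G) := by
  -- `e z e⁻¹ = s⁻¹ z s` on `S`
  have h1 : ∀ z ∈ S, e * z * e⁻¹ = s⁻¹ * z * s := by
    intro z hz
    have hz' : s⁻¹ * z * s ∈ S := S.mul_mem (S.mul_mem (S.inv_mem hs) hz) hs
    have := Subgroup.mem_centralizer_iff.mp hc (s⁻¹ * z * s) hz'
    -- (s⁻¹ z s) * (e s) = (e s) * (s⁻¹ z s)
    have h2 : e * z * e⁻¹ = (e * s) * (s⁻¹ * z * s) * (e * s)⁻¹ * (s⁻¹ * z * s) * (s⁻¹ * z * s)⁻¹ := by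
      group
    rw [h2, ← this]
    group
  have h2 : ∀ k : ℕ, ∀ z ∈ S, e ^ k * z * (e ^ k)⁻¹ = (s ^ k)⁻¹ * z * s ^ k := by
    intro k
    induction k with
    | zero => intro z _; simp
    | succ k ih =>
      intro z hz
      have hz' : s⁻¹ * z * s ∈ S := S.mul_mem (S.mul_mem (S.inv_mem hs) hz) hs
      have e1 : e ^ (k + 1) * z * (e ^ (k + 1))⁻¹ = e ^ k * (e * z * e⁻¹) * (e ^ k)⁻¹ := by
        rw [pow_succ]; group
      rw [e1, h1 z hz, ih _ hz', pow_succ]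
      group
  have h3 : e ^ orderOf s ∈ Subgroup.centralizer (S : Set G) := by
    rw [Subgroup.mem_centralizer_iff]
    intro z hz
    have := h2 (orderOf s) z hz
    rw [pow_orderOf_eq_one] at this
    simp only [inv_one, one_mul, mul_one] at this
    calc z * e ^ orderOf s = (e ^ orderOf s * z * (e ^ orderOf s)⁻¹) * e ^ orderOf s := by rw [this]
      _ = e ^ orderOf s * z := by group
  obtain ⟨m, hm⟩ := exists_pow_eq_self_of_coprime hcop
  rw [← hm]
  exact Subgroup.pow_mem _ h3 m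

/-- K-152-L2b -/
theorem centralizer_le_fittingOf_of_nilpotent {G : Type*} [Group G] [Finite G]
    (hG : IsMinSimpleOddOrder G) {M : Subgroup G} (hM : IsCoatom M)
    (hnil : Group.IsNilpotent (sigmaCore M)) (hF : fittingHallOf M = sigmaCore M) :
    M ⊓ Subgroup.centralizer (fittingHallOf M : Set G) ≤ fittingOf M := by
  rw [hF]
  have hHall := (Cfsg.Agent.S1350.result hG M hM).1
  have hsM : Group.IsSolvable ↥M := Cfsg.Agent.Lib.Helper55.ms_solvable hG hM.1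
  obtain ⟨E, hE, -⟩ := Cfsg.Agent.Lib.Helper13.BG12.exists_complIn_ge hG hM hHall
    (K := ⊥) bot_le (by
      intro p hp hpd
      rw [Subgroup.card_bot] at hpd
      exact absurd (Nat.dvd_one.mp hpd) hp.ne_one)
  have hidx := Cfsg.Agent.Lib.Helper13.BG12.relIndex_eq_card_of_complIn hE
  obtain ⟨hEM, hσM, hEσ, hfac⟩ := hE
  have hMσn : M ≤ Subgroup.normalizer ((sigmaCore M : Subgroup G) : Set G) :=
    Cfsg.Agent.Lib.Helper71.BG11.le_normalizer_sigmaCore M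
  have hσ1 : sigmaCore M ≠ ⊥ := Cfsg.Agent.Lib.Helper36.BG142.sigmaCore_ne_bot' hG hM
  have hcopE : (Nat.card (sigmaCore M)).Coprime (Nat.card E) := by
    apply Nat.coprime_of_dvd
    intro p hp hpσ hpE
    have hps : p ∈ sigma M := hHall.2.1 p hp hpσ
    exact hHall.2.2 p hp hps (hidx ▸ hpE)
  -- `C₀ := E ⊓ C(M_σ)`
  set C₀ : Subgroup G := E ⊓ Subgroup.centralizer ((sigmaCore M : Subgroup G) : Set G) with hC₀
  have hC₀M : C₀ ≤ M := inf_le_left.trans hEM
  -- every element of `C = M ⊓ C(M_σ)` is `e * s` with `e ∈ C₀`, `s ∈ Z(M_σ)`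
  have hdec : ∀ c ∈ M ⊓ Subgroup.centralizer ((sigmaCore M : Subgroup G) : Set G),
      ∃ e ∈ C₀, ∃ s ∈ sigmaCore M ⊓ Subgroup.centralizer ((sigmaCore M : Subgroup G) : Set G),
        c = e * s := by
    intro c hc
    obtain ⟨hcM, hcC⟩ := Subgroup.mem_inf.mp hc
    obtain ⟨e, he, s, hs, rfl⟩ := hfac c hcM
    have hcop : (orderOf s).Coprime (orderOf e) := by
      have h1 : orderOf s ∣ Nat.card (sigmaCore M) := by
        have := orderOf_dvd_natCard (⟨s, hs⟩ : ↥(sigmaCore M))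
        rwa [Subgroup.orderOf_mk] at this
      have h2 : orderOf e ∣ Nat.card E := by
        have := orderOf_dvd_natCard (⟨e, he⟩ : ↥E)
        rwa [Subgroup.orderOf_mk] at this
      exact Nat.Coprime.coprime_dvd_left h1 (Nat.Coprime.coprime_dvd_right h2 hcopE)
    have heC := left_mem_centralizer_of_mul hs hcC hcop
    refine ⟨e, Subgroup.mem_inf.mpr ⟨he, heC⟩, s, Subgroup.mem_inf.mpr ⟨hs, ?_⟩, rfl⟩
    have : s = e⁻¹ * (e * s) := by group
    rw [this]
    exact Subgroup.mul_mem _ (Subgroup.inv_mem _ heC) hcC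
  -- primes of `C₀`
  have hC₀π : ∀ r : ℕ, r.Prime → r ∣ Nat.card C₀ →
      r ∈ {q : ℕ | q.Prime ∧ q ∉ kappa M ∧ q ∉ sigma M} := by
    intro r hr hrd
    have hrE : r ∣ Nat.card E := hrd.trans (Subgroup.card_dvd_of_le inf_le_left)
    have hrσ : r ∉ sigma M := fun h => hHall.2.2 r hr h (hidx ▸ hrE)
    refine ⟨hr, ?_, hrσ⟩
    intro hrκ
    -- an element of order `r` in `C₀`
    haveI : Fact r.Prime := ⟨hr⟩
    obtain ⟨x, hx⟩ := exists_prime_orderOf_dvd_card' (G := ↥C₀) r hrd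
    have hxC₀ : (x : G) ∈ C₀ := x.2
    have hxo : orderOf (x : G) = r := by rw [Subgroup.orderOf_coe]; exact hx
    have hx1 : (x : G) ≠ 1 := by
      intro h
      rw [h, orderOf_one] at hxo
      exact hr.ne_one hxo.symm
    set X : Subgroup G := Subgroup.zpowers (x : G) with hX
    have hXM : X ≤ M := by
      rw [hX, Subgroup.zpowers_le]; exact hC₀M hxC₀
    have hXc : Nat.card X = r := by rw [hX, Nat.card_zpowers, hxo]
    obtain ⟨K₁, hK₁, hXK₁⟩ := Cfsg.Agent.Lib.Helper54.BG134.exists_isPiHallOf_ge hsM (kappa M) hXM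
      (fun p hp hpd => by
        rw [hXc] at hpd
        rw [(Nat.prime_dvd_prime_iff_eq hp hr).mp hpd]
        exact hrκ)
    have hxK₁ : (x : G) ∈ K₁ := hXK₁ (Subgroup.mem_zpowers _)
    have hK₁1 : K₁ ≠ ⊥ := by
      intro h
      rw [h, Subgroup.mem_bot] at hxK₁
      exact hx1 hxK₁
    have h30 := (Cfsg.Agent.S1430.result hG M hM K₁ hK₁ hK₁1).1 (x : G) hxK₁ hx1
    have h31 := (Cfsg.Agent.S1431.result hG M hM K₁ hK₁ hK₁1).2.2.1
    -- `M_σ ⊓ C(x) = M_σ`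
    have hall : sigmaCore M ⊓ Subgroup.centralizer ({(x : G)} : Set G) = sigmaCore M := by
      apply le_antisymm inf_le_left
      intro y hy
      refine Subgroup.mem_inf.mpr ⟨hy, ?_⟩
      rw [Subgroup.mem_centralizer_iff]
      intro z hz
      rw [Set.mem_singleton_iff] at hz
      rw [hz]
      exact (Subgroup.mem_centralizer_iff.mp (Subgroup.mem_inf.mp hxC₀).2 y hy).symm
    rw [hall] at h30
    -- a prime of `|M_σ|`
    have hc1 : Nat.card (sigmaCore M) ≠ 1 := fun h => hσ1 ((Subgroup.card_eq_one).mp h)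
    obtain ⟨p, hp, hpd⟩ : ∃ p : ℕ, p.Prime ∧ p ∣ Nat.card (sigmaCore M) :=
      ⟨_, Nat.minFac_prime hc1, Nat.minFac_dvd _⟩
    haveI : Fact p.Prime := ⟨hp⟩
    have hpd' : p ∣ Nat.card ↥(sigmaCore M ⊓ Subgroup.centralizer (K₁ : Set G)) := by
      rw [← h30]; exact hpd
    obtain ⟨-, -, hnot⟩ := h31 p hp hpd' (default : Sylow p ↥(sigmaCore M))
    apply hnot
    rw [← h30]
    exact Subgroup.map_subtype_le _
  -- `C₀` is abelian
  obtain ⟨⟨K, hK⟩, hKcyc⟩ := Cfsg.Agent.S1351.result hG M hM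
  obtain ⟨U, hKU⟩ := (Cfsg.Agent.S1352.result hG M hM K (hKcyc K hK) hK).1
  have hUHall := Cfsg.Agent.Lib.Helper32.BG147P.isPiHallOf_U_aux hG hM hKU
  obtain ⟨m, hmM, hC₀U⟩ := Cfsg.Agent.Lib.Helper97.BG1366.exists_cj_ge_of_hall hsM hUHall hC₀M hC₀π
  have hab := Cfsg.Agent.S1359.result hG M hM K U hKU
  obtain ⟨y₀, hy₀σ, hy₀1⟩ : ∃ y ∈ sigmaCore M, y ≠ 1 := by
    by_contra hcon
    push_neg at hcon
    apply hσ1
    rw [eq_bot_iff]
    intro y hy
    rw [Subgroup.mem_bot]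
    exact hcon y hy
  have hmem : ∀ a ∈ C₀, m⁻¹ * a * m ∈ Subgroup.closure ((U : Set G) ∩ sigmaHat M) := by
    intro a ha
    apply Subgroup.subset_closure
    refine ⟨Cfsg.Agent.Lib.Helper55.mem_cj.mp (hC₀U ha), ?_, y₀, hy₀σ, hy₀1, ?_⟩
    · exact M.mul_mem (M.mul_mem (M.inv_mem hmM) (hC₀M ha)) hmM
    · -- `m⁻¹ a m` centralizes `M_σ`
      have hy' : m * y₀ * m⁻¹ ∈ sigmaCore M :=
        (Subgroup.mem_normalizer_iff.mp (hMσn hmM) y₀).mp hy₀σ
      have := Subgroup.mem_centralizer_iff.mp (Subgroup.mem_inf.mp ha).2 _ hy'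
      -- (m y₀ m⁻¹) * a = a * (m y₀ m⁻¹)
      calc m⁻¹ * a * m * y₀ = m⁻¹ * (a * (m * y₀ * m⁻¹)) * m := by group
        _ = m⁻¹ * ((m * y₀ * m⁻¹) * a) * m := by rw [this]
        _ = y₀ * (m⁻¹ * a * m) := by group
  have hC₀comm : ∀ a ∈ C₀, ∀ b ∈ C₀, a * b = b * a := by
    intro a ha b hb
    have h := hab.is_comm.comm (⟨_, hmem a ha⟩ : ↥(Subgroup.closure ((U : Set G) ∩ sigmaHat M)))
      ⟨_, hmem b hb⟩
    have h' : (m⁻¹ * a * m) * (m⁻¹ * b * m) = (m⁻¹ * b * m) * (m⁻¹ * a * m) :=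
      congrArg Subtype.val h
    have e1 : a * b = m * ((m⁻¹ * a * m) * (m⁻¹ * b * m)) * m⁻¹ := by group
    have e2 : b * a = m * ((m⁻¹ * b * m) * (m⁻¹ * a * m)) * m⁻¹ := by group
    rw [e1, e2, h']
  -- `C` is abelian
  set C : Subgroup G := M ⊓ Subgroup.centralizer ((sigmaCore M : Subgroup G) : Set G) with hC
  have hCcomm : ∀ a ∈ C, ∀ b ∈ C, a * b = b * a := by
    intro a ha b hb
    obtain ⟨e₁, he₁, s₁, hs₁, rfl⟩ := hdec a ha
    obtain ⟨e₂, he₂, s₂, hs₂, rfl⟩ := hdec b hb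
    have hee := hC₀comm e₁ he₁ e₂ he₂
    have hss : s₁ * s₂ = s₂ * s₁ :=
      (Subgroup.mem_centralizer_iff.mp (Subgroup.mem_inf.mp hs₂).2 s₁ (Subgroup.mem_inf.mp hs₁).1)
    have h12 : s₁ * e₂ = e₂ * s₁ :=
      (Subgroup.mem_centralizer_iff.mp (Subgroup.mem_inf.mp he₂).2 s₁ (Subgroup.mem_inf.mp hs₁).1)
    have h21 : s₂ * e₁ = e₁ * s₂ :=
      (Subgroup.mem_centralizer_iff.mp (Subgroup.mem_inf.mp he₁).2 s₂ (Subgroup.mem_inf.mp hs₂).1)
    calc e₁ * s₁ * (e₂ * s₂) = e₁ * (s₁ * e₂) * s₂ := by group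
      _ = e₁ * (e₂ * s₁) * s₂ := by rw [h12]
      _ = (e₁ * e₂) * (s₁ * s₂) := by group
      _ = (e₂ * e₁) * (s₂ * s₁) := by rw [hee, hss]
      _ = e₂ * (e₁ * s₂) * s₁ := by group
      _ = e₂ * (s₂ * e₁) * s₁ := by rw [h21]
      _ = e₂ * s₂ * (e₁ * s₁) := by group
  have hCnil : Group.IsNilpotent ↥C := by
    letI : CommGroup ↥C :=
      { (inferInstance : Group ↥C) with
        mul_comm := fun a b => Subtype.ext (hCcomm a a.2 b b.2) }
    exact CommGroup.isNilpotent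
  -- `C` is normal in `M`
  have hCn : (C.subgroupOf M).Normal := by
    constructor
    intro n hn g
    rw [Subgroup.mem_subgroupOf] at hn ⊢
    obtain ⟨hnM, hnC⟩ := Subgroup.mem_inf.mp hn
    refine Subgroup.mem_inf.mpr ⟨M.mul_mem (M.mul_mem g.2 hnM) (M.inv_mem g.2), ?_⟩
    rw [Subgroup.mem_centralizer_iff]
    intro z hz
    have hz' : (g : G)⁻¹ * z * g ∈ sigmaCore M := by
      have := (Subgroup.mem_normalizer_iff.mp (hMσn (M.inv_mem g.2)) z).mp hz
      simpa using this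
    have := Subgroup.mem_centralizer_iff.mp hnC _ hz'
    push_cast
    calc z * ((g : G) * (n : G) * (g : G)⁻¹)
        = (g : G) * (((g : G)⁻¹ * z * g) * (n : G)) * (g : G)⁻¹ := by group
      _ = (g : G) * ((n : G) * ((g : G)⁻¹ * z * g)) * (g : G)⁻¹ := by rw [this]
      _ = (g : G) * (n : G) * (g : G)⁻¹ * z := by group
  have hCnil' : Group.IsNilpotent ↥(C.subgroupOf M) := by
    haveI := hCnil
    exact nilpotent_of_mulEquiv (Subgroup.subgroupOfEquivOfLe (inf_le_left : C ≤ M)).symm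
  have hle := Cfsg.Agent.Lib.Helper76.le_fittingSubgroup hCn hCnil'
  unfold fittingOf
  intro c hc
  exact ⟨⟨c, (Subgroup.mem_inf.mp hc).1⟩, hle (by rw [Subgroup.mem_subgroupOf]; exact hc), rfl⟩

end Cfsg.Agent.Lib.Helper58.BG152
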