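import Mathlib
import Cfsg.Agent.S1350
import Cfsg.Agent.S1354
import Cfsg.Agent.S1430
import Cfsg.Agent.S1431
import Cfsg.Agent.Lib.Helper28.BG152P0
import Cfsg.Agent.Lib.Helper32.BG147P2
import Cfsg.Agent.Lib.Helper54.Conj
import Cfsg.Agent.Lib.Helper55.Basic
import Cfsg.Agent.Lib.Helper60.BG152L1b
import Cfsg.Agent.Lib.Helper71.BG10Sub
import Cfsg.Agent.Lib.Helper71.BG11a
import Cfsg.Agent.Lib.Helper97.BG1366O
import Cfsg.Agent.Lib.Helper58.BG152L2b

/-!
# K-152-L2c (keystone 135607) `centralizer_le_fittingOf_of_structure`: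
`C_M(Q)` is a nilpotent normal subgroup of `M`, hence `C_M(M_F) ≤ C_M(Q) ≤ F(M)`.
-/

set_option autoImplicit false
set_option linter.unusedVariables false
set_option linter.unusedSectionVars false

namespace Cfsg.Agent.Lib.Helper58.BG152

open Cfsg

/-- if `M` normalizes `Q` then `M` normalizes `M ⊓ C(Q)` -/
theorem le_normalizer_inf_centralizer {G : Type*} [Group G] {M Q : Subgroup G}
    (hQn : M ≤ Subgroup.normalizer (Q : Set G)) :
    M ≤ Subgroup.normalizer ((M ⊓ Subgroup.centralizer (Q : Set G) : Subgroup G) : Set G) := by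
  rw [Subgroup.le_normalizer_iff]
  intro g hg n hn
  obtain ⟨hnM, hnC⟩ := Subgroup.mem_inf.mp hn
  refine Subgroup.mem_inf.mpr ⟨M.mul_mem (M.mul_mem hg hnM) (M.inv_mem hg), ?_⟩
  rw [Subgroup.mem_centralizer_iff]
  intro z hz
  have hz' : g⁻¹ * z * g ∈ Q := by
    have := (Subgroup.mem_normalizer_iff.mp (hQn (M.inv_mem hg)) z).mp hz
    simpa using this
  have := Subgroup.mem_centralizer_iff.mp hnC _ hz'
  calc z * (g * n * g⁻¹)
      = g * ((g⁻¹ * z * g) * n) * g⁻¹ := by group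
    _ = g * (n * (g⁻¹ * z * g)) * g⁻¹ := by rw [this]
    _ = g * n * g⁻¹ * z := by group

/-- K-152-L2c -/
theorem centralizer_le_fittingOf_of_structure {G : Type*} [Group G] [Finite G]
    (hG : IsMinSimpleOddOrder G) {M : Subgroup G} (hM : IsCoatom M) {K Q D : Subgroup G}
    (hKU : IsSigmaDecomposition M K ⊥) (hK1 : K ≠ ⊥) (q : ℕ) (hq : q.Prime)
    (hQn : M ≤ Subgroup.normalizer (Q : Set G)) (hQq : IsPGroup q Q)
    (hcop : (Nat.card Q).Coprime (Q.relIndex M))
    (hKQ : sigmaCore M ⊓ Subgroup.centralizer (K : Set G) ≤ Q) (hQD : Q ⊔ D = sigmaCore M)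
    (hD : Group.IsNilpotent D) (hQF : Q ≤ fittingHallOf M) :
    M ⊓ Subgroup.centralizer (fittingHallOf M : Set G) ≤ fittingOf M := by
  classical
  haveI hqF : Fact q.Prime := ⟨hq⟩
  have hHall := (Cfsg.Agent.S1350.result hG M hM).1
  have hsM : Group.IsSolvable ↥M := Cfsg.Agent.Lib.Helper55.ms_solvable hG hM.1
  have hMσn : M ≤ Subgroup.normalizer ((sigmaCore M : Subgroup G) : Set G) :=
    Cfsg.Agent.Lib.Helper71.BG11.le_normalizer_sigmaCore M
  have hσM : sigmaCore M ≤ M := hHall.1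
  have hQσ : Q ≤ sigmaCore M := hQD ▸ le_sup_left
  have hQM : Q ≤ M := hQσ.trans hσM
  have hKs1 : sigmaCore M ⊓ Subgroup.centralizer (K : Set G) ≠ ⊥ :=
    (Cfsg.Agent.S1354.result hG M hM K hKU.cyclic hKU.hall).1
  have hQ1 : Q ≠ ⊥ := by
    intro h
    rw [h, le_bot_iff] at hKQ
    exact hKs1 hKQ
  obtain ⟨n, hn⟩ := hQq.exists_card_eq
  have hn0 : n ≠ 0 := by
    rintro rfl
    rw [pow_zero] at hn
    exact hQ1 (Subgroup.eq_bot_of_card_eq Q hn)
  have hqQ : q ∣ Nat.card Q := by rw [hn]; exact dvd_pow_self q hn0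
  have hndM : ¬ q ∣ Q.relIndex M := by
    intro h
    have : q ∣ Nat.gcd (Nat.card Q) (Q.relIndex M) := Nat.dvd_gcd hqQ h
    rw [hcop] at this
    exact hq.one_lt.ne' (Nat.dvd_one.mp this)
  have hnd : ¬ q ∣ Q.relIndex (sigmaCore M) := by
    intro h
    apply hndM
    rw [← Subgroup.relIndex_mul_relIndex Q (sigmaCore M) M hQσ hσM]
    exact h.mul_right _
  -- `q ∣ |K*|`
  have hqKs : q ∣ Nat.card ↥(sigmaCore M ⊓ Subgroup.centralizer (K : Set G)) := by
    have hKsq : IsPGroup q ↥(sigmaCore M ⊓ Subgroup.centralizer (K : Set G)) := hQq.to_le hKQ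
    obtain ⟨j, hj⟩ := hKsq.exists_card_eq
    have hj0 : j ≠ 0 := by
      rintro rfl
      rw [pow_zero] at hj
      exact hKs1 (Subgroup.eq_bot_of_card_eq _ hj)
    rw [hj]; exact dvd_pow_self q hj0
  set C : Subgroup G := M ⊓ Subgroup.centralizer (Q : Set G) with hC
  have hCM : C ≤ M := inf_le_left
  have hle : M ⊓ Subgroup.centralizer (fittingHallOf M : Set G) ≤ C :=
    inf_le_inf_left M (Subgroup.centralizer_le hQF)
  refine hle.trans ?_
  have hUHall := Cfsg.Agent.Lib.Helper32.BG147P.isPiHallOf_U_aux hG hM hKU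
  -- Step 1: the primes of `C` lie in `σ(M)`
  have hCπ : ∀ p : ℕ, p.Prime → p ∣ Nat.card C → p ∈ sigma M := by
    intro p hp hpd
    by_contra hpσ
    have hpM : p ∣ Nat.card M := hpd.trans (Subgroup.card_dvd_of_le hCM)
    have hpκ : p ∈ kappa M := by
      by_contra hpκ
      have := hUHall.2.2 p hp ⟨hp, hpκ, hpσ⟩
      rw [Subgroup.relIndex_bot_left] at this
      exact this hpM
    haveI : Fact p.Prime := ⟨hp⟩
    obtain ⟨x, hx⟩ := exists_prime_orderOf_dvd_card' (G := ↥C) p hpd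
    have hxC : (x : G) ∈ C := x.2
    have hxo : orderOf (x : G) = p := by rw [Subgroup.orderOf_coe]; exact hx
    have hx1 : (x : G) ≠ 1 := by
      intro h
      rw [h, orderOf_one] at hxo
      exact hp.ne_one hxo.symm
    set X : Subgroup G := Subgroup.zpowers (x : G) with hX
    have hXM : X ≤ M := by
      rw [hX, Subgroup.zpowers_le]; exact hCM hxC
    have hXc : Nat.card X = p := by rw [hX, Nat.card_zpowers, hxo]
    obtain ⟨m, hmM, hXK⟩ := Cfsg.Agent.Lib.Helper97.BG1366.exists_cj_ge_of_hall hsM hKU.hall hXM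
      (fun r hr hrd => by
        rw [hXc] at hrd
        rw [(Nat.prime_dvd_prime_iff_eq hr hp).mp hrd]
        exact hpκ)
    have hkK : m⁻¹ * (x : G) * m ∈ K :=
      Cfsg.Agent.Lib.Helper55.mem_cj.mp (hXK (Subgroup.mem_zpowers _))
    have hk1 : m⁻¹ * (x : G) * m ≠ 1 := by
      intro h
      apply hx1
      have : (x : G) = m * (m⁻¹ * (x : G) * m) * m⁻¹ := by group
      rw [this, h]; group
    have h30 := (Cfsg.Agent.S1430.result hG M hM K hKU.hall hK1).1 _ hkK hk1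
    -- `Q ≤ K*`
    have hQKs : Q ≤ sigmaCore M ⊓ Subgroup.centralizer (K : Set G) := by
      rw [← h30]
      intro z hz
      refine Subgroup.mem_inf.mpr ⟨hQσ hz, ?_⟩
      rw [Subgroup.mem_centralizer_iff]
      intro w hw
      rw [Set.mem_singleton_iff] at hw
      rw [hw]
      have hz' : m * z * m⁻¹ ∈ Q := (Subgroup.mem_normalizer_iff.mp (hQn hmM) z).mp hz
      have := Subgroup.mem_centralizer_iff.mp (Subgroup.mem_inf.mp hxC).2 _ hz'
      -- (m z m⁻¹) * x = x * (m z m⁻¹)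
      calc m⁻¹ * (x : G) * m * z = m⁻¹ * ((x : G) * (m * z * m⁻¹)) * m := by group
        _ = m⁻¹ * ((m * z * m⁻¹) * (x : G)) * m := by rw [this]
        _ = z * (m⁻¹ * (x : G) * m) := by group
    obtain ⟨-, hPM, hnot⟩ := (Cfsg.Agent.S1431.result hG M hM K hKU.hall hK1).2.2.1 q hq hqKs
      (default : Sylow q ↥(sigmaCore M))
    apply hnot
    refine le_trans ?_ hQKs
    exact Cfsg.Agent.Lib.Helper28.BG152.le_of_normal_sylow q M Q _ hQq hQM hndM
      ((default : Sylow q ↥(sigmaCore M)).isPGroup'.map _) hPM (hPM.trans hQn)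
  have hCσ : C ≤ sigmaCore M :=
    Cfsg.Agent.Lib.Helper71.BG10.le_of_isPiHallOf_normal hHall hMσn hCM hCπ
  -- Step 2: `C` is nilpotent
  obtain ⟨D₀, hD₀D, hD₀n, hD₀q, hQD₀, hQD₀i⟩ :=
    Cfsg.Agent.Lib.Helper28.BG152.exists_coprime_compl q (sigmaCore M) Q D hQq (hσM.trans hQn)
      hnd hQD hD
  have hD₀σ : D₀ ≤ sigmaCore M := hQD₀ ▸ le_sup_right
  have hD₀N : D₀ ≤ Subgroup.normalizer (Q : Set G) := (hD₀σ.trans hσM).trans hQn
  set A : Subgroup G := Q ⊓ Subgroup.centralizer (Q : Set G) with hA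
  set B : Subgroup G := D₀ ⊓ Subgroup.centralizer (Q : Set G) with hB
  have hCAB : C ≤ A ⊔ B := by
    intro c hc
    have hcσ : c ∈ Q ⊔ D₀ := hQD₀ ▸ hCσ hc
    obtain ⟨a, ha, d, hd, rfl⟩ :=
      Cfsg.Agent.Lib.Helper54.exists_mul_of_mem_sup_of_le_normalizer hD₀N hcσ
    have hcC : a * d ∈ Subgroup.centralizer (Q : Set G) := (Subgroup.mem_inf.mp hc).2
    have hs : d⁻¹ * a * d ∈ Q := by
      have := (Subgroup.mem_normalizer_iff.mp (hD₀N (D₀.inv_mem hd)) a).mp ha
      simpa using this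
    have hds : d * (d⁻¹ * a * d) = a * d := by group
    have hcop' : (orderOf (d⁻¹ * a * d)).Coprime (orderOf d) := by
      have h1 : orderOf (d⁻¹ * a * d) ∣ Nat.card Q := by
        have := orderOf_dvd_natCard (⟨_, hs⟩ : ↥Q)
        rwa [Subgroup.orderOf_mk] at this
      have h2 : orderOf d ∣ Nat.card D₀ := by
        have := orderOf_dvd_natCard (⟨d, hd⟩ : ↥D₀)
        rwa [Subgroup.orderOf_mk] at this
      have h3 : (Nat.card Q).Coprime (Nat.card D₀) := by
        rw [hn]; exact (Nat.Coprime.pow_left n hD₀q.symm)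
      exact Nat.Coprime.coprime_dvd_left h1 (Nat.Coprime.coprime_dvd_right h2 h3)
    have hdC : d ∈ Subgroup.centralizer (Q : Set G) :=
      left_mem_centralizer_of_mul hs (by rw [hds]; exact hcC) hcop'
    have haC : a ∈ Subgroup.centralizer (Q : Set G) := by
      have : a = (a * d) * d⁻¹ := by group
      rw [this]
      exact Subgroup.mul_mem _ hcC (Subgroup.inv_mem _ hdC)
    exact Subgroup.mul_mem_sup (Subgroup.mem_inf.mpr ⟨ha, haC⟩) (Subgroup.mem_inf.mpr ⟨hd, hdC⟩)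
  have hABnil : Group.IsNilpotent ↥(A ⊔ B) := by
    apply Cfsg.Agent.Lib.Helper60.BG152.isNilpotent_sup_of_commute
    · exact Cfsg.Agent.Lib.Helper60.BG152.isNilpotent_of_le' inf_le_left hQq.isNilpotent
    · exact Cfsg.Agent.Lib.Helper60.BG152.isNilpotent_of_le' inf_le_left hD₀n
    · intro a ha b hb
      exact (Subgroup.mem_centralizer_iff.mp (Subgroup.mem_inf.mp hb).2 a
        (Subgroup.mem_inf.mp ha).1)
  have hCnil : Group.IsNilpotent ↥C :=
    Cfsg.Agent.Lib.Helper60.BG152.isNilpotent_of_le' hCAB hABnil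
  exact Cfsg.Agent.Lib.Helper60.BG152.le_fittingOf_of_normal_nilpotent hCM
    (le_normalizer_inf_centralizer hQn) hCnil

end Cfsg.Agent.Lib.Helper58.BG152
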