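import Mathlib

set_option autoImplicit false

namespace Cfsg.Agent.Lib.Helper58

open Subgroup

variable {G : Type*} [Group G]

theorem relIndex_sup_of_le_normalizer (H N : Subgroup G) (hLE : H ≤ normalizer (N : Set G)) :
    N.relIndex (H ⊔ N) = N.relIndex H := by
  letI := Subgroup.normal_subgroupOf_of_le_normalizer hLE
  letI := Subgroup.normal_subgroupOf_sup_of_le_normalizer hLE
  unfold Subgroup.relIndex
  rw [Subgroup.index_eq_card, Subgroup.index_eq_card]
  exact Nat.card_congr (QuotientGroup.quotientInfEquivProdNormalizerQuotient H N hLE).toEquiv.symm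

/-- Product formula: `|HN| |H ∩ N| = |H| |N|` when `H` normalizes `N`. -/
theorem card_sup_mul_card_inf [Finite G] (H N : Subgroup G) (hLE : H ≤ normalizer (N : Set G)) :
    Nat.card ↥(H ⊔ N) * Nat.card ↥(H ⊓ N) = Nat.card H * Nat.card N := by
  have h1 : Nat.card N * N.relIndex (H ⊔ N) = Nat.card ↥(H ⊔ N) := by
    rw [← relIndex_bot_left, ← relIndex_bot_left]
    exact relIndex_mul_relIndex _ _ _ bot_le le_sup_right
  have h2 : Nat.card ↥(H ⊓ N) * (H ⊓ N).relIndex H = Nat.card H := by
    rw [← relIndex_bot_left, ← relIndex_bot_left]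
    exact relIndex_mul_relIndex _ _ _ bot_le inf_le_left
  rw [inf_relIndex_left] at h2
  rw [relIndex_sup_of_le_normalizer H N hLE] at h1
  rw [← h1, ← h2]
  ring

end Cfsg.Agent.Lib.Helper58
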