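import Mathlib

set_option autoImplicit false

namespace Cfsg.Agent.Lib.Helper58

open Subgroup

variable {G : Type*} [Group G]

/-- The classical strongly `p`-embedded intersection condition on `H`. -/
def SE (p : ℕ) (H : Subgroup G) : Prop :=
  ∀ g : G, g ∉ H → ¬ p ∣ Nat.card ↥(H ⊓ H.map (MulAut.conj g).toMonoidHom)

theorem pgroup_card_dvd [Finite G] {p : ℕ} [Fact p.Prime] {Q : Subgroup G}
    (hQ : IsPGroup p Q) (hQ1 : Q ≠ ⊥) : p ∣ Nat.card Q := by
  obtain ⟨n, hn⟩ := IsPGroup.iff_card.mp hQ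
  rcases Nat.eq_zero_or_pos n with h0 | hpos
  · exfalso
    apply hQ1
    rw [h0, pow_zero] at hn
    exact Subgroup.card_eq_one.mp hn
  · rw [hn]
    exact dvd_pow_self p (Nat.pos_iff_ne_zero.mp hpos)

theorem normalizer_le_of_SE [Finite G] {p : ℕ} [Fact p.Prime] {H : Subgroup G} (hse : SE p H)
    {Q : Subgroup G} (hQH : Q ≤ H) (hQ : IsPGroup p Q) (hQ1 : Q ≠ ⊥) :
    normalizer (Q : Set G) ≤ H := by
  intro g hg
  by_contra hgH
  apply hse g hgH
  have hle : Q ≤ H ⊓ H.map (MulAut.conj g).toMonoidHom := by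
    intro q hq
    refine ⟨hQH hq, ?_⟩
    change q ∈ H.map (MulAut.conj g).toMonoidHom
    rw [Subgroup.mem_map]
    refine ⟨g⁻¹ * q * g, hQH ?_, ?_⟩
    · have hg' : g⁻¹ ∈ normalizer (Q : Set G) := inv_mem hg
      have := (Subgroup.mem_normalizer_iff.mp hg' q).mp hq
      simpa using this
    · simp [MulAut.conj_apply, mul_assoc]
  exact dvd_trans (pgroup_card_dvd hQ hQ1) (Subgroup.card_dvd_of_le hle)

/-- In a finite `p`-group a proper subgroup is properly contained in its normalizer;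
ambient-group version. -/
theorem exists_normalizer_mem_not_mem [Finite G] {p : ℕ} [Fact p.Prime] {T U : Subgroup G}
    (hT : IsPGroup p T) (hUT : U ≤ T) (hne : U ≠ T) :
    ∃ x ∈ T, x ∉ U ∧ x ∈ normalizer (U : Set G) := by
  have : Group.IsNilpotent T := hT.isNilpotent
  have hnc : NormalizerCondition T := Group.normalizerCondition_of_isNilpotent
  have hlt : U.subgroupOf T < ⊤ := by
    rw [lt_top_iff_ne_top]
    intro h
    apply hne
    exact le_antisymm hUT (Subgroup.subgroupOf_eq_top.mp h)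
  have h2 := hnc _ hlt
  obtain ⟨x, hxN, hxU⟩ := SetLike.exists_of_lt h2
  refine ⟨x.1, x.2, ?_, ?_⟩
  · intro hx
    apply hxU
    exact Subgroup.mem_subgroupOf.mpr hx
  · rw [Subgroup.mem_normalizer_iff]
    intro h
    constructor
    · intro hh
      have hhT : h ∈ T := hUT hh
      have := (Subgroup.mem_normalizer_iff.mp hxN ⟨h, hhT⟩).mp (Subgroup.mem_subgroupOf.mpr hh)
      simpa [Subgroup.mem_subgroupOf] using this
    · intro hh
      have hhT : h ∈ T := by
        have h1 : x.1⁻¹ * (x.1 * h * x.1⁻¹) * x.1 ∈ T :=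
          T.mul_mem (T.mul_mem (T.inv_mem x.2) (hUT hh)) x.2
        simpa [mul_assoc] using h1
      have := (Subgroup.mem_normalizer_iff.mp hxN ⟨h, hhT⟩).mpr
        (by simpa [Subgroup.mem_subgroupOf] using hh)
      simpa [Subgroup.mem_subgroupOf] using this

theorem pgroup_le_of_SE [Finite G] {p : ℕ} [Fact p.Prime] {H : Subgroup G} (hse : SE p H)
    {T : Subgroup G} (hT : IsPGroup p T) (hTH : T ⊓ H ≠ ⊥) : T ≤ H := by
  by_contra hnot
  have hne : T ⊓ H ≠ T := by
    intro h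
    apply hnot
    rw [← h]
    exact inf_le_right
  obtain ⟨x, hxT, hxU, hxN⟩ := exists_normalizer_mem_not_mem hT inf_le_left hne
  have hU : IsPGroup p ↥(T ⊓ H) := hT.to_le inf_le_left
  have := normalizer_le_of_SE hse inf_le_right hU hTH hxN
  exact hxU ⟨hxT, this⟩

theorem exists_sylow_le_of_SE [Finite G] {p : ℕ} [Fact p.Prime] {H : Subgroup G} (hse : SE p H)
    (hpH : p ∣ Nat.card H) : ∃ S : Sylow p G, (S : Subgroup G) ≤ H := by
  obtain ⟨P₀⟩ : Nonempty (Sylow p H) := inferInstance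
  obtain ⟨S, hS⟩ := Sylow.exists_comap_subtype_eq P₀
  refine ⟨S, pgroup_le_of_SE hse S.isPGroup' ?_⟩
  intro hbot
  have h1 : (P₀ : Subgroup H) ≠ ⊥ := P₀.ne_bot_of_dvd_card hpH
  apply h1
  have h2 : (S : Subgroup G).subgroupOf H = (P₀ : Subgroup H) := hS
  rw [← h2]
  rw [Subgroup.subgroupOf_eq_bot, disjoint_iff]
  exact hbot

end Cfsg.Agent.Lib.Helper58
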