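import Mathlib
import Cfsg.Agent.Lib.Helper58.StronglyEmbedded

set_option autoImplicit false

namespace Cfsg.Agent.Lib.Helper58

open Subgroup
open scoped commutatorElement

variable {S : Type*} [Group S]

/-- If `T` is generated by `X` and all commutators of pairs of elements of `X` centralize `T`,
then all commutators of elements of `T` centralize `T`. -/
theorem class_two_of_generators (X : Set S)
    (hX : ∀ x ∈ X, ∀ y ∈ X, ⁅x, y⁆ ∈ Subgroup.centralizer ((Subgroup.closure X : Subgroup S) : Set S)) :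
    ∀ t ∈ Subgroup.closure X, ∀ u ∈ Subgroup.closure X,
      ⁅t, u⁆ ∈ Subgroup.centralizer ((Subgroup.closure X : Subgroup S) : Set S) := by
  set T := Subgroup.closure X with hT
  set Z := Subgroup.centralizer (T : Set S) with hZ
  have hZcomm : ∀ z ∈ Z, ∀ t ∈ T, t * z * t⁻¹ = z := by
    intro z hz t ht
    have := hz t ht
    calc t * z * t⁻¹ = (z * t) * t⁻¹ := by rw [this]
      _ = z := by group
  -- Step A
  have stepA : ∀ x ∈ X, ∀ u ∈ T, ⁅x, u⁆ ∈ Z := by
    intro x hx u hu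
    induction hu using Subgroup.closure_induction with
    | mem y hy => exact hX x hx y hy
    | one => simp
    | mul u₁ u₂ hu₁ hu₂ ih₁ ih₂ =>
      have : ⁅x, u₁ * u₂⁆ = ⁅x, u₁⁆ * (u₁ * ⁅x, u₂⁆ * u₁⁻¹) := by
        simp only [commutatorElement_def]; group
      rw [this, hZcomm _ ih₂ u₁ hu₁]
      exact Z.mul_mem ih₁ ih₂
    | inv u hu ih =>
      have : ⁅x, u⁻¹⁆ = u⁻¹ * ⁅x, u⁆⁻¹ * u⁻¹⁻¹ := by
        simp only [commutatorElement_def]; group
      rw [this, hZcomm _ (Z.inv_mem ih) u⁻¹ (T.inv_mem hu)]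
      exact Z.inv_mem ih
  intro t ht u hu
  induction ht using Subgroup.closure_induction with
  | mem x hx => exact stepA x hx u hu
  | one => simp
  | mul t₁ t₂ ht₁ ht₂ ih₁ ih₂ =>
    have : ⁅t₁ * t₂, u⁆ = (t₁ * ⁅t₂, u⁆ * t₁⁻¹) * ⁅t₁, u⁆ := by
      simp only [commutatorElement_def]; group
    rw [this, hZcomm _ ih₂ t₁ ht₁]
    exact Z.mul_mem ih₂ ih₁
  | inv t ht ih =>
    have : ⁅t⁻¹, u⁆ = t⁻¹ * ⁅t, u⁆⁻¹ * t⁻¹⁻¹ := by
      simp only [commutatorElement_def]; group
    rw [this, hZcomm _ (Z.inv_mem ih) t⁻¹ (T.inv_mem ht)]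
    exact Z.inv_mem ih

/-- In a finite `p`-group `T` (as a subgroup of an ambient group), a proper subgroup `A` lies in a
proper subgroup `M` of `T` that is normalized by `T`. -/
theorem exists_proper_normal_overgroup [Finite S] {p : ℕ} [Fact p.Prime] {T A : Subgroup S}
    (hT : IsPGroup p T) (hAT : A ≤ T) (hne : A ≠ T) :
    ∃ M : Subgroup S, A ≤ M ∧ M ≤ T ∧ M ≠ T ∧ ∀ g ∈ T, ∀ m ∈ M, g * m * g⁻¹ ∈ M := by
  have : Group.IsNilpotent T := hT.isNilpotent
  have hnc : NormalizerCondition T := Group.normalizerCondition_of_isNilpotent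
  have hne' : A.subgroupOf T ≠ ⊤ := by
    intro h
    apply hne
    exact le_antisymm hAT (Subgroup.subgroupOf_eq_top.mp h)
  rcases eq_top_or_exists_le_coatom (A.subgroupOf T) with h | ⟨M', hM', hAM'⟩
  · exact absurd h hne'
  · have hM'n : M'.Normal := NormalizerCondition.normal_of_coatom M' hnc hM'
    refine ⟨M'.map T.subtype, ?_, ?_, ?_, ?_⟩
    · intro a ha
      exact ⟨⟨a, hAT ha⟩, hAM' (Subgroup.mem_subgroupOf.mpr ha), rfl⟩
    · rintro _ ⟨m, _, rfl⟩
      exact m.2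
    · intro h
      apply hM'.1
      rw [eq_top_iff]
      intro t _
      have : (t : S) ∈ M'.map T.subtype := by rw [h]; exact t.2
      obtain ⟨m, hm, hmt⟩ := this
      have : m = t := Subtype.ext hmt
      rwa [← this]
    · rintro g hg _ ⟨m, hm, rfl⟩
      refine ⟨⟨g, hg⟩ * m * ⟨g, hg⟩⁻¹, hM'n.conj_mem m hm ⟨g, hg⟩, ?_⟩
      simp

end Cfsg.Agent.Lib.Helper58
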