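import Mathlib
import Cfsg.Prelude.Def_DStar
import Cfsg.Agent.Lib.Helper58.PGroupBasics

set_option autoImplicit false

namespace Cfsg.Agent.Lib.Helper58

open Subgroup
open scoped commutatorElement

variable {S : Type*} [Group S]

/-- The defining property of the `D*` family, relative to a subgroup `T`. -/
def PT (T A : Subgroup S) : Prop :=
  A ≤ T ∧ IsMulCommutative A ∧ ∀ x ∈ T,
    ⁅⁅A ⊔ Subgroup.zpowers x, A ⊔ Subgroup.zpowers x⁆, A ⊔ Subgroup.zpowers x⁆ = ⊥ →
      ∀ a ∈ A, a * x = x * a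

theorem comm_of_isMulCommutative {A : Subgroup S} (h : IsMulCommutative A) {x y : S}
    (hx : x ∈ A) (hy : y ∈ A) : x * y = y * x := by
  have := h.is_comm.comm ⟨x, hx⟩ ⟨y, hy⟩
  exact congrArg Subtype.val this

theorem PT_mono {T T' A : Subgroup S} (h : PT T A) (hT' : T' ≤ T) (hA : A ≤ T') : PT T' A :=
  ⟨hA, h.2.1, fun x hx => h.2.2 x (hT' hx)⟩

theorem PT_conj {M A : Subgroup S} (h : PT M A) (g : S)
    (hg : ∀ m ∈ M, g * m * g⁻¹ ∈ M) (hg' : ∀ m ∈ M, g⁻¹ * m * g ∈ M) :
    PT M (A.map (MulAut.conj g).toMonoidHom) := by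
  obtain ⟨hAM, hAc, hA⟩ := h
  refine ⟨?_, ?_, ?_⟩
  · rintro _ ⟨a, ha, rfl⟩
    exact hg a (hAM ha)
  · exact Subgroup.map_isMulCommutative A _
  · intro x hx htriv
    set x' := g⁻¹ * x * g with hx'
    have hx'M : x' ∈ M := hg' x hx
    set f := (MulAut.conj g).toMonoidHom with hf
    have hfx' : f x' = x := by
      simp [hf, hx', MulAut.conj_apply, mul_assoc]
    have hmap : (A ⊔ Subgroup.zpowers x').map f = A.map f ⊔ Subgroup.zpowers x := by
      rw [Subgroup.map_sup, MonoidHom.map_zpowers, hfx']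
    have htriv' : ⁅⁅A ⊔ Subgroup.zpowers x', A ⊔ Subgroup.zpowers x'⁆, A ⊔ Subgroup.zpowers x'⁆ = ⊥ := by
      have h1 : (⁅⁅A ⊔ Subgroup.zpowers x', A ⊔ Subgroup.zpowers x'⁆, A ⊔ Subgroup.zpowers x'⁆).map f = ⊥ := by
        rw [Subgroup.map_commutator, Subgroup.map_commutator, hmap]
        exact htriv
      exact (Subgroup.map_eq_bot_iff_of_injective _ (MulAut.conj g).injective).mp h1
    rintro _ ⟨a, ha, rfl⟩
    have hcomm := hA x' hx'M htriv' a ha
    have hx2 : x = g * x' * g⁻¹ := by rw [hx']; group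
    rw [hx2]
    simp only [hf, MulEquiv.coe_toMonoidHom, MulAut.conj_apply]
    calc g * a * g⁻¹ * (g * x' * g⁻¹) = g * (a * x') * g⁻¹ := by group
      _ = g * (x' * a) * g⁻¹ := by rw [hcomm]
      _ = g * x' * g⁻¹ * (g * a * g⁻¹) := by group

/-- Key lemma: two members of the family (relative to `T`) commute elementwise. -/
theorem PT_commute [Finite S] {p : ℕ} [Fact p.Prime] (hS : IsPGroup p S) :
    ∀ (n : ℕ) (T : Subgroup S), Nat.card T = n → ∀ A B : Subgroup S, PT T A → PT T B →
      ∀ a ∈ A, ∀ b ∈ B, a * b = b * a := by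
  intro n
  induction n using Nat.strong_induction_on with
  | _ n ih =>
  intro T hTn A B hA hB
  have hTp : IsPGroup p T := hS.to_subgroup T
  by_cases hAB : A ⊔ B = T
  · -- generated case
    have key : ∀ A B : Subgroup S, PT T A → PT T B → A ⊔ B = T →
        ∀ a ∈ A, ∀ g ∈ T, ∀ a' ∈ A, a * (g * a' * g⁻¹) = (g * a' * g⁻¹) * a := by
      intro A B hA hB hAB a ha g hg a' ha'
      by_cases hAT : A = T
      · have hmem : g * a' * g⁻¹ ∈ A := by
          rw [hAT]; exact T.mul_mem (T.mul_mem hg (hA.1 ha')) (T.inv_mem hg)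
        exact comm_of_isMulCommutative hA.2.1 ha hmem
      · obtain ⟨M, hAM, hMT, hMne, hMnorm⟩ := exists_proper_normal_overgroup hTp hA.1 hAT
        have hcard : Nat.card M < n := by
          rw [← hTn]
          rcases lt_or_ge (Nat.card M) (Nat.card T) with h | h
          · exact h
          · exact absurd (Subgroup.eq_of_le_of_card_ge hMT h) hMne
        have hA_M : PT M A := PT_mono hA hMT hAM
        have hAg_M : PT M (A.map (MulAut.conj g).toMonoidHom) := by
          apply PT_conj hA_M g (fun m hm => hMnorm g hg m hm)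
          intro m hm
          have := hMnorm g⁻¹ (T.inv_mem hg) m hm
          simpa using this
        exact ih _ hcard M rfl A _ hA_M hAg_M a ha _ ⟨a', ha', rfl⟩
    have keyA := key A B hA hB hAB
    have keyB := key B A hB hA (by rw [sup_comm]; exact hAB)
    -- commutators [a,b] are central in T
    have hTcl : T = Subgroup.closure ((A : Set S) ∪ (B : Set S)) := by
      rw [← hAB, Subgroup.sup_eq_closure]
    have hcomm_central : ∀ a ∈ A, ∀ b ∈ B, ⁅a, b⁆ ∈ Subgroup.centralizer (T : Set S) := by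
      intro a ha b hb
      have hbT : b ∈ T := hB.1 hb
      have haT : a ∈ T := hA.1 ha
      -- centralizes A
      have hcA : ∀ a₁ ∈ A, a₁ * ⁅a, b⁆ = ⁅a, b⁆ * a₁ := by
        intro a₁ ha₁
        have h1 : a₁ * a = a * a₁ := comm_of_isMulCommutative hA.2.1 ha₁ ha
        have h2 : a₁ * (b * a⁻¹ * b⁻¹) = (b * a⁻¹ * b⁻¹) * a₁ := keyA a₁ ha₁ b hbT a⁻¹ (A.inv_mem ha)
        have : ⁅a, b⁆ = a * (b * a⁻¹ * b⁻¹) := by
          simp only [commutatorElement_def]; group
        rw [this]
        exact (Commute.mul_right (show Commute a₁ a from h1)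
          (show Commute a₁ (b * a⁻¹ * b⁻¹) from h2)).eq
      have hcB : ∀ b₁ ∈ B, b₁ * ⁅a, b⁆ = ⁅a, b⁆ * b₁ := by
        intro b₁ hb₁
        have h1 : b₁ * b⁻¹ = b⁻¹ * b₁ := comm_of_isMulCommutative hB.2.1 hb₁ (B.inv_mem hb)
        have h2 : b₁ * (a * b * a⁻¹) = (a * b * a⁻¹) * b₁ := keyB b₁ hb₁ a haT b hb
        have : ⁅a, b⁆ = (a * b * a⁻¹) * b⁻¹ := by
          simp only [commutatorElement_def]
        rw [this]
        exact (Commute.mul_right (show Commute b₁ (a * b * a⁻¹) from h2)
          (show Commute b₁ b⁻¹ from h1)).eq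
      have hAc : A ≤ Subgroup.centralizer ({⁅a, b⁆} : Set S) := by
        intro a₁ ha₁
        rw [Subgroup.mem_centralizer_iff]
        intro y hy
        rw [Set.mem_singleton_iff] at hy
        subst hy
        exact (hcA a₁ ha₁).symm
      have hBc : B ≤ Subgroup.centralizer ({⁅a, b⁆} : Set S) := by
        intro b₁ hb₁
        rw [Subgroup.mem_centralizer_iff]
        intro y hy
        rw [Set.mem_singleton_iff] at hy
        subst hy
        exact (hcB b₁ hb₁).symm
      have hTc : T ≤ Subgroup.centralizer ({⁅a, b⁆} : Set S) := by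
        rw [← hAB]; exact sup_le hAc hBc
      rw [Subgroup.mem_centralizer_iff]
      intro t ht
      have := hTc ht
      rw [Subgroup.mem_centralizer_iff] at this
      exact (this _ rfl).symm
    have hclass2 : ∀ t ∈ T, ∀ u ∈ T, ⁅t, u⁆ ∈ Subgroup.centralizer (T : Set S) := by
      have := class_two_of_generators ((A : Set S) ∪ (B : Set S)) (by
        rw [← hTcl]
        rintro x (hx | hx) y (hy | hy)
        · have : ⁅x, y⁆ = 1 := by
            rw [commutatorElement_eq_one_iff_mul_comm]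
            exact comm_of_isMulCommutative hA.2.1 hx hy
          rw [this]; exact Subgroup.one_mem _
        · exact hcomm_central x hx y hy
        · have : ⁅x, y⁆ = ⁅y, x⁆⁻¹ := (commutatorElement_inv y x).symm
          rw [this]
          exact Subgroup.inv_mem _ (hcomm_central y hy x hx)
        · have : ⁅x, y⁆ = 1 := by
            rw [commutatorElement_eq_one_iff_mul_comm]
            exact comm_of_isMulCommutative hB.2.1 hx hy
          rw [this]; exact Subgroup.one_mem _)
      rw [← hTcl] at this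
      exact this
    intro a ha b hb
    have hbT : b ∈ T := hB.1 hb
    set H := A ⊔ Subgroup.zpowers b with hH
    have hHT : H ≤ T := sup_le hA.1 (by rw [Subgroup.zpowers_le]; exact hbT)
    have h1 : ⁅H, H⁆ ≤ Subgroup.centralizer (T : Set S) := by
      rw [Subgroup.commutator_le]
      intro g₁ hg₁ g₂ hg₂
      exact hclass2 g₁ (hHT hg₁) g₂ (hHT hg₂)
    have h2 : ⁅⁅H, H⁆, H⁆ = ⊥ := by
      rw [Subgroup.commutator_eq_bot_iff_le_centralizer]
      exact h1.trans (Subgroup.centralizer_le (by exact_mod_cast hHT))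
    exact hA.2.2 b hbT h2 a ha
  · -- proper case
    have hle : A ⊔ B ≤ T := sup_le hA.1 hB.1
    have hcard : Nat.card ↥(A ⊔ B) < n := by
      rw [← hTn]
      rcases lt_or_ge (Nat.card ↥(A ⊔ B)) (Nat.card T) with h | h
      · exact h
      · exact absurd (Subgroup.eq_of_le_of_card_ge hle h) hAB
    exact ih _ hcard (A ⊔ B) rfl A B (PT_mono hA hle le_sup_left) (PT_mono hB hle le_sup_right)

theorem PT_top_iff (A : Subgroup S) : PT ⊤ A ↔ A ∈ Cfsg.dStarFamily S := by
  unfold PT Cfsg.dStarFamily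
  simp

/-- Two members of the `D*` family of a finite `p`-group commute elementwise. -/
theorem dStarFamily_commute [Finite S] {p : ℕ} [Fact p.Prime] (hS : IsPGroup p S)
    {A B : Subgroup S} (hA : A ∈ Cfsg.dStarFamily S) (hB : B ∈ Cfsg.dStarFamily S) :
    ∀ a ∈ A, ∀ b ∈ B, a * b = b * a :=
  PT_commute hS _ ⊤ rfl A B ((PT_top_iff A).mpr hA) ((PT_top_iff B).mpr hB)

end Cfsg.Agent.Lib.Helper58
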