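import Mathlib
import Cfsg.Agent.Lib.Helper58.StronglyEmbedded
import Cfsg.Agent.Lib.Helper58.DStar

set_option autoImplicit false

namespace Cfsg.Agent.Lib.Helper58

open Subgroup
open scoped commutatorElement

variable {G : Type*} [Group G]

/-- A nontrivial normal subgroup of a finite `p`-group contains a nontrivial central element. -/
theorem exists_central_in_normal [Finite G] {p : ℕ} [Fact p.Prime] (hG : IsPGroup p G)
    (N : Subgroup G) [N.Normal] (hN : N ≠ ⊥) : ∃ n ∈ N, n ≠ 1 ∧ n ∈ Subgroup.center G := by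
  have hdvd : p ∣ Nat.card N := pgroup_card_dvd (hG.to_subgroup N) hN
  have h1 : (1 : N) ∈ MulAction.fixedPoints (ConjAct G) N := by
    intro g
    exact smul_one g
  obtain ⟨b, hb, hb1⟩ :=
    (hG.of_equiv ConjAct.toConjAct).exists_fixed_point_of_prime_dvd_card_of_fixed_point N hdvd h1
  refine ⟨b.1, b.2, ?_, ?_⟩
  · intro h
    apply hb1
    exact (Subtype.ext h).symm
  · rw [Subgroup.mem_center_iff]
    intro g
    have h2 := hb (ConjAct.toConjAct g)
    have h3 := congrArg Subtype.val h2
    rw [ConjAct.Subgroup.val_conj_smul, ConjAct.toConjAct_smul] at h3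
    calc g * b.1 = (g * b.1 * g⁻¹) * g := by group
      _ = b.1 * g := by rw [h3]

/-- A maximal normal abelian subgroup of a finite `p`-group is self-centralizing. -/
theorem centralizer_le_of_maximal_normal_abelian [Finite G] {p : ℕ} [Fact p.Prime]
    (hG : IsPGroup p G) (A : Subgroup G) (hAn : A.Normal) (hAc : IsMulCommutative A)
    (hmax : ∀ B : Subgroup G, B.Normal → IsMulCommutative B → A ≤ B → B = A) :
    Subgroup.centralizer (A : Set G) ≤ A := by
  by_contra hnot
  set C := Subgroup.centralizer (A : Set G) with hC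
  have hCn : C.Normal := Subgroup.normal_centralizer
  set π := QuotientGroup.mk' A with hπ
  have hNn : (C.map π).Normal := hCn.map π (QuotientGroup.mk'_surjective A)
  have hNne : C.map π ≠ ⊥ := by
    intro hbot
    apply hnot
    intro c hc
    have : π c ∈ C.map π := ⟨c, hc, rfl⟩
    rw [hbot, Subgroup.mem_bot] at this
    exact (QuotientGroup.eq_one_iff c).mp this
  have hQ : IsPGroup p (G ⧸ A) := hG.to_quotient A
  obtain ⟨q, hqN, hq1, hqc⟩ := exists_central_in_normal hQ (C.map π) hNne
  obtain ⟨x, hxC, rfl⟩ := hqN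
  have hxA : x ∉ A := fun h => hq1 ((QuotientGroup.eq_one_iff x).mpr h)
  -- the subgroup A₁ = A ⊔ ⟨x⟩
  set A₁ := Subgroup.closure ((A : Set G) ∪ {x}) with hA₁
  have hAA₁ : A ≤ A₁ := fun a ha => Subgroup.subset_closure (Or.inl ha)
  have hxA₁ : x ∈ A₁ := Subgroup.subset_closure (Or.inr rfl)
  have hA₁c : IsMulCommutative A₁ := by
    apply Subgroup.isMulCommutative_closure
    rintro u (hu | hu) v (hv | hv)
    · exact comm_of_isMulCommutative hAc hu hv
    · rw [Set.mem_singleton_iff] at hv; subst hv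
      exact (hxC u hu)
    · rw [Set.mem_singleton_iff] at hu; subst hu
      exact (hxC v hv).symm
    · rw [Set.mem_singleton_iff] at hu hv; subst hu; subst hv; rfl
  have hA₁n : A₁.Normal := by
    rw [← Subgroup.normalizer_eq_top_iff, eq_top_iff, hA₁, Subgroup.le_normalizer_closure_iff]
    rintro g - y (hy | hy)
    · exact hAA₁ (hAn.conj_mem y hy g)
    · rw [Set.mem_singleton_iff] at hy; subst hy
      have h1 : π g * π y = π y * π g := (Subgroup.mem_center_iff.mp hqc (π g))
      have h2 : g * y * g⁻¹ * y⁻¹ ∈ A := by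
        rw [← QuotientGroup.eq_one_iff]
        have : ((g * y * g⁻¹ * y⁻¹ : G) : G ⧸ A) = π g * π y * (π g)⁻¹ * (π y)⁻¹ := by
          simp [hπ]
        rw [this, h1]; group
      have : g * y * g⁻¹ = (g * y * g⁻¹ * y⁻¹) * y := by group
      rw [this]
      exact A₁.mul_mem (hAA₁ h2) hxA₁
  have := hmax A₁ hA₁n hA₁c hAA₁
  rw [this] at hxA₁
  exact hxA hxA₁

end Cfsg.Agent.Lib.Helper58
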