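import Mathlib
import Cfsg.Agent.S1350
import Cfsg.Agent.S1415
import Cfsg.Agent.S1420
import Cfsg.Agent.S1439
import Cfsg.Agent.Lib.Helper03.FrobSub
import Cfsg.Agent.Lib.Helper13.BG12A
import Cfsg.Agent.Lib.Helper16.BG1363Defs
import Cfsg.Agent.Lib.Helper31.Transitivity
import Cfsg.Agent.Lib.Helper54.BG134A3a
import Cfsg.Agent.Lib.Helper55.Basic
import Cfsg.Agent.Lib.Helper55.Uniq2
import Cfsg.Agent.Lib.Helper60.BG152L1b
import Cfsg.Agent.Lib.Helper70.BG1363I
import Cfsg.Agent.Lib.Helper71.BG11a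
import Cfsg.Agent.Lib.Helper90.BG14DW1
import Cfsg.Agent.Lib.Helper58.BG152L1a

/-!
# K-1435-P13c (keystone 143519) `normal_or_T0`
-/

set_option autoImplicit false
set_option linter.unusedVariables false
set_option linter.unusedSectionVars false

namespace Cfsg.Agent.Lib.Helper58.BG1435

open Cfsg Subgroup
open scoped commutatorElement

variable {G : Type*} [Group G] [Finite G]

/-- coprime action on an abelian subgroup: `C_A(X) ∩ [A, X] = 1`. -/
theorem cent_inf_comm_eq_bot_of_coprime (A X : Subgroup G)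
    (hAab : ∀ a ∈ A, ∀ b ∈ A, a * b = b * a)
    (hXA : X ≤ normalizer (A : Set G)) (hcop : (Nat.card X).Coprime (Nat.card A)) :
    A ⊓ centralizer (X : Set G) ⊓ ⁅A, X⁆ = ⊥ := by
  classical
  haveI : Fintype X := Fintype.ofFinite X
  letI : CommGroup ↥A :=
    { (inferInstance : Group ↥A) with
      mul_comm := fun a b => Subtype.ext (hAab a a.2 b b.2) }
  let cj : X → ↥A → ↥A := fun x a =>
    ⟨(x : G) * (a : G) * (x : G)⁻¹, (Subgroup.mem_normalizer_iff.mp (hXA x.2) _).mp a.2⟩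
  have cj_mul : ∀ x a b, cj x (a * b) = cj x a * cj x b := by
    intro x a b; apply Subtype.ext; simp [cj]
  have cj_comp : ∀ x y a, cj x (cj y a) = cj (x * y) a := by
    intro x y a; apply Subtype.ext; simp [cj, mul_assoc]
  let θ : ↥A →* ↥A := MonoidHom.mk' (fun a => ∏ x : X, cj x a) (by
    intro a b
    simp only [cj_mul]
    exact Finset.prod_mul_distrib)
  have θ_apply : ∀ a, θ a = ∏ x : X, cj x a := fun a => rfl
  have θ_cj : ∀ (y : X) a, θ (cj y a) = θ a := by
    intro y a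
    rw [θ_apply, θ_apply]
    simp only [cj_comp]
    exact Fintype.prod_equiv (Equiv.mulRight y) _ _ (fun x => rfl)
  have hcomm : ⁅A, X⁆ ≤ (θ.ker).map A.subtype := by
    rw [Subgroup.commutator_le]
    intro a ha x hx
    refine ⟨(⟨a, ha⟩ : ↥A) * cj ⟨x, hx⟩ (⟨a, ha⟩ : ↥A)⁻¹, ?_, ?_⟩
    · show θ _ = 1
      rw [map_mul, θ_cj, map_inv, mul_inv_cancel]
    · simp [cj, commutatorElement_def, mul_assoc]
  rw [eq_bot_iff]
  intro c hc
  obtain ⟨⟨hcA, hcX⟩, hcC⟩ := hc
  rw [Subgroup.mem_bot]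
  obtain ⟨c', hc'ker, hc'⟩ := hcomm hcC
  have hc'' : c' = ⟨c, hcA⟩ := Subtype.ext hc'
  subst hc''
  have hθ : θ ⟨c, hcA⟩ = 1 := hc'ker
  have hfix : ∀ x : X, cj x ⟨c, hcA⟩ = ⟨c, hcA⟩ := by
    intro x
    apply Subtype.ext
    have := Subgroup.mem_centralizer_iff.mp hcX (x : G) x.2
    simp only [cj]
    rw [this]; group
  rw [θ_apply] at hθ
  simp only [hfix, Finset.prod_const, Finset.card_univ] at hθ
  have hpow : c ^ Nat.card X = 1 := by
    have := congrArg (fun a : ↥A => (a : G)) hθ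
    simpa [Nat.card_eq_fintype_card] using this
  have h1 : orderOf c ∣ Nat.card X := orderOf_dvd_of_pow_eq_one hpow
  have h2 : orderOf c ∣ Nat.card A := by
    have := orderOf_dvd_natCard (⟨c, hcA⟩ : ↥A)
    rwa [Subgroup.orderOf_mk] at this
  have h3 := Nat.dvd_gcd h1 h2
  rw [hcop] at h3
  exact orderOf_eq_one_iff.mp (Nat.dvd_one.mp h3)

/-- Frobenius–Wielandt: a nilpotent `σ(H)'`-subgroup `T` of `H` on which `K` (prime order, acting fixed
point freely on `H_σ` and on `T`) acts, centralizes `H_σ`. -/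
theorem frob_centralizes_aux (hG : IsMinSimpleOddOrder G) {H K T : Subgroup G} (hH : IsCoatom H)
    (hKH : K ≤ H) (hp : (Nat.card K).Prime) (hpH : Nat.card K ∉ sigma H)
    (hfpf : sigmaCore H ⊓ centralizer (K : Set G) = ⊥)
    (hTH : T ≤ H) (hKT : K ≤ normalizer (T : Set G)) (hTnil : Group.IsNilpotent T)
    (hTcop : (Nat.card T).Coprime (Nat.card (sigmaCore H)))
    (hTK : ∀ x ∈ K, x ≠ 1 → T ⊓ centralizer ({x} : Set G) = ⊥) :
    T ≤ centralizer (sigmaCore H : Set G) := by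
  classical
  have hUn : ∀ e ∈ K, ∀ u ∈ T, e * u * e⁻¹ ∈ T := fun e he u hu =>
    (Subgroup.mem_normalizer_iff.mp (hKT he) u).mp hu
  have hfpf' : ∀ e ∈ K, e ≠ 1 → ∀ u ∈ T, e * u = u * e → u = 1 := by
    intro e he he1 u hu hcomm
    have h1 : u ∈ T ⊓ centralizer ({e} : Set G) := by
      refine ⟨hu, ?_⟩
      show u ∈ centralizer ({e} : Set G)
      rw [Subgroup.mem_centralizer_iff]
      intro g hg
      rw [Set.mem_singleton_iff] at hg
      subst hg
      exact hcomm
    rw [hTK e he he1] at h1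
    exact Subgroup.mem_bot.mp h1
  have hσH : sigmaCore H ≤ H := Cfsg.Agent.Lib.Helper71.BG11.sigmaCore_le H
  have hHnσ : H ≤ normalizer (sigmaCore H : Set G) :=
    Cfsg.Agent.Lib.Helper71.BG11.le_normalizer_sigmaCore H
  have hTKH : T ⊔ K ≤ H := sup_le hTH hKH
  have hHn : ∀ x ∈ T ⊔ K, ∀ h ∈ sigmaCore H, x * h * x⁻¹ ∈ sigmaCore H := by
    intro x hx h hh
    exact (Subgroup.mem_normalizer_iff.mp (hHnσ (hTKH hx)) h).mp hh
  have hsolvH : Group.IsSolvable H := Cfsg.Agent.Lib.Helper55.ms_solvable hG hH.1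
  have hsolv : Group.IsSolvable (sigmaCore H) :=
    Group.isSolvable_of_isSolvable_injective (f := Subgroup.inclusion hσH)
      (Subgroup.inclusion_injective hσH)
  have hTK0 : T ⊓ K = ⊥ := by
    rw [eq_bot_iff]
    intro x hx
    rw [Subgroup.mem_bot]
    by_contra hx1
    have h1 : x ∈ T ⊓ centralizer ({x} : Set G) := by
      refine ⟨hx.1, ?_⟩
      show x ∈ centralizer ({x} : Set G)
      rw [Subgroup.mem_centralizer_iff]
      intro g hg
      rw [Set.mem_singleton_iff] at hg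
      rw [hg]
    rw [hTK x hx.2 hx1] at h1
    exact hx1 (Subgroup.mem_bot.mp h1)
  have hcard : Nat.card ↥(T ⊔ K) = Nat.card T * Nat.card K :=
    Cfsg.Agent.Lib.Helper90.BG14D.card_sup_of_le_normalizer hKT hTK0
  have hcop2 : (Nat.card (sigmaCore H)).Coprime (Nat.card K) := by
    rw [Nat.coprime_comm, Nat.Prime.coprime_iff_not_dvd hp]
    intro hd
    exact hpH (Cfsg.Agent.Lib.Helper71.BG11.sigmaCore_pi hG hH hp hd)
  have hcop : Nat.Coprime (Nat.card (sigmaCore H)) (Nat.card ↥(T ⊔ K)) := by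
    rw [hcard]; exact Nat.Coprime.mul_right hTcop.symm hcop2
  have hW := Cfsg.Agent.Lib.Helper03.FrobSub.wielandt_sub T K (sigmaCore H) hUn hfpf' hTnil hHn
    hsolv hcop
  have hd1 : Nat.card ↥(sigmaCore H ⊓ centralizer (K : Set G)) = 1 := by
    rw [hfpf]; exact Subgroup.card_bot
  have hc1 : Nat.card ↥(sigmaCore H ⊓ centralizer ((T ⊔ K : Subgroup G) : Set G)) = 1 := by
    have hle : sigmaCore H ⊓ centralizer ((T ⊔ K : Subgroup G) : Set G) ≤
        sigmaCore H ⊓ centralizer (K : Set G) :=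
      inf_le_inf_left _ (Subgroup.centralizer_le (by
        intro x hx; exact (le_sup_right : K ≤ T ⊔ K) hx))
    rw [hfpf] at hle
    rw [le_bot_iff.mp hle]; exact Subgroup.card_bot
  rw [hd1, hc1, one_pow, one_mul, one_mul] at hW
  have heq : sigmaCore H ⊓ centralizer (T : Set G) = sigmaCore H :=
    Subgroup.eq_of_le_of_card_ge inf_le_left (le_of_eq hW)
  have hle : sigmaCore H ≤ centralizer (T : Set G) := by
    rw [← heq]; exact inf_le_right
  intro u hu
  rw [Subgroup.mem_centralizer_iff]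
  intro h hh
  have h1 := hle hh
  rw [Subgroup.mem_centralizer_iff] at h1
  exact (h1 u hu).symm

/-- KEYSTONE 143519  K-1435-P13c. -/
theorem normal_or_T0 (hG : IsMinSimpleOddOrder G) {H K E : Subgroup G} (hH : IsCoatom H)
    (hp : (Nat.card K).Prime) (hpH : Nat.card K ∉ sigma H) (hpτ : Nat.card K ∉ tau2 H)
    (hfpf : sigmaCore H ⊓ centralizer (K : Set G) = ⊥)
    (hE : IsComplIn E (sigmaCore H) H) (hKE : K ≤ E) :
    E ≤ normalizer (K : Set G) ∨
      ∃ T₀ : Subgroup G, T₀ ≤ E ∧ (Nat.card T₀).Prime ∧ H ≤ normalizer (T₀ : Set G) ∧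
        (∀ x ∈ K, x ≠ 1 → T₀ ⊓ centralizer ({x} : Set G) = ⊥) ∧
        T₀ ≤ centralizer (sigmaCore H : Set G) := by
  classical
  haveI hpF : Fact (Nat.card K).Prime := ⟨hp⟩
  obtain ⟨hEH, hσH, hEσ, hfac⟩ := id hE
  have hHall := (Cfsg.Agent.S1350.result hG H hH).1
  have hidx := Cfsg.Agent.Lib.Helper13.BG12.relIndex_eq_card_of_complIn hE
  have hKH : K ≤ H := hKE.trans hEH
  have hcopE : (Nat.card E).Coprime (Nat.card (sigmaCore H)) := by
    apply Nat.coprime_of_dvd
    intro r hr hrE hrσ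
    exact hHall.2.2 r hr (hHall.2.1 r hr hrσ) (hidx ▸ hrE)
  have hrk2 : PRankLE (Nat.card K) 2 ↥H := by
    by_contra h2
    exact hpH (Cfsg.Agent.Lib.Helper13.BG12.mem_sigma_of_not_pRankLE_two hG hH hp h2)
  have hrk1 : PRankLE (Nat.card K) 1 ↥H := by
    by_contra h1
    exact hpτ ⟨hp, hpH, hrk2, h1⟩
  by_cases hd : Nat.card K ∣ Nat.card ↥⁅H, H⁆
  · -- `p ∈ τ₃(H)`
    left
    have hτ3 : Nat.card K ∈ tau3 H := ⟨hp, hpH, hd, hrk1⟩
    have hEne : E ≠ ⊤ := fun h => hH.1 (top_le_iff.mp (h ▸ hEH))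
    have hsE : Group.IsSolvable ↥E := Cfsg.Agent.Lib.Helper55.ms_solvable hG hEne
    obtain ⟨E₃, hE₃, hKE₃⟩ := Cfsg.Agent.Lib.Helper54.BG134.exists_isPiHallOf_ge hsE (tau3 H) hKE
      (fun r hr hrd => by
        rw [(Nat.prime_dvd_prime_iff_eq hr hp).mp hrd]; exact hτ3)
    obtain ⟨hcyc, -, hnorm⟩ := (Cfsg.Agent.S1415.result hG H hH E hE).2.2 E₃ hE₃
    rw [Subgroup.le_normalizer_iff]
    intro e he k hk
    exact Cfsg.Agent.Lib.Helper70.BG1363.conj_mem_of_le_cyclic hcyc hKE₃ (hnorm he) hk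
  · -- `p ∤ |H'|`
    set A : Subgroup G := ⁅E, E⁆ with hA
    have hAE : A ≤ E := Subgroup.commutator_le.mpr (fun a ha b hb => by
      rw [commutatorElement_def]
      exact E.mul_mem (E.mul_mem (E.mul_mem ha hb) (E.inv_mem ha)) (E.inv_mem hb))
    have hAH' : A ≤ ⁅H, H⁆ := Subgroup.commutator_mono hEH hEH
    have hpA : ¬ Nat.card K ∣ Nat.card A := fun h => hd (h.trans (Subgroup.card_dvd_of_le hAH'))
    have hAab := (Cfsg.Agent.S1420.result hG H hH E hE).2.1
    have hAcomm : ∀ a ∈ A, ∀ b ∈ A, a * b = b * a := by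
      intro a ha b hb
      have := hAab.is_comm.comm (⟨a, ha⟩ : ↥A) ⟨b, hb⟩
      exact congrArg Subtype.val this
    have hEA : E ≤ normalizer (A : Set G) := by
      rw [Subgroup.le_normalizer_iff]
      intro e he a ha
      have h1 : ⁅e, a⁆ ∈ A := Subgroup.commutator_mem_commutator he (hAE ha)
      have : e * a * e⁻¹ = ⁅e, a⁆ * a := by rw [commutatorElement_def]; group
      rw [this]; exact A.mul_mem h1 ha
    have hKA : K ≤ normalizer (A : Set G) := hKE.trans hEA
    set T₁ : Subgroup G := ⁅A, K⁆ with hT₁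
    have hT₁A : T₁ ≤ A := by
      rw [hT₁, Subgroup.commutator_comm]
      exact Cfsg.Agent.Lib.Helper58.BG152.commutator_le_of_le_normalizer hKA
    have hcopKA : (Nat.card K).Coprime (Nat.card A) := (Nat.Prime.coprime_iff_not_dvd hp).mpr hpA
    have hKpow : ∀ k ∈ K, k ^ Nat.card K = 1 := by
      intro k hk
      have := pow_card_eq_one' (G := ↥K) (x := ⟨k, hk⟩)
      exact congrArg Subtype.val this
    have hconjK : ∀ e ∈ E, ∀ k ∈ K, ∃ c ∈ A, e * k * e⁻¹ = c * k := by
      intro e he k hk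
      refine ⟨⁅e, k⁆, Subgroup.commutator_mem_commutator he (hKE hk), ?_⟩
      rw [commutatorElement_def]; group
    by_cases hT₁1 : T₁ = ⊥
    · left
      have hcent : ∀ a ∈ A, ∀ k ∈ K, a * k = k * a := by
        have h := Subgroup.commutator_eq_bot_iff_le_centralizer.mp hT₁1
        intro a ha k hk
        exact (Subgroup.mem_centralizer_iff.mp (h ha) k hk).symm
      rw [Subgroup.le_normalizer_iff]
      intro e he k hk
      obtain ⟨c, hcA, hc⟩ := hconjK e he k hk
      have hck : Commute c k := hcent c hcA k hk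
      have h1 : (c * k) ^ Nat.card K = c ^ Nat.card K := by
        rw [hck.mul_pow, hKpow k hk, mul_one]
      have h2 : (e * k * e⁻¹) ^ Nat.card K = 1 := by
        rw [conj_pow, hKpow k hk]; group
      have h3 : c ^ Nat.card K = 1 := by rw [← h1, ← hc, h2]
      have hc1 : c = 1 := by
        have d1 : orderOf c ∣ Nat.card K := orderOf_dvd_of_pow_eq_one h3
        have d2 : orderOf c ∣ Nat.card A := by
          have := orderOf_dvd_natCard (⟨c, hcA⟩ : ↥A)
          rwa [Subgroup.orderOf_mk] at this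
        have d3 := Nat.dvd_gcd d1 d2
        rw [hcopKA] at d3
        exact orderOf_eq_one_iff.mp (Nat.dvd_one.mp d3)
      rw [hc, hc1, one_mul]; exact hk
    · right
      have hT₁E : T₁ ≤ E := hT₁A.trans hAE
      have hT₁H : T₁ ≤ H := hT₁E.trans hEH
      have hT₁comm : ∀ a ∈ T₁, ∀ b ∈ T₁, a * b = b * a :=
        fun a ha b hb => hAcomm a (hT₁A ha) b (hT₁A hb)
      -- `E` normalizes `T₁`
      have hET₁ : E ≤ normalizer (T₁ : Set G) := by
        rw [Subgroup.le_normalizer_iff]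
        intro e he t ht
        have h1 : e * t * e⁻¹ ∈ T₁.map (MulAut.conj e).toMonoidHom :=
          ⟨t, ht, by simp [MulAut.conj_apply]⟩
        rw [hT₁, Subgroup.map_commutator] at h1
        refine (Subgroup.commutator_le.mpr ?_) h1
        rintro _ ⟨a, ha, rfl⟩ _ ⟨k, hk, rfl⟩
        have ha' : e * a * e⁻¹ ∈ A := (Subgroup.mem_normalizer_iff.mp (hEA he) a).mp ha
        obtain ⟨c, hcA, hc⟩ := hconjK e he k hk
        simp only [MulEquiv.coe_toMonoidHom, MulAut.conj_apply]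
        rw [hc]
        have hak : ⁅e * a * e⁻¹, k⁆ ∈ ⁅A, K⁆ := Subgroup.commutator_mem_commutator ha' hk
        have hakA : ⁅e * a * e⁻¹, k⁆ ∈ A := hT₁A hak
        have e1 : ⁅e * a * e⁻¹, c * k⁆ = ⁅e * a * e⁻¹, k⁆ := by
          have h2 : (e * a * e⁻¹) * c = c * (e * a * e⁻¹) := hAcomm _ ha' c hcA
          have h3 : ⁅e * a * e⁻¹, k⁆ * c = c * ⁅e * a * e⁻¹, k⁆ := hAcomm _ hakA c hcA
          calc ⁅e * a * e⁻¹, c * k⁆
              = ((e * a * e⁻¹) * c) * k * (e * a * e⁻¹)⁻¹ * k⁻¹ * c⁻¹ := by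
                rw [commutatorElement_def]; group
            _ = (c * (e * a * e⁻¹)) * k * (e * a * e⁻¹)⁻¹ * k⁻¹ * c⁻¹ := by rw [h2]
            _ = c * ⁅e * a * e⁻¹, k⁆ * c⁻¹ := by rw [commutatorElement_def]; group
            _ = ⁅e * a * e⁻¹, k⁆ * c * c⁻¹ := by rw [h3]
            _ = ⁅e * a * e⁻¹, k⁆ := by group
        rw [e1]; exact hak
      have hKT₁ : K ≤ normalizer (T₁ : Set G) := hKE.trans hET₁
      have hfix : T₁ ⊓ centralizer (K : Set G) = ⊥ := by
        have h := cent_inf_comm_eq_bot_of_coprime A K hAcomm hKA hcopKA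
        rw [eq_bot_iff] at h ⊢
        intro t ht
        exact h ⟨⟨hT₁A ht.1, ht.2⟩, ht.1⟩
      have hTK : ∀ x ∈ K, x ≠ 1 → T₁ ⊓ centralizer ({x} : Set G) = ⊥ := by
        intro x hx hx1
        rw [eq_bot_iff, ← hfix]
        intro t ht
        refine ⟨ht.1, ?_⟩
        show t ∈ centralizer (K : Set G)
        rw [Subgroup.mem_centralizer_iff]
        intro k hk
        have hmem : (⟨k, hk⟩ : ↥K) ∈ Subgroup.zpowers (⟨x, hx⟩ : ↥K) :=
          mem_zpowers_of_prime_card (p := Nat.card K) rfl (fun h => hx1 (congrArg Subtype.val h))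
        obtain ⟨n, hn⟩ := Subgroup.mem_zpowers_iff.mp hmem
        have hk' : k = x ^ n := by
          have := congrArg Subtype.val hn
          simpa using this.symm
        rw [hk']
        have hxt : Commute x t :=
          Subgroup.mem_centralizer_iff.mp ht.2 x (Set.mem_singleton x)
        exact (Commute.zpow_left hxt n).eq
      have hT₁nil : Group.IsNilpotent ↥T₁ := by
        letI : CommGroup ↥T₁ :=
          { (inferInstance : Group ↥T₁) with
            mul_comm := fun a b => Subtype.ext (hT₁comm a a.2 b b.2) }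
        exact CommGroup.isNilpotent
      have hT₁cop : (Nat.card T₁).Coprime (Nat.card (sigmaCore H)) :=
        Nat.Coprime.coprime_dvd_left (Subgroup.card_dvd_of_le hT₁E) hcopE
      have hT₁σ : T₁ ≤ centralizer (sigmaCore H : Set G) :=
        frob_centralizes_aux hG hH hKH hp hpH hfpf hT₁H hKT₁ hT₁nil hT₁cop hTK
      -- `H` normalizes `T₁`
      have hHT₁ : H ≤ normalizer (T₁ : Set G) := by
        rw [Subgroup.le_normalizer_iff]
        intro h hh t ht
        obtain ⟨e, he, s, hs, rfl⟩ := hfac h hh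
        have hst : s * t * s⁻¹ = t := by
          have := Subgroup.mem_centralizer_iff.mp (hT₁σ ht) s hs
          rw [this]; group
        have : e * s * t * (e * s)⁻¹ = e * (s * t * s⁻¹) * e⁻¹ := by group
        rw [this, hst]
        exact (Subgroup.mem_normalizer_iff.mp (hET₁ he) t).mp ht
      have hT₁F : T₁ ≤ fittingOf H :=
        Cfsg.Agent.Lib.Helper60.BG152.le_fittingOf_of_normal_nilpotent hT₁H hHT₁ hT₁nil
      have hFH : fittingOf H ≤ H := Subgroup.map_subtype_le _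
      have hT₁Y : T₁ ≤ piCoreOf {q | q.Prime ∧ q ∉ sigma H} (fittingOf H) :=
        Cfsg.Agent.Lib.Helper31.le_piCoreOf _ _ _ hT₁F (hFH.trans hHT₁) (by
          intro r hr hrd
          refine ⟨hr, fun hrσ => ?_⟩
          exact hHall.2.2 r hr hrσ (hidx ▸ (hrd.trans (Subgroup.card_dvd_of_le hT₁E))))
      have hYcyc := (Cfsg.Agent.S1439.result hG H hH).1
      have hT₁cyc : IsCyclic ↥T₁ := by
        haveI := hYcyc
        exact isCyclic_of_injective (Subgroup.inclusion hT₁Y) (Subgroup.inclusion_injective hT₁Y)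
      have hc1 : Nat.card T₁ ≠ 1 := fun h => hT₁1 (Subgroup.card_eq_one.mp h)
      obtain ⟨t, ht, htd⟩ : ∃ t : ℕ, t.Prime ∧ t ∣ Nat.card T₁ :=
        ⟨_, Nat.minFac_prime hc1, Nat.minFac_dvd _⟩
      haveI : Fact t.Prime := ⟨ht⟩
      obtain ⟨x, hx⟩ := exists_prime_orderOf_dvd_card' (G := ↥T₁) t htd
      have hxT : (x : G) ∈ T₁ := x.2
      have hxo : orderOf (x : G) = t := by rw [Subgroup.orderOf_coe]; exact hx
      set T₀ : Subgroup G := Subgroup.zpowers (x : G) with hT₀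
      have hT₀T₁ : T₀ ≤ T₁ := by rw [hT₀, Subgroup.zpowers_le]; exact hxT
      have hT₀c : Nat.card T₀ = t := by rw [hT₀, Nat.card_zpowers, hxo]
      refine ⟨T₀, hT₀T₁.trans hT₁E, by rw [hT₀c]; exact ht, ?_, ?_, hT₀T₁.trans hT₁σ⟩
      · rw [Subgroup.le_normalizer_iff]
        intro h hh w hw
        exact Cfsg.Agent.Lib.Helper70.BG1363.conj_mem_of_le_cyclic hT₁cyc hT₀T₁ (hHT₁ hh) hw
      · intro k hk hk1
        rw [eq_bot_iff, ← hTK k hk hk1]
        exact inf_le_inf_right _ hT₀T₁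

end Cfsg.Agent.Lib.Helper58.BG1435
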