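import Mathlib
import Cfsg.Agent.Lib.Helper16.BG1376Defs
import Cfsg.Agent.S1350
import Cfsg.Agent.S1353
import Cfsg.Agent.S1364
import Cfsg.Agent.S1372
import Cfsg.Agent.S1418
import Cfsg.Agent.S1419
import Cfsg.Agent.S1431
import Cfsg.Agent.Lib.Helper13.BG12B
import Cfsg.Agent.Lib.Helper54.Conj
import Cfsg.Agent.Lib.Helper55.SylowIn
import Cfsg.Agent.Lib.Helper71.BG10Sub
import Cfsg.Agent.Lib.Helper71.BG11a
import Cfsg.Agent.Lib.Helper77.BG137B

/-!
# S1376 (BG 15.8): leaves L-A and L-K of helper12's short proof, on helper16's `Conf`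

* `Conf.mem_K_of_comm`, `Conf.cent_x_eq_one`, `Conf.cent_sigmaCore_eq_one` (L-A):
  `C_E(x) = 1` and `C_E(M_σ) = 1` for `E = M ∩ N*`.
* `Conf.card_not_mem_tau2` (L-K): `|K| ∉ τ₂(M)`.
-/

set_option autoImplicit false

namespace Cfsg.Agent.Lib.Helper58.BG1376

open Cfsg Subgroup Cfsg.Agent.Lib.Helper16.BG1376

variable {G : Type*} [Group G] [Finite G]

/-- `K ≤ M ∩ N*` in a configuration. -/
theorem Conf.K_le {M N Ns K U : Subgroup G} {x : G} (h : Conf M N Ns K U x) : K ≤ M ⊓ Ns := by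
  refine h.hKF.trans ?_
  unfold fittingOf
  exact Subgroup.map_subtype_le _

/-- `M ≠ N*` in a configuration. -/
theorem Conf.ne_partner {M N Ns K U : Subgroup G} {x : G} (h : Conf M N Ns K U x) : M ≠ Ns := by
  intro hMN
  have h1 : (M ⊓ Ns) ⊓ sigmaCore M = ⊥ := h.hE.2.2.1
  have h2 : sigmaCore M ≤ M ⊓ Ns := by
    rw [← hMN, inf_idem]
    exact h.hE.2.1
  have h3 : sigmaCore M = ⊥ := by
    rw [eq_bot_iff, ← h1]
    exact le_inf h2 le_rfl
  apply h.hU1
  rw [eq_bot_iff, ← h3]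
  exact h.hUM

/-- **L-A**, first form: an element of `E = M ∩ N*` commuting with `x` lies in `K`. -/
theorem Conf.mem_K_of_comm {M N Ns K U : Subgroup G} {x : G} (h : Conf M N Ns K U x) {e : G}
    (heE : e ∈ M ⊓ Ns) (hex : e * x = x * e) : e ∈ K := by
  have heC : e ∈ centralizer ({x} : Set G) := by
    rw [mem_centralizer_iff]
    intro g hg
    rw [Set.mem_singleton_iff] at hg
    subst hg
    exact hex.symm
  have heNM : e ∈ N ⊓ M := ⟨h.hxN heC, heE.1⟩
  rw [h.hMN] at heNM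
  obtain ⟨u, hu, k, hk, rfl⟩ :=
    Cfsg.Agent.Lib.Helper54.exists_mul_of_mem_sup_of_le_normalizer h.hKU.normal heNM
  have hkE : k ∈ M ⊓ Ns := Conf.K_le h hk
  have huE : u ∈ M ⊓ Ns := by
    have := (M ⊓ Ns).mul_mem heE ((M ⊓ Ns).inv_mem hkE)
    simpa using this
  have hu1 : u ∈ (M ⊓ Ns) ⊓ sigmaCore M := ⟨huE, h.hUM hu⟩
  rw [h.hE.2.2.1, mem_bot] at hu1
  rw [hu1, one_mul]
  exact hk

/-- **L-A**: `C_E(x) = 1` for `E = M ∩ N*`. -/
theorem Conf.cent_x_eq_one (hG : IsMinSimpleOddOrder G) {M N Ns K U : Subgroup G} {x : G}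
    (h : Conf M N Ns K U x) {e : G} (heE : e ∈ M ⊓ Ns) (hex : e * x = x * e) : e = 1 := by
  by_contra he1
  have heK : e ∈ K := Conf.mem_K_of_comm h heE hex
  have h53 := Cfsg.Agent.S1353.result hG N h.hN K U h.hKU e heK he1
  have hx : x ∈ U ⊓ centralizer ({e} : Set G) := by
    refine ⟨h.hxU, ?_⟩
    show x ∈ centralizer ({e} : Set G)
    rw [mem_centralizer_iff]
    intro g hg
    rw [Set.mem_singleton_iff] at hg
    subst hg
    exact hex
  rw [h53, mem_bot] at hx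
  exact h.hx1 hx

/-- **L-A**: `C_E(M_σ) = 1` for `E = M ∩ N*`. -/
theorem Conf.cent_sigmaCore_eq_one (hG : IsMinSimpleOddOrder G) {M N Ns K U : Subgroup G} {x : G}
    (h : Conf M N Ns K U x) {e : G} (heE : e ∈ M ⊓ Ns)
    (hec : e ∈ centralizer (sigmaCore M : Set G)) : e = 1 := by
  apply Conf.cent_x_eq_one hG h heE
  exact ((mem_centralizer_iff.mp hec) x (h.hUM h.hxU)).symm

/-- `|K|` is a prime in a configuration (S1372). -/
theorem Conf.card_K_prime (hG : IsMinSimpleOddOrder G) {M N Ns K U : Subgroup G} {x : G}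
    (h : Conf M N Ns K U x) : (Nat.card K).Prime :=
  (Cfsg.Agent.S1372.result hG N h.hN K U h.hKU h.hK1 h.hU1).1

omit [Finite G] in
/-- `K ≤ N*_σ` in a configuration. -/
theorem Conf.K_le_sigmaCore {M N Ns K U : Subgroup G} {x : G} (h : Conf M N Ns K U x) :
    K ≤ sigmaCore Ns := by
  have := h.hKst
  intro y hy
  rw [this] at hy
  exact hy.1

/-- `|K| ∈ σ(N*)` in a configuration. -/
theorem Conf.card_K_mem_sigma (hG : IsMinSimpleOddOrder G) {M N Ns K U : Subgroup G} {x : G}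
    (h : Conf M N Ns K U x) : Nat.card K ∈ sigma Ns :=
  Cfsg.Agent.Lib.Helper71.BG11.sigmaCore_pi hG h.hNs (Conf.card_K_prime hG h)
    (Subgroup.card_dvd_of_le (Conf.K_le_sigmaCore h))

/-- S1431, clause 3 for `(N*, K*)` in a configuration: `N*` is the only maximal subgroup over a
Sylow `|K|`-subgroup of `N*_σ`. -/
theorem Conf.inUniqueMaximal_sylow (hG : IsMinSimpleOddOrder G) {M N Ns K U : Subgroup G} {x : G}
    (h : Conf M N Ns K U x) (S : Sylow (Nat.card K) ↥(sigmaCore Ns)) :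
    InUniqueMaximal ((S : Subgroup ↥(sigmaCore Ns)).map (sigmaCore Ns).subtype) := by
  have hKs1 : sigmaCore N ⊓ centralizer (K : Set G) ≠ ⊥ :=
    (Cfsg.Agent.S1364.result hG N h.hN K U h.hKU h.hK1).2.1
  have h31 := (Cfsg.Agent.S1431.result hG Ns h.hNs _ h.hKstH hKs1).2.2.1
  have hdvd : Nat.card K ∣ Nat.card ↥(sigmaCore Ns ⊓
      centralizer ((sigmaCore N ⊓ centralizer (K : Set G) : Subgroup G) : Set G)) := by
    rw [← h.hKst]
  exact (h31 (Nat.card K) (Conf.card_K_prime hG h) hdvd S).1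

/-- **L-K**: `|K| ∉ τ₂(M)`. -/
theorem Conf.card_not_mem_tau2 (hG : IsMinSimpleOddOrder G) {M N Ns K U : Subgroup G} {x : G}
    (h : Conf M N Ns K U x) : Nat.card K ∉ tau2 M := by
  intro hτ
  have hkp : (Nat.card K).Prime := Conf.card_K_prime hG h
  have : Fact (Nat.card K).Prime := ⟨hkp⟩
  have hHall : IsPiHallOf (sigma M) (sigmaCore M) M := (Cfsg.Agent.S1350.result hG M h.hM).1
  obtain ⟨A, hAE, hAel, hAcard⟩ :=
    Cfsg.Agent.Lib.Helper13.BG12.exists_elemAb_sq_le_compl hG h.hM hHall hτ h.hE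
  have h18 := Cfsg.Agent.S1418.result hG M h.hM (M ⊓ Ns) h.hE (Nat.card K) hτ A
    ⟨hAE, hAel, hAcard⟩
  have hCA : centralizer (A : Set G) ≤ M ⊓ Ns := by
    have h1 := h18.2.1.1
    rw [h18.2.1.2.1] at h1
    exact h1
  by_cases hall : ∀ S : Sylow (Nat.card K) G, IsMulCommutative (S : Subgroup G)
  · -- abelian Sylow subgroups: a Sylow subgroup of `G` inside `M ∩ N*`
    have hAp : IsPGroup (Nat.card K) A := IsPGroup.of_card hAcard
    obtain ⟨S, hAS⟩ := hAp.exists_le_sylow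
    have hSc := hall S
    have hSCA : (S : Subgroup G) ≤ centralizer (A : Set G) := by
      intro s hs
      rw [mem_centralizer_iff]
      intro a ha
      have := hSc.is_comm.comm (⟨a, hAS ha⟩ : ↥(S : Subgroup G)) ⟨s, hs⟩
      exact congrArg Subtype.val this
    have hSE : (S : Subgroup G) ≤ M ⊓ Ns := hSCA.trans hCA
    have hSM : (S : Subgroup G) ≤ M := hSE.trans inf_le_left
    have hSNs : (S : Subgroup G) ≤ Ns := hSE.trans inf_le_right
    -- `S ≤ N*_σ`
    have hHallNs : IsPiHallOf (sigma Ns) (sigmaCore Ns) Ns :=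
      (Cfsg.Agent.S1350.result hG Ns h.hNs).1
    have hSσ : (S : Subgroup G) ≤ sigmaCore Ns := by
      apply Cfsg.Agent.Lib.Helper71.BG10.le_of_isPiHallOf_normal hHallNs
        (Cfsg.Agent.Lib.Helper71.BG11.le_normalizer_sigmaCore Ns) hSNs
      intro p hp hpd
      obtain ⟨n, hn⟩ := IsPGroup.iff_card.mp S.isPGroup'
      rw [hn] at hpd
      have : p = Nat.card K := (Nat.prime_dvd_prime_iff_eq hp hkp).mp (hp.dvd_of_dvd_pow hpd)
      rw [this]
      exact Conf.card_K_mem_sigma hG h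
    have hSyl := Cfsg.Agent.Lib.Helper55.isSylowIn_of_sylow_le S hSσ
    have huniq := Conf.inUniqueMaximal_sylow hG h hSyl.toSylow
    rw [hSyl.map_toSylow] at huniq
    obtain ⟨L, -, hL⟩ := huniq
    have h1 : M = L := hL M ⟨h.hM, hSM⟩
    have h2 : Ns = L := hL Ns ⟨h.hNs, hSNs⟩
    exact Conf.ne_partner h (h1.trans h2.symm)
  · -- nonabelian Sylow subgroups: S1419 gives an element of `E` centralizing `M_σ`
    have hS := Cfsg.Agent.Lib.Helper77.BG137.sylow_all_nonabelian hall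
    have h19 := Cfsg.Agent.S1419.result hG M h.hM (M ⊓ Ns) h.hE (Nat.card K) hτ hS A
      ⟨hAE, hAel, hAcard⟩
    have hcard : Nat.card ↥(A ⊓ centralizer (sigmaCore M : Set G)) = Nat.card K := h19.2.1.1
    have hne : A ⊓ centralizer (sigmaCore M : Set G) ≠ ⊥ := by
      intro hbot
      rw [hbot, Subgroup.card_bot] at hcard
      exact hkp.one_lt.ne hcard
    obtain ⟨e, he1⟩ := (Subgroup.ne_bot_iff_exists_ne_one).mp hne
    apply he1
    have he' : (e : G) ∈ A ⊓ centralizer (sigmaCore M : Set G) := e.2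
    have := Conf.cent_sigmaCore_eq_one hG h (hAE he'.1) he'.2
    exact Subtype.ext this

end Cfsg.Agent.Lib.Helper58.BG1376
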