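import Mathlib

set_option autoImplicit false

namespace Cfsg.Agent.Lib.Helper58

open Subgroup

variable {G : Type*} [Group G]

theorem relIndex_eq_relIndex_sup_of_normal [Finite G] (S N : Subgroup G) [N.Normal] :
    S.relIndex N = S.relIndex (S ⊔ N) := by
  have h1 : Nat.card ↥(S ⊓ N) * (S ⊓ N).relIndex S = Nat.card S := by
    rw [← relIndex_bot_left, ← relIndex_bot_left]
    exact relIndex_mul_relIndex _ _ _ bot_le inf_le_left
  have h2 : Nat.card ↥(S ⊓ N) * (S ⊓ N).relIndex N = Nat.card N := by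
    rw [← relIndex_bot_left, ← relIndex_bot_left]
    exact relIndex_mul_relIndex _ _ _ bot_le inf_le_right
  have h3 : Nat.card N * N.relIndex (S ⊔ N) = Nat.card ↥(S ⊔ N) := by
    rw [← relIndex_bot_left, ← relIndex_bot_left]
    exact relIndex_mul_relIndex _ _ _ bot_le le_sup_right
  have h4 : Nat.card S * S.relIndex (S ⊔ N) = Nat.card ↥(S ⊔ N) := by
    rw [← relIndex_bot_left, ← relIndex_bot_left]
    exact relIndex_mul_relIndex _ _ _ bot_le le_sup_left
  rw [relIndex_sup_right] at h3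
  rw [inf_relIndex_left] at h1
  rw [inf_relIndex_right] at h2
  have hpos : 0 < Nat.card ↥(S ⊓ N) * N.relIndex S := by
    rw [h1]; exact Nat.card_pos
  have : (Nat.card ↥(S ⊓ N) * N.relIndex S) * S.relIndex N
       = (Nat.card ↥(S ⊓ N) * N.relIndex S) * S.relIndex (S ⊔ N) := by
    calc (Nat.card ↥(S ⊓ N) * N.relIndex S) * S.relIndex N
        = (Nat.card ↥(S ⊓ N) * S.relIndex N) * N.relIndex S := by ring
      _ = Nat.card ↥(S ⊔ N) := by rw [h2, h3]
      _ = (Nat.card ↥(S ⊓ N) * N.relIndex S) * S.relIndex (S ⊔ N) := by rw [h1, h4]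
  exact Nat.eq_of_mul_eq_mul_left hpos this

theorem sylow_inf_normal_relIndex [Finite G] {p : ℕ} [Fact p.Prime] (S : Sylow p G)
    (N : Subgroup G) [N.Normal] : ¬ p ∣ ((S : Subgroup G) ⊓ N).relIndex N := by
  rw [inf_relIndex_right, relIndex_eq_relIndex_sup_of_normal]
  intro h
  exact S.not_dvd_index (dvd_trans h (relIndex_dvd_index_of_le le_sup_left))

/-- The Sylow `p`-subgroup `S ∩ N` of a normal subgroup `N`. -/
noncomputable def sylowInfNormal [Finite G] {p : ℕ} [Fact p.Prime] (S : Sylow p G)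
    (N : Subgroup G) [N.Normal] : Sylow p N :=
  IsPGroup.toSylow (P := ((S : Subgroup G) ⊓ N).subgroupOf N)
    ((S.isPGroup'.to_le inf_le_left).comap_subtype) (sylow_inf_normal_relIndex S N)

theorem sylowInfNormal_coe [Finite G] {p : ℕ} [Fact p.Prime] (S : Sylow p G)
    (N : Subgroup G) [N.Normal] :
    ((sylowInfNormal S N : Sylow p N) : Subgroup N) = ((S : Subgroup G) ⊓ N).subgroupOf N := rfl

theorem sylowInfNormal_map [Finite G] {p : ℕ} [Fact p.Prime] (S : Sylow p G)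
    (N : Subgroup G) [N.Normal] :
    ((sylowInfNormal S N : Sylow p N) : Subgroup N).map N.subtype = (S : Subgroup G) ⊓ N := by
  rw [sylowInfNormal_coe, subgroupOf_map_subtype, inf_assoc, inf_idem]

theorem sylow_inf_normal_ne_bot [Finite G] {p : ℕ} [Fact p.Prime] (S : Sylow p G)
    (N : Subgroup G) [N.Normal] (hN : p ∣ Nat.card N) : (S : Subgroup G) ⊓ N ≠ ⊥ := by
  intro h
  have h1 := (sylowInfNormal S N).ne_bot_of_dvd_card hN
  apply h1
  rw [sylowInfNormal_coe, h]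
  exact Subgroup.bot_subgroupOf _

/-- Frattini argument for the Sylow subgroup `S ∩ N`. -/
theorem frattini_inf [Finite G] {p : ℕ} [Fact p.Prime] (S : Sylow p G)
    (N : Subgroup G) [N.Normal] :
    normalizer ((((S : Subgroup G) ⊓ N : Subgroup G)) : Set G) ⊔ N = ⊤ := by
  have := Sylow.normalizer_sup_eq_top (sylowInfNormal S N)
  rwa [sylowInfNormal_map] at this

/-- `|H| * |K| ≤ |H ⊔ K| * |H ⊓ K|` for subgroups of a finite group. -/
theorem card_mul_card_le_sup_mul_inf [Finite G] (H K : Subgroup G) :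
    Nat.card H * Nat.card K ≤ Nat.card ↥(H ⊔ K) * Nat.card ↥(H ⊓ K) := by
  have hx : Nat.card ↥(H ⊓ K) * (H ⊓ K).relIndex (H ⊔ K) = Nat.card ↥(H ⊔ K) := by
    rw [← relIndex_bot_left, ← relIndex_bot_left]
    exact relIndex_mul_relIndex _ _ _ bot_le (inf_le_left.trans le_sup_left)
  have hy : Nat.card H * H.relIndex (H ⊔ K) = Nat.card ↥(H ⊔ K) := by
    rw [← relIndex_bot_left, ← relIndex_bot_left]
    exact relIndex_mul_relIndex _ _ _ bot_le le_sup_left
  have hz : Nat.card K * K.relIndex (H ⊔ K) = Nat.card ↥(H ⊔ K) := by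
    rw [← relIndex_bot_left, ← relIndex_bot_left]
    exact relIndex_mul_relIndex _ _ _ bot_le le_sup_right
  have hle : (H ⊓ K).relIndex (H ⊔ K) ≤ H.relIndex (H ⊔ K) * K.relIndex (H ⊔ K) :=
    relIndex_inf_le
  have hxpos : 0 < (H ⊓ K).relIndex (H ⊔ K) := by
    rcases Nat.eq_zero_or_pos ((H ⊓ K).relIndex (H ⊔ K)) with h0 | h0
    · rw [h0, mul_zero] at hx
      exact absurd hx.symm (Nat.card_pos).ne'
    · exact h0
  have key : (Nat.card H * Nat.card K) * (H ⊓ K).relIndex (H ⊔ K)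
      ≤ (Nat.card ↥(H ⊔ K) * Nat.card ↥(H ⊓ K)) * (H ⊓ K).relIndex (H ⊔ K) := by
    calc (Nat.card H * Nat.card K) * (H ⊓ K).relIndex (H ⊔ K)
        ≤ (Nat.card H * Nat.card K) * (H.relIndex (H ⊔ K) * K.relIndex (H ⊔ K)) :=
          Nat.mul_le_mul_left _ hle
      _ = (Nat.card H * H.relIndex (H ⊔ K)) * (Nat.card K * K.relIndex (H ⊔ K)) := by ring
      _ = Nat.card ↥(H ⊔ K) * (Nat.card ↥(H ⊓ K) * (H ⊓ K).relIndex (H ⊔ K)) := by
          rw [hy, hz, hx]
      _ = (Nat.card ↥(H ⊔ K) * Nat.card ↥(H ⊓ K)) * (H ⊓ K).relIndex (H ⊔ K) := by ring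
  exact Nat.le_of_mul_le_mul_right key hxpos

end Cfsg.Agent.Lib.Helper58
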