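import Mathlib

/-!
# K-GAG-G04a (keystone 483904, pack K-GAG / S4839): a normal `p`-subgroup whose nonidentity
elements form one `G`-class is abelian.
-/

set_option autoImplicit false

namespace Cfsg.Agent.Lib.Helper58.Gag

variable {G : Type*} [Group G] [Finite G]

/-- G04a. -/
theorem comm_of_conj {p : ℕ} [Fact p.Prime] (N : Subgroup G) [N.Normal] (hNp : IsPGroup p N)
    (hconj : ∀ x ∈ N, ∀ y ∈ N, x ≠ 1 → y ≠ 1 → IsConj x y) :
    ∀ a ∈ N, ∀ b ∈ N, a * b = b * a := by
  by_cases hN : Nontrivial ↥N
  · -- a nonidentity central element of `N`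
    haveI := hN
    haveI := hNp.center_nontrivial
    obtain ⟨⟨z, hzc⟩, hz1⟩ := exists_ne (1 : Subgroup.center ↥N)
    have hz1' : (z : G) ≠ 1 := by
      intro h
      apply hz1
      apply Subtype.ext
      apply Subtype.ext
      exact h
    have hzcomm : ∀ b ∈ N, (z : G) * b = b * (z : G) := by
      intro b hb
      have := (Subgroup.mem_center_iff.mp hzc) ⟨b, hb⟩
      have h2 := congrArg Subtype.val this
      simpa using h2.symm
    -- every nonidentity element of `N` is central in `N`
    have hcentral : ∀ y ∈ N, y ≠ 1 → ∀ b ∈ N, y * b = b * y := by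
      intro y hy hy1 b hb
      obtain ⟨g, hg⟩ := isConj_iff.mp (hconj (z : G) z.2 y hy hz1' hy1)
      have hb' : g⁻¹ * b * g ∈ N := by
        have := ‹N.Normal›.conj_mem b hb g⁻¹
        simpa using this
      have h1 := hzcomm _ hb'
      rw [← hg]
      calc g * (z : G) * g⁻¹ * b = g * ((z : G) * (g⁻¹ * b * g)) * g⁻¹ := by group
        _ = g * ((g⁻¹ * b * g) * (z : G)) * g⁻¹ := by rw [h1]
        _ = b * (g * (z : G) * g⁻¹) := by group
    intro a ha b hb
    by_cases ha1 : a = 1
    · rw [ha1, one_mul, mul_one]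
    · exact hcentral a ha ha1 b hb
  · rw [not_nontrivial_iff_subsingleton] at hN
    intro a ha b hb
    have h1 : (⟨a, ha⟩ : ↥N) = 1 := Subsingleton.elim _ _
    have h2 : a = 1 := congrArg Subtype.val h1
    rw [h2, one_mul, mul_one]

end Cfsg.Agent.Lib.Helper58.Gag
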