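import Mathlib
import Cfsg.Agent.Lib.Helper06.NormalFour
import Cfsg.Agent.Lib.Helper59.CSCTop
import Cfsg.Agent.Lib.Helper42.Meta2
import Cfsg.Agent.Lib.Helper03.PGroupFrattini

set_option autoImplicit false
set_option linter.unusedSectionVars false
set_option linter.unusedVariables false

/-! K-4188 leaf A8 (S4188): a finite 2-group without a normal four-group has Frattini index ≤ 4
(≤ 2 if abelian). -/

namespace Cfsg.Agent.Lib.Helper58.AG

open Cfsg.Agent.Lib.Helper06

/-- the "no normal four-group" hypothesis of `caseC` -/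
def NoFour (X : Type*) [Group X] : Prop :=
  ¬ ∃ z u : X, z ≠ 1 ∧ z ^ 2 = 1 ∧ z ∈ Subgroup.center X ∧ u ≠ 1 ∧ u ^ 2 = 1 ∧ u ≠ z ∧
      ∀ s : X, s * u * s⁻¹ = u ∨ s * u * s⁻¹ = u * z

/-- without a normal four-group every normal abelian subgroup of a finite 2-group is cyclic -/
theorem a8_isCyclic_of_normal_comm {X : Type*} [Group X] [Finite X] (hX : IsPGroup 2 X)
    (h : NoFour X) (A : Subgroup X) [hAn : A.Normal]
    (hA : ∀ a ∈ A, ∀ b ∈ A, a * b = b * a) : IsCyclic A := by
  classical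
  by_cases hbot : A = ⊥
  · subst hbot
    infer_instance
  obtain ⟨z, hzA, hz1, hz2, hzc⟩ := exists_central_invol_mem_normal hX A hbot
  letI : CommGroup A :=
    { (inferInstance : Group A) with
      mul_comm := fun a b => Subtype.ext (hA a.1 a.2 b.1 b.2) }
  have hAp : IsPGroup 2 A := hX.to_subgroup A
  apply isCyclic_of_unique_invol hAp (⟨z, hzA⟩ : A)
  intro w hw
  by_contra hcon
  push Not at hcon
  obtain ⟨hw1, hwz⟩ := hcon
  have hw2 : (w : X) ^ 2 = 1 := by
    have := congrArg Subtype.val hw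
    simpa using this
  have hw1' : (w : X) ≠ 1 := fun hh => hw1 (Subtype.ext hh)
  have hwz' : (w : X) ≠ z := fun hh => hwz (Subtype.ext hh)
  -- Ω = {a ∈ A | a^2 = 1}
  let Ω : Subgroup X :=
    { carrier := {a | a ∈ A ∧ a ^ 2 = 1}
      one_mem' := ⟨A.one_mem, one_pow 2⟩
      mul_mem' := by
        rintro a b ⟨ha, ha2⟩ ⟨hb, hb2⟩
        refine ⟨A.mul_mem ha hb, ?_⟩
        have hc : Commute a b := hA a ha b hb
        rw [hc.mul_pow, ha2, hb2, one_mul]
      inv_mem' := by
        rintro a ⟨ha, ha2⟩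
        exact ⟨A.inv_mem ha, by rw [inv_pow, ha2, inv_one]⟩ }
  have hΩn : Ω.Normal := by
    constructor
    rintro a ⟨ha, ha2⟩ g
    refine ⟨hAn.conj_mem a ha g, ?_⟩
    rw [conj_pow, ha2, mul_one, mul_inv_cancel]
  have hwΩ : (w : X) ∈ Ω := ⟨w.2, hw2⟩
  obtain ⟨u, huΩ, hu1, huz, hconj⟩ :=
    normal_four_of_elemAb hX Ω z (w : X) hz1 hz2 hzc hwΩ hw1' hwz'
  exact h ⟨z, u, hz1, hz2, hzc, hu1, huΩ.2, huz, hconj⟩

/-- a cyclic finite 2-group has Frattini index at most 2 -/
theorem a8_index_le_two_of_isCyclic {X : Type*} [Group X] [Finite X] (hX : IsPGroup 2 X)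
    (hc : IsCyclic X) : (frattini X).index ≤ 2 := by
  haveI : Fact (Nat.Prime 2) := ⟨Nat.prime_two⟩
  obtain ⟨g, hg⟩ := hc.exists_generator
  rw [Subgroup.index_eq_card]
  have hgen : ∀ y : X ⧸ frattini X, y ∈ Subgroup.zpowers (QuotientGroup.mk g : X ⧸ frattini X) := by
    intro y
    obtain ⟨x, rfl⟩ := QuotientGroup.mk_surjective y
    obtain ⟨k, hk⟩ := Subgroup.mem_zpowers_iff.mp (hg x)
    rw [Subgroup.mem_zpowers_iff]
    exact ⟨k, by rw [← hk, QuotientGroup.mk_zpow]⟩
  rw [← orderOf_eq_card_of_forall_mem_zpowers hgen]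
  have h2 : (QuotientGroup.mk g : X ⧸ frattini X) ^ 2 = 1 := by
    rw [← QuotientGroup.mk_pow, QuotientGroup.eq_one_iff]
    exact Cfsg.Agent.Lib.Helper03.pow_mem_frattini_of_isPGroup hX g
  exact Nat.le_of_dvd (by norm_num) (orderOf_dvd_of_pow_eq_one h2)

/-- existence of a maximal normal abelian subgroup -/
theorem a8_exists_max_normal_abelian {G : Type*} [Group G] [Finite G] :
    ∃ A : Subgroup G, A.Normal ∧ (∀ a ∈ A, ∀ b ∈ A, a * b = b * a) ∧
      ∀ B : Subgroup G, B.Normal → (∀ a ∈ B, ∀ b ∈ B, a * b = b * a) → A ≤ B → B = A := by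
  have hfin : (Set.univ : Set (Subgroup G)).Finite := Set.finite_univ
  obtain ⟨A, hA⟩ := Set.Finite.exists_maximal
    (s := {A : Subgroup G | A.Normal ∧ ∀ a ∈ A, ∀ b ∈ A, a * b = b * a})
    (hfin.subset (Set.subset_univ _))
    ⟨⊥, inferInstance, by
      intro a ha b hb
      rw [Subgroup.mem_bot] at ha hb
      rw [ha, hb]⟩
  refine ⟨A, hA.prop.1, hA.prop.2, ?_⟩
  intro B hBn hBc hAB
  exact le_antisymm (hA.le_of_ge ⟨hBn, hBc⟩ hAB) hAB

theorem caseC {X : Type*} [Group X] [Finite X] (hX : IsPGroup 2 X)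
    (h : ¬ ∃ z u : X, z ≠ 1 ∧ z ^ 2 = 1 ∧ z ∈ Subgroup.center X ∧ u ≠ 1 ∧ u ^ 2 = 1 ∧ u ≠ z ∧
      ∀ s : X, s * u * s⁻¹ = u ∨ s * u * s⁻¹ = u * z) :
    (frattini X).index ≤ 4 ∧ ((∀ a b : X, a * b = b * a) → (frattini X).index ≤ 2) := by
  classical
  haveI : Fact (Nat.Prime 2) := ⟨Nat.prime_two⟩
  have habel : (∀ a b : X, a * b = b * a) → (frattini X).index ≤ 2 := by
    intro hab
    have h1 : IsCyclic (⊤ : Subgroup X) :=
      a8_isCyclic_of_normal_comm hX h ⊤ (fun a _ b _ => hab a b)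
    have h2 : IsCyclic X :=
      isCyclic_of_surjective (Subgroup.topEquiv : (⊤ : Subgroup X) ≃* X)
        (Subgroup.topEquiv : (⊤ : Subgroup X) ≃* X).surjective
    exact a8_index_le_two_of_isCyclic hX h2
  refine ⟨?_, habel⟩
  by_cases hab : ∀ a b : X, a * b = b * a
  · exact (habel hab).trans (by norm_num)
  -- non-abelian case
  have hna : ¬ IsMulCommutative X := by
    intro hc
    exact hab (fun a b => hc.is_comm.comm a b)
  obtain ⟨A, hAn, hAc, hAmax⟩ := a8_exists_max_normal_abelian (G := X)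
  haveI := hAn
  have hAc' : IsMulCommutative A := ⟨⟨fun a b => Subtype.ext (hAc a.1 a.2 b.1 b.2)⟩⟩
  have hCle : Subgroup.centralizer (A : Set X) ≤ A := by
    apply centralizer_le_of_max_normal_abelian hX A hAn hAc'
    intro B hBn hBc hAB
    apply hAmax B hBn _ hAB
    intro a ha b hb
    have := hBc.is_comm.comm (⟨a, ha⟩ : B) ⟨b, hb⟩
    exact congrArg Subtype.val this
  have hC : Subgroup.centralizer (A : Set X) = A := by
    apply le_antisymm hCle
    intro a ha
    rw [Subgroup.mem_centralizer_iff]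
    intro b hb
    exact hAc b hb a ha
  have hAcyc : IsCyclic A := a8_isCyclic_of_normal_comm hX h A hAc
  obtain ⟨n, hn⟩ := (hX.to_subgroup A).exists_card_eq
  rcases Cfsg.Agent.Lib.Helper59.csc_main hX hna A hAcyc n hn hC with ⟨-, hcard, -⟩ | ⟨-, hE, hEcard, hEchar⟩
  · -- index 2: two generators
    obtain ⟨⟨a, haA⟩, hgen⟩ := hAcyc.exists_generator
    have hAz : A = Subgroup.zpowers a := by
      apply le_antisymm
      · intro x hx
        obtain ⟨i, hi⟩ := Subgroup.mem_zpowers_iff.mp (hgen ⟨x, hx⟩)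
        rw [Subgroup.mem_zpowers_iff]
        refine ⟨i, ?_⟩
        have := congrArg Subtype.val hi
        simpa using this
      · rw [Subgroup.zpowers_le]; exact haA
    obtain ⟨x, hx⟩ : ∃ x : X, x ∉ A := by
      by_contra hall
      push Not at hall
      exact hab (fun a b => hAc a (hall a) b (hall b))
    have hsup : Subgroup.zpowers a ⊔ Subgroup.zpowers x = ⊤ := by
      rw [← hAz]
      set B := A ⊔ Subgroup.zpowers x with hB
      have hAB : A ≤ B := le_sup_left
      have hlt : A < B := by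
        refine lt_of_le_of_ne hAB ?_
        intro heq
        apply hx
        rw [heq]
        exact (le_sup_right : Subgroup.zpowers x ≤ B) (Subgroup.mem_zpowers x)
      obtain ⟨m, hm⟩ := (hX.to_subgroup B).exists_card_eq
      have hdvd : Nat.card B ∣ Nat.card X := Subgroup.card_subgroup_dvd_card B
      have hlt' : Nat.card A < Nat.card B := by
        by_contra hge
        push Not at hge
        exact hlt.ne (Subgroup.eq_of_le_of_card_ge hAB hge)
      rw [hn, hm] at hlt'
      rw [hm, hcard] at hdvd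
      have hmn : n < m := (Nat.pow_lt_pow_iff_right (by norm_num)).mp hlt'
      have hmn' : m ≤ n + 1 := (Nat.pow_dvd_pow_iff_le_right (by norm_num)).mp hdvd
      have hmeq : m = n + 1 := by omega
      apply Subgroup.eq_top_of_card_eq
      rw [hm, hcard, hmeq]
    have := Cfsg.Agent.Lib.Helper42.Meta2.card_frattini_quotient_le hX a x hsup
    rw [Subgroup.index_eq_card]
    exact this
  · -- a characteristic elementary abelian subgroup of order 4: contradiction
    exfalso
    set E := Cfsg.omegaOne 2 (Subgroup.centralizer (Cfsg.powerClosure 2 1 A : Set X)) with hEdef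
    have : E.Characteristic := hEchar
    have hEn : E.Normal := inferInstance
    have hEcomm : ∀ a ∈ E, ∀ b ∈ E, a * b = b * a := by
      intro a ha b hb
      have := hE.1.is_comm.comm (⟨a, ha⟩ : E) ⟨b, hb⟩
      exact congrArg Subtype.val this
    have hEcyc : IsCyclic E := a8_isCyclic_of_normal_comm hX h E hEcomm
    obtain ⟨g, hg⟩ := IsCyclic.exists_generator (α := E)
    have h1 : orderOf g = Nat.card E := orderOf_eq_card_of_forall_mem_zpowers hg
    have h2 : g ^ 2 = 1 := Subtype.ext (by simpa using hE.2 g g.2)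
    have h3 := Nat.le_of_dvd (by norm_num) (orderOf_dvd_of_pow_eq_one h2)
    rw [h1, hEcard] at h3
    norm_num at h3

end Cfsg.Agent.Lib.Helper58.AG
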