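import Mathlib
import Cfsg.Agent.Lib.Helper71.BG1366Defs
import Cfsg.Agent.Lib.Helper15.BG142Defs
import Cfsg.Agent.Lib.Helper55.Basic
import Cfsg.Agent.Lib.Helper31.BG147Glue
import Cfsg.Agent.Lib.Helper31.BG12a
import Cfsg.Agent.Lib.Helper57.BG142D4
import Cfsg.Agent.Lib.Helper13.BG12B
import Cfsg.Agent.Lib.Helper54.BG134A3a
import Cfsg.Agent.S1350
import Cfsg.Agent.S1415
import Cfsg.Agent.S1429

/-!
# K-1366-L (keystone 136613) `partner_abelian`: `K` and `K*` are abelian (kill of the nonregular case)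
-/

set_option autoImplicit false
set_option linter.unusedVariables false
set_option linter.unusedSectionVars false

namespace Cfsg.Agent.Lib.Helper58.BG1366

open Cfsg Subgroup Cfsg.Agent.Lib.Helper55 Cfsg.Agent.Lib.Helper11.BG14D Cfsg.Agent.Lib.Helper11.BG144
  Cfsg.Agent.Lib.Helper31.BG147 Cfsg.Agent.Lib.Helper71.BG1366

variable {G : Type*} [Group G] [Finite G]

/-- (a) a `P`-pair with nonabelian `K` is of type `P₁` (by Lemma D = `HD`). -/
theorem isP1_of_not_comm (hG : IsMinSimpleOddOrder G) (hD : Cfsg.Agent.Lib.Helper15.BG142.HD G)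
    {M K : Subgroup G} (hp : PPair M K) (hnc : ¬ ∀ a ∈ K, ∀ b ∈ K, a * b = b * a) : IsP1 M := by
  have hM := hp.coatom
  have hHall := (Cfsg.Agent.S1350.result hG M hM).1
  have hKM : K ≤ M := hp.hall.1
  have hKσ : ∀ p : ℕ, p.Prime → p ∣ Nat.card K → p ∉ sigma M :=
    fun p hpp hpd => (hp.hall.2.1 p hpp hpd).2.2.1
  obtain ⟨E, hE, hKE⟩ := Cfsg.Agent.Lib.Helper13.BG12.exists_complIn_ge hG hM hHall hKM hKσ
  by_cases hτ : ∀ p : ℕ, p ∈ kappa M → p ∈ tau1 M
  · exfalso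
    apply hnc
    have hsM : Group.IsSolvable ↥M := Cfsg.Agent.Lib.Helper55.ms_solvable hG hM.1
    have hsE : Group.IsSolvable ↥E :=
      solvable_of_solvable_injective (Subgroup.inclusion_injective hE.1)
    obtain ⟨E₁, hE₁, hKE₁⟩ := Cfsg.Agent.Lib.Helper54.BG134.exists_isPiHallOf_ge hsE (tau1 M) hKE
      (fun p hpp hpd => hτ p (hp.hall.2.1 p hpp hpd))
    have hcyc : IsCyclic ↥E₁ := (Cfsg.Agent.S1415.result hG M hM E hE).2.1 E₁ hE₁
    intro a ha b hb
    have := (IsCyclic.commGroup (α := ↥E₁)).mul_comm ⟨a, hKE₁ ha⟩ ⟨b, hKE₁ hb⟩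
    exact congrArg Subtype.val this
  · obtain ⟨hκ, -, -⟩ := hD M E hM hE hτ
    intro q hq hqM
    have hcard := Cfsg.Agent.Lib.Helper31.IsComplIn.card_mul hE
    rw [← hcard] at hqM
    rcases (Nat.Prime.dvd_mul hq).mp hqM with h | h
    · exact Or.inr (hκ q hq h)
    · exact Or.inl (Cfsg.Agent.Lib.Helper71.BG11.sigmaCore_pi hG hM hq h)

/-- (b) if `M_σ` contains a nonabelian subgroup all of whose Sylow subgroups are cyclic
(a `κ(Mst)`-subgroup of another maximal subgroup), then `M` is of type `P₁`. -/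
theorem isP1_of_sub_sigmaCore_not_comm (hG : IsMinSimpleOddOrder G) {M Y Mst : Subgroup G}
    (hM : IsCoatom M) (hYσ : Y ≤ sigmaCore M) (hMst : IsCoatom Mst) (hYMst : Y ≤ Mst)
    (hYκ : ∀ p : ℕ, p.Prime → p ∣ Nat.card Y → p ∈ kappa Mst)
    (hnc : ¬ ∀ a ∈ Y, ∀ b ∈ Y, a * b = b * a) : IsP1 M := by
  by_contra hnp
  unfold IsP1 at hnp
  push_neg at hnp
  obtain ⟨q, hq, hqM, hqσ, hqκ⟩ := hnp
  haveI : Fact q.Prime := ⟨hq⟩
  have hP1 : ¬ (∀ r : ℕ, r.Prime → r ∣ Nat.card M → r ∉ sigma M → r ∈ kappa M) :=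
    fun h => hqκ (h q hq hqM hqσ)
  have hnil : Group.IsNilpotent ↥(sigmaCore M) :=
    (Cfsg.Agent.S1429.result hG M hM hP1 q hqM
      (fun h => h.elim hqσ hqκ) (default : Sylow q M)).2.2
  have hnilY : Group.IsNilpotent ↥Y := by
    haveI := hnil
    exact nilpotent_of_mulEquiv (Subgroup.subgroupOfEquivOfLe hYσ)
  haveI hZ : IsZGroup ↥Y := by
    refine ⟨fun p hpp P => ?_⟩
    haveI : Fact p.Prime := ⟨hpp⟩
    by_cases hpd : p ∣ Nat.card Y
    · exact (Cfsg.Agent.Lib.Helper57.BG142.kappa_facts hMst (hYκ p hpp hpd)).2.2 Y hYMst P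
    · have hc : Nat.card (P : Subgroup ↥Y) = 1 := by
        rw [Sylow.card_eq_multiplicity, Nat.factorization_eq_zero_of_not_dvd hpd, pow_zero]
      haveI : Subsingleton (P : Subgroup ↥Y) := (Nat.card_eq_one_iff_unique.mp hc).1
      exact isCyclic_of_subsingleton
  haveI := hnilY
  have hcyc : IsCyclic ↥Y := inferInstance
  apply hnc
  intro a ha b hb
  have := (IsCyclic.commGroup (α := ↥Y)).mul_comm ⟨a, ha⟩ ⟨b, hb⟩
  exact congrArg Subtype.val this

/-- KEYSTONE 136613  K-1366-L  `partner_abelian`. -/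
theorem partner_abelian (hG : IsMinSimpleOddOrder G) (h30 : H1430 G) (h31 : H1431 G)
    (hD : Cfsg.Agent.Lib.Helper15.BG142.HD G) {M K Mstar : Subgroup G} (hp : PPair M K) (hMstar : IsCoatom Mstar)
    (hKst : K = sigmaCore Mstar ⊓ centralizer ((Ks M K : Subgroup G) : Set G))
    (hKstH : IsPiHallOf (kappa Mstar) (Ks M K) Mstar)
    (hFalse : ∀ (Z : Subgroup G) (F : Set (Subgroup G × Subgroup G)), PFam Z F →
      (∃ p ∈ F, ∃ q ∈ F, p ≠ q) → False) :
    (∀ a ∈ K, ∀ b ∈ K, a * b = b * a) ∧ (∀ a ∈ Ks M K, ∀ b ∈ Ks M K, a * b = b * a) := by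
  have hM := hp.coatom
  have hKs1 : Ks M K ≠ ⊥ := Ks_ne_bot hG h30 hM hp.hall hp.ne
  have hps : PPair Mstar (Ks M K) := ⟨hMstar, hKstH, hKs1⟩
  have hKsK : Ks Mstar (Ks M K) = K := hKst.symm
  have hKσs : K ≤ sigmaCore Mstar := by
    rw [hKst]; exact inf_le_left
  -- `Mstar` is not conjugate to `M`
  obtain ⟨p, hpp, hpK⟩ : ∃ p : ℕ, p.Prime ∧ p ∣ Nat.card K := by
    have hc : Nat.card K ≠ 1 := fun h => hp.ne ((Subgroup.card_eq_one).mp h)
    exact ⟨_, Nat.minFac_prime hc, Nat.minFac_dvd _⟩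
  have hpκ : p ∈ kappa M := hp.hall.2.1 p hpp hpK
  have hpσs : p ∈ sigma Mstar :=
    Cfsg.Agent.Lib.Helper71.BG11.sigmaCore_pi hG hMstar hpp
      (hpK.trans (Subgroup.card_dvd_of_le hKσs))
  have hnc1 : ∀ g : G, M ≠ Cfsg.Agent.Lib.Helper11.BG144.cj g Mstar := by
    intro g hg
    haveI : Fact p.Prime := ⟨hpp⟩
    have := Cfsg.Agent.Lib.Helper31.BG12.mem_sigma_cj hpσs g
    have hg' : M = Cfsg.Agent.Lib.Helper55.cj g Mstar := hg
    rw [← hg'] at this
    exact hpκ.2.2.1 this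
  have hnc2 : ∀ g : G, Mstar ≠ Cfsg.Agent.Lib.Helper11.BG144.cj g M := by
    intro g hg
    apply hnc1 g⁻¹
    rw [hg]
    ext x
    simp only [Cfsg.Agent.Lib.Helper55.mem_cj]
    constructor
    · intro hx
      simpa [mul_assoc] using hx
    · intro hx
      simpa [mul_assoc] using hx
  by_contra hcon
  -- both are of type `P₁`
  have hboth : IsP1 M ∧ IsP1 Mstar := by
    by_cases hK : ∀ a ∈ K, ∀ b ∈ K, a * b = b * a
    · have hKs : ¬ ∀ a ∈ Ks M K, ∀ b ∈ Ks M K, a * b = b * a := fun h => hcon ⟨hK, h⟩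
      refine ⟨?_, isP1_of_not_comm hG hD hps hKs⟩
      exact isP1_of_sub_sigmaCore_not_comm hG hM inf_le_left hMstar hKstH.1 hKstH.2.1 hKs
    · refine ⟨isP1_of_not_comm hG hD hp hK, ?_⟩
      exact isP1_of_sub_sigmaCore_not_comm hG hMstar hKσs hM hp.hall.1 hp.hall.2.1 hK
  -- the family
  have hne : ((M, K) : Subgroup G × Subgroup G) ≠ (Mstar, Ks M K) := by
    intro h
    have h1 : M = Mstar := congrArg Prod.fst h
    apply hnc2 1
    rw [← h1]
    ext x
    simp [Cfsg.Agent.Lib.Helper55.mem_cj]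
  refine hFalse (K ⊔ Ks M K) {(M, K), (Mstar, Ks M K)} ⟨?_, ?_, ?_⟩
    ⟨(M, K), by simp, (Mstar, Ks M K), by simp, hne⟩
  · -- mem
    intro a ha
    rcases ha with rfl | ha
    · exact ⟨hp, rfl, hboth.1⟩
    · rw [Set.mem_singleton_iff] at ha
      subst ha
      refine ⟨hps, ?_, hboth.2⟩
      show Ks M K ⊔ Ks Mstar (Ks M K) = K ⊔ Ks M K
      rw [hKsK, sup_comm]
  · -- nc
    intro a ha b hb hab g
    rcases ha with rfl | ha
    · rcases hb with rfl | hb
      · exact absurd rfl hab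
      · rw [Set.mem_singleton_iff] at hb
        subst hb
        exact hnc2 g
    · rw [Set.mem_singleton_iff] at ha
      subst ha
      rcases hb with rfl | hb
      · exact hnc1 g
      · rw [Set.mem_singleton_iff] at hb
        subst hb
        exact absurd rfl hab
  · -- cover
    intro r hr hrZ
    have hcent : Ks M K ≤ centralizer (K : Set G) := inf_le_right
    have hcard : Nat.card ↥(K ⊔ Ks M K) = Nat.card K * Nat.card (Ks M K) :=
      Cfsg.Agent.Lib.Helper28.BG147.card_sup_of_commute hcent (inf_Ks hG hM hp.hall)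
    rw [hcard] at hrZ
    rcases (Nat.Prime.dvd_mul hr).mp hrZ with h | h
    · refine ⟨(Mstar, Ks M K), by simp, ?_⟩
      show r ∣ Nat.card (Ks Mstar (Ks M K))
      rw [hKsK]; exact h
    · exact ⟨(M, K), by simp, h⟩

end Cfsg.Agent.Lib.Helper58.BG1366
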