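import Mathlib
import Cfsg.Agent.Lib.Helper55.CoprimeGen
import Cfsg.Agent.Lib.Helper03.FrobSub
import Cfsg.Agent.Lib.Helper90.BG14DW1

/-!
# S1376 (BG 15.8), pure leaf L-W (helper12's short proof, steps 4-6)

A `k`-group `Qk` normalized by `C` and by an element `y0` of prime order `ℓ ∤ |C|` normalizing `C`,
where the fixed points of `y0` on `C` and on `Qk` lie in a `k`-group `K` centralized by `C`:
every element of `C` of prime order `q ≠ k` centralizes `Qk` (Frobenius–Wielandt formula).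
-/

set_option autoImplicit false

namespace Cfsg.Agent.Lib.Helper58.BG1376

open Subgroup

variable {G : Type*} [Group G] [Finite G]

/-- two groups of coprime prime-power order meet trivially (element version) -/
theorem eq_one_of_mem_pgroups {k q : ℕ} (hk : k.Prime) (hq : q.Prime) (hqk : q ≠ k)
    {B K : Subgroup G} (hB : IsPGroup q B) (hK : IsPGroup k K) {u : G} (huB : u ∈ B)
    (huK : u ∈ K) : u = 1 := by
  obtain ⟨m, hm⟩ := hB ⟨u, huB⟩
  obtain ⟨n, hn⟩ := hK ⟨u, huK⟩
  have hm' : u ^ q ^ m = 1 := by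
    have := congrArg Subtype.val hm
    simpa using this
  have hn' : u ^ k ^ n = 1 := by
    have := congrArg Subtype.val hn
    simpa using this
  have h1 : orderOf u ∣ q ^ m := orderOf_dvd_of_pow_eq_one hm'
  have h2 : orderOf u ∣ k ^ n := orderOf_dvd_of_pow_eq_one hn'
  have hcop : Nat.Coprime (q ^ m) (k ^ n) :=
    Nat.Coprime.pow _ _ ((Nat.coprime_primes hq hk).mpr hqk)
  have h3 := Nat.dvd_gcd h1 h2
  rw [hcop] at h3
  exact orderOf_eq_one_iff.mp (Nat.dvd_one.mp h3)

/-- **L-W**: the Frobenius–Wielandt step of helper12's proof of `τ₂(M) = ∅` in BG 15.8. -/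
theorem mem_centralizer_of_wielandt {k ℓ q : ℕ} (hk : k.Prime) (hℓ : ℓ.Prime) (hq : q.Prime)
    (Qk C K : Subgroup G) (y0 : G)
    (hQk : IsPGroup k Qk)
    (hCQ : C ≤ normalizer (Qk : Set G))
    (hyQ : y0 ∈ normalizer (Qk : Set G))
    (hyC : y0 ∈ normalizer (C : Set G))
    (hy : orderOf y0 = ℓ)
    (hℓC : ¬ ℓ ∣ Nat.card C)
    (hℓk : ℓ ≠ k)
    (hCK : C ≤ centralizer (K : Set G))
    (hfixC : ∀ c ∈ C, y0 * c = c * y0 → c ∈ K)
    (hfixQ : ∀ z ∈ Qk, y0 * z = z * y0 → z ∈ K)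
    (hK : IsPGroup k K)
    {a : G} (ha : a ∈ C) (hqa : orderOf a = q) (hqk : q ≠ k) :
    a ∈ centralizer (Qk : Set G) := by
  classical
  haveI : Fact ℓ.Prime := ⟨hℓ⟩
  haveI : Fact q.Prime := ⟨hq⟩
  haveI : Fact k.Prime := ⟨hk⟩
  -- the group `Y = ⟨y0⟩`
  set Y : Subgroup G := zpowers y0 with hYdef
  have hYcard : Nat.card Y = ℓ := by rw [hYdef, Nat.card_zpowers, hy]
  have hYp : IsPGroup ℓ Y := IsPGroup.of_card (n := 1) (by rw [hYcard, pow_one])
  have hYC : Y ≤ normalizer (C : Set G) := (zpowers_le).mpr hyC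
  have hYQ : Y ≤ normalizer (Qk : Set G) := (zpowers_le).mpr hyQ
  have hcopC : (Nat.card C).Coprime ℓ := ((Nat.Prime.coprime_iff_not_dvd hℓ).mpr hℓC).symm
  -- a `Y`-invariant Sylow `q`-subgroup `B` of `C`
  obtain ⟨B, hB, hYB⟩ :=
    Cfsg.Agent.Lib.Helper55.exists_invariant_isSylowIn (p := ℓ) hYp hYC hcopC q
  have hBC : B ≤ C := hB.1
  have hBq : IsPGroup q B := hB.2.1
  -- `a` is conjugate into `B` under `C`
  have hZaC : zpowers a ≤ C := (zpowers_le).mpr ha
  have hZaq : IsPGroup q (zpowers a) :=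
    IsPGroup.of_card (n := 1) (by rw [Nat.card_zpowers, hqa, pow_one])
  obtain ⟨c, hcC, hcle⟩ := hB.exists_conj_le hZaC hZaq
  have hbB : c * a * c⁻¹ ∈ B :=
    hcle (Cfsg.Agent.Lib.Helper55.conj_mem_cj (mem_zpowers a))
  -- `y0` generates `Y`; commuting with a nontrivial element of `Y` means commuting with `y0`
  have hcomm_y0 : ∀ e ∈ Y, e ≠ 1 → ∀ u : G, e * u = u * e → y0 * u = u * y0 := by
    intro e he he1 u hu
    have hy0 : (⟨y0, mem_zpowers y0⟩ : Y) ∈ zpowers (⟨e, he⟩ : Y) := by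
      haveI : Fact (Nat.card Y).Prime := ⟨by rw [hYcard]; exact hℓ⟩
      apply mem_zpowers_of_prime_card (G := Y) (p := Nat.card Y) rfl
      intro h
      exact he1 (congrArg Subtype.val h)
    obtain ⟨n, hn⟩ := mem_zpowers_iff.mp hy0
    have hn' : e ^ n = y0 := by
      have := congrArg Subtype.val hn
      simpa using this
    have hc : Commute e u := hu
    have := (hc.zpow_left n).eq
    rw [hn'] at this
    exact this
  -- `B ∩ Y = 1`
  have hBY0 : B ⊓ Y = ⊥ := by
    rw [eq_bot_iff]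
    intro u hu
    rw [mem_bot]
    have hℓq : ℓ ≠ q := by
      intro h
      apply hℓC
      rw [h, ← hqa]
      have := orderOf_dvd_natCard (⟨a, ha⟩ : ↥C)
      rwa [Subgroup.orderOf_mk] at this
    exact eq_one_of_mem_pgroups hℓ hq hℓq.symm hBq hYp hu.1 hu.2
  -- hypotheses of the Frobenius–Wielandt formula
  have hUn : ∀ e ∈ Y, ∀ u ∈ B, e * u * e⁻¹ ∈ B := fun e he u hu =>
    (mem_normalizer_iff.mp (hYB he) u).mp hu
  have hfpf : ∀ e ∈ Y, e ≠ 1 → ∀ u ∈ B, e * u = u * e → u = 1 := by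
    intro e he he1 u hu hcomm
    have h1 : u ∈ K := hfixC u (hBC hu) (hcomm_y0 e he he1 u hcomm)
    exact eq_one_of_mem_pgroups hk hq hqk hBq hK hu h1
  have hnil : Group.IsNilpotent B := hBq.isNilpotent
  have hBQ : B ≤ normalizer (Qk : Set G) := hBC.trans hCQ
  have hHn : ∀ x ∈ B ⊔ Y, ∀ h ∈ Qk, x * h * x⁻¹ ∈ Qk := by
    intro x hx h hh
    exact (mem_normalizer_iff.mp ((sup_le hBQ hYQ) hx) h).mp hh
  have hsolv : Group.IsSolvable Qk := by
    have : Group.IsNilpotent Qk := hQk.isNilpotent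
    infer_instance
  have hcardBY : Nat.card ↥(B ⊔ Y) = Nat.card B * Nat.card Y :=
    Cfsg.Agent.Lib.Helper90.BG14D.card_sup_of_le_normalizer hYB hBY0
  have hcop : Nat.Coprime (Nat.card Qk) (Nat.card ↥(B ⊔ Y)) := by
    obtain ⟨m, hm⟩ := (IsPGroup.iff_card.mp hQk)
    obtain ⟨n, hn⟩ := (IsPGroup.iff_card.mp hBq)
    rw [hcardBY, hm, hn, hYcard]
    apply Nat.Coprime.mul_right
    · exact Nat.Coprime.pow _ _ ((Nat.coprime_primes hk hq).mpr hqk.symm)
    · exact Nat.Coprime.pow_left _ ((Nat.coprime_primes hk hℓ).mpr hℓk.symm)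
  have hW := Cfsg.Agent.Lib.Helper03.FrobSub.wielandt_sub B Y Qk hUn hfpf hnil hHn hsolv hcop
  -- the two fixed point groups coincide
  have hDeq : Qk ⊓ centralizer ((B ⊔ Y : Subgroup G) : Set G) = Qk ⊓ centralizer (Y : Set G) := by
    apply le_antisymm
    · exact inf_le_inf_left _ (centralizer_le (by
        intro x hx; exact (le_sup_right : Y ≤ B ⊔ Y) hx))
    · intro z hz
      refine ⟨hz.1, ?_⟩
      have hzY : z ∈ centralizer (Y : Set G) := hz.2
      have hzy0 : y0 * z = z * y0 := (mem_centralizer_iff.mp hzY) y0 (mem_zpowers y0)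
      have hzK : z ∈ K := hfixQ z hz.1 hzy0
      -- `z` centralizes `B` (as `B ≤ C ≤ C(K)`) and `Y`
      have hle : B ⊔ Y ≤ centralizer ({z} : Set G) := by
        apply sup_le
        · intro u hu
          rw [mem_centralizer_iff]
          intro g hg
          rw [Set.mem_singleton_iff] at hg
          subst hg
          have := (mem_centralizer_iff.mp (hCK (hBC hu))) g hzK
          exact this
        · intro u hu
          rw [mem_centralizer_iff]
          intro g hg
          rw [Set.mem_singleton_iff] at hg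
          subst hg
          exact ((mem_centralizer_iff.mp hzY) u hu).symm
      show z ∈ centralizer ((B ⊔ Y : Subgroup G) : Set G)
      rw [mem_centralizer_iff]
      intro g hg
      have := (mem_centralizer_iff.mp (hle hg)) z (Set.mem_singleton z)
      exact this.symm
  rw [hDeq] at hW
  have hpos : 0 < Nat.card ↥(Qk ⊓ centralizer (Y : Set G)) ^ Nat.card Y :=
    pow_pos Nat.card_pos _
  have hcardeq : Nat.card Qk = Nat.card ↥(Qk ⊓ centralizer (B : Set G)) :=
    Nat.eq_of_mul_eq_mul_left hpos hW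
  have heq : Qk ⊓ centralizer (B : Set G) = Qk :=
    Subgroup.eq_of_le_of_card_ge inf_le_left (le_of_eq hcardeq)
  have hQB : Qk ≤ centralizer (B : Set G) := by
    rw [← heq]; exact inf_le_right
  -- conclude for `a`
  rw [mem_centralizer_iff]
  intro h hh
  have hh' : c * h * c⁻¹ ∈ Qk := (mem_normalizer_iff.mp (hCQ hcC) h).mp hh
  have h1 := (mem_centralizer_iff.mp (hQB hh')) (c * a * c⁻¹) hbB
  -- h1 : (c a c⁻¹) * (c h c⁻¹) = (c h c⁻¹) * (c a c⁻¹)
  have h2 : c * (a * h) * c⁻¹ = c * (h * a) * c⁻¹ := by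
    calc c * (a * h) * c⁻¹ = (c * a * c⁻¹) * (c * h * c⁻¹) := by group
      _ = (c * h * c⁻¹) * (c * a * c⁻¹) := h1
      _ = c * (h * a) * c⁻¹ := by group
  have h3 : a * h = h * a := by
    have := mul_left_cancel (mul_right_cancel h2)
    exact this
  exact h3.symm

end Cfsg.Agent.Lib.Helper58.BG1376
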