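import Mathlib
import Cfsg.Agent.Lib.Helper58.BG1376AK
import Cfsg.Agent.Lib.Helper58.BG1376LW
import Cfsg.Agent.Lib.Helper01.BG1376B
import Cfsg.Agent.Lib.Helper40.BG1435P13a
import Cfsg.Agent.Lib.Helper30.Generation
import Cfsg.Agent.Lib.Helper60.BG151A
import Cfsg.Agent.Lib.Helper71.BG1381E1
import Cfsg.Agent.Lib.Helper71.BG11b
import Cfsg.Agent.Lib.Helper31.FittingHall
import Cfsg.Agent.S1351
import Cfsg.Agent.S1352
import Cfsg.Agent.S1417
import Cfsg.Agent.S1430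
import Cfsg.Agent.S1432

/-!
# S1376 (BG 15.8): leaves L-Q and L-T of helper12's short proof, and `τ₂(M) = ∅` on `Conf`

* `Conf.exists_normal_sylow` (L-Q): the normal Sylow `|K|`-subgroup `Q_k` of `N*`.
* `Conf.not_mem_tau2_of_ne` (L-T): `q ∈ τ₂(M)`, `q ≠ |K|` is impossible.
* `Conf.tau2_eq_empty`: `τ₂(M) = ∅`.
-/

set_option autoImplicit false

namespace Cfsg.Agent.Lib.Helper58.BG1376

open Cfsg Subgroup Cfsg.Agent.Lib.Helper16.BG1376

variable {G : Type*} [Group G]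

/-- the centralizer of `⟨a⟩` is the centralizer of `a` -/
theorem centralizer_zpowers_eq (a : G) :
    centralizer ((zpowers a : Subgroup G) : Set G) = centralizer ({a} : Set G) := by
  apply le_antisymm
  · apply centralizer_le
    intro y hy
    rw [Set.mem_singleton_iff] at hy
    subst hy
    exact mem_zpowers y
  · intro g hg
    rw [mem_centralizer_iff]
    intro y hy
    obtain ⟨n, rfl⟩ := mem_zpowers_iff.mp hy
    have h1 : a * g = g * a := (mem_centralizer_iff.mp hg) a (Set.mem_singleton a)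
    have hc : Commute a g := h1
    exact (hc.zpow_left n).eq

variable [Finite G]

/-- **L-Q**: the normal Sylow `|K|`-subgroup of `N*`; it contains `K`, lies in `N*_σ` and not in `M`. -/
theorem Conf.exists_normal_sylow (hG : IsMinSimpleOddOrder G) {M N Ns K U : Subgroup G} {x : G}
    (h : Conf M N Ns K U x) :
    ∃ Qk : Subgroup G, Ns ≤ normalizer (Qk : Set G) ∧ IsPGroup (Nat.card K) Qk ∧ K ≤ Qk ∧
      Qk ≤ sigmaCore Ns ∧ ¬ Qk ≤ M := by
  have hkp : (Nat.card K).Prime := Conf.card_K_prime hG h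
  have : Fact (Nat.card K).Prime := ⟨hkp⟩
  have hKs1 : sigmaCore N ⊓ centralizer (K : Set G) ≠ ⊥ :=
    (Cfsg.Agent.S1364.result hG N h.hN K U h.hKU h.hK1).2.1
  have hKscyc : IsCyclic ↥(sigmaCore N ⊓ centralizer (K : Set G)) :=
    (Cfsg.Agent.S1351.result hG Ns h.hNs).2 _ h.hKstH
  obtain ⟨⟨UT, hdec⟩, -⟩ := Cfsg.Agent.S1352.result hG Ns h.hNs _ hKscyc h.hKstH
  have h64 := (Cfsg.Agent.S1364.result hG Ns h.hNs _ UT hdec hKs1).2.2.1
  have hKF : K ≤ fittingHallOf Ns := (le_of_eq h.hKst).trans h64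
  have hFnil : Group.IsNilpotent ↥(fittingHallOf Ns) :=
    Cfsg.Agent.Lib.Helper71.BG1381.isNilpotent_fittingHallOf Ns
  have hKp : IsPGroup (Nat.card K) K := IsPGroup.of_card (n := 1) (by rw [pow_one])
  obtain ⟨Qk, hQk, hKQ⟩ := Cfsg.Agent.Lib.Helper55.exists_isSylowIn_ge hKF hKp
  have hTF : Ns ≤ normalizer (fittingHallOf Ns : Set G) :=
    Cfsg.Agent.Lib.Helper31.le_normalizer_fittingHallOf Ns
  have hTQ : Ns ≤ normalizer (Qk : Set G) :=
    Cfsg.Agent.Lib.Helper71.BG11.sylow_normal_of_nilpotent hFnil hQk hTF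
  have hQF : Qk ≤ fittingHallOf Ns := hQk.1
  have hFσ : fittingHallOf Ns ≤ sigmaCore Ns :=
    Cfsg.Agent.Lib.Helper60.BG151.fittingHallOf_le_sigmaCore hG h.hNs
  have hQσ : Qk ≤ sigmaCore Ns := hQF.trans hFσ
  have hσNs : sigmaCore Ns ≤ Ns := Cfsg.Agent.Lib.Helper71.BG11.sigmaCore_le Ns
  -- `Qk` is a Sylow subgroup of `N*_σ`
  have hSyl : Cfsg.Agent.Lib.Helper55.IsSylowIn (Nat.card K) (sigmaCore Ns) Qk := by
    refine ⟨hQσ, hQk.2.1, ?_⟩
    intro Q' hQ'σ hQ'k hle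
    have hQ'F : Q' ≤ fittingHallOf Ns := by
      have hHallF : IsPiHallOf {p | p ∣ Nat.card (fittingHallOf Ns)} (fittingHallOf Ns) Ns := by
        refine ⟨Cfsg.Agent.Lib.Helper31.fittingHallOf_le Ns, fun p _ hpd => hpd, ?_⟩
        intro p hp hpF hpidx
        have hcop := Cfsg.Agent.Lib.Helper71.BG1381.coprime_fittingHallOf Ns
        have h1 : p ∣ Nat.gcd (Nat.card (fittingHallOf Ns)) ((fittingHallOf Ns).relIndex Ns) :=
          Nat.dvd_gcd hpF hpidx
        rw [hcop] at h1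
        exact hp.one_lt.ne' (Nat.dvd_one.mp h1)
      apply Cfsg.Agent.Lib.Helper71.BG10.le_of_isPiHallOf_normal hHallF hTF (hQ'σ.trans hσNs)
      intro p hp hpd
      obtain ⟨n, hn⟩ := IsPGroup.iff_card.mp hQ'k
      rw [hn] at hpd
      have hpk : p = Nat.card K := (Nat.prime_dvd_prime_iff_eq hp hkp).mp (hp.dvd_of_dvd_pow hpd)
      show p ∣ Nat.card (fittingHallOf Ns)
      rw [hpk]
      exact Subgroup.card_dvd_of_le hKF
    exact hQk.2.2 Q' hQ'F hQ'k hle
  have huniq := Conf.inUniqueMaximal_sylow hG h hSyl.toSylow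
  rw [hSyl.map_toSylow] at huniq
  refine ⟨Qk, hTQ, hQk.2.1, hKQ, hQσ, ?_⟩
  intro hQM
  obtain ⟨L, -, hL⟩ := huniq
  have h1 : M = L := hL M ⟨h.hM, hQM⟩
  have h2 : Ns = L := hL Ns ⟨h.hNs, hQσ.trans hσNs⟩
  exact Conf.ne_partner h (h1.trans h2.symm)

/-- **L-T**: a prime `q ≠ |K|` is not in `τ₂(M)`. -/
theorem Conf.not_mem_tau2_of_ne (hG : IsMinSimpleOddOrder G) {M N Ns K U : Subgroup G} {x : G}
    (h : Conf M N Ns K U x) {q : ℕ} (hq : q ∈ tau2 M) (hqk : q ≠ Nat.card K) : False := by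
  have hqp : q.Prime := hq.1
  have : Fact q.Prime := ⟨hqp⟩
  have hkp : (Nat.card K).Prime := Conf.card_K_prime hG h
  have hHall : IsPiHallOf (sigma M) (sigmaCore M) M := (Cfsg.Agent.S1350.result hG M h.hM).1
  obtain ⟨A, hAE, hAel, hAcard⟩ :=
    Cfsg.Agent.Lib.Helper13.BG12.exists_elemAb_sq_le_compl hG h.hM hHall hq h.hE
  have hAM : A ≤ M := hAE.trans inf_le_left
  have hANs : A ≤ Ns := hAE.trans inf_le_right
  have h18 := Cfsg.Agent.S1418.result hG M h.hM (M ⊓ Ns) h.hE q hq A ⟨hAE, hAel, hAcard⟩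
  have h17 := Cfsg.Agent.S1417.result hG M h.hM q hq A ⟨hAM, hAel, hAcard⟩
  have hnil : Group.IsNilpotent (sigmaCore M) := h17.1
  -- `E` is abelian
  have hEab : ∀ a ∈ M ⊓ Ns, ∀ b ∈ M ⊓ Ns, a * b = b * a :=
    Cfsg.Agent.Lib.Helper01.BG1376B.compl_comm hG h.hM h.hE hnil (h.hUM h.hxU) h.hxp h.hxM
      (fun e he hex => Conf.cent_x_eq_one hG h he hex)
  -- coprime generation: some `a ∈ A` of order `q` has `C_{M_σ}(a) ≠ 1`
  have hσ1 : sigmaCore M ≠ ⊥ := by
    intro hb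
    apply h.hU1
    rw [eq_bot_iff, ← hb]
    exact h.hUM
  obtain ⟨a, haA, hao, hCa⟩ : ∃ a ∈ A, orderOf a = q ∧
      sigmaCore M ⊓ centralizer ((zpowers a : Subgroup G) : Set G) ≠ ⊥ := by
    by_contra hno
    push Not at hno
    apply hσ1
    rw [eq_bot_iff]
    have hAc : ∀ x ∈ A, ∀ y ∈ A, x * y = y * x := fun x hx y hy => by
      have := hAel.1.is_comm.comm (⟨x, hx⟩ : ↥A) ⟨y, hy⟩
      exact congrArg Subtype.val this
    have hAX : A ≤ normalizer (sigmaCore M : Set G) :=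
      hAM.trans (Cfsg.Agent.Lib.Helper71.BG11.le_normalizer_sigmaCore M)
    have hqX : ¬ q ∣ Nat.card (sigmaCore M) := fun hd =>
      hq.2.1 (Cfsg.Agent.Lib.Helper71.BG11.sigmaCore_pi hG h.hM hqp hd)
    apply Cfsg.Agent.Lib.Helper30.coprime_generation q A hAc hAel.2 (le_of_eq hAcard.symm)
      (sigmaCore M) hAX hqX ⊥
    intro B hBA hBidx
    have h1 : Nat.card B * B.relIndex A = Nat.card A := by
      rw [← Subgroup.relIndex_bot_left, ← Subgroup.relIndex_bot_left]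
      exact Subgroup.relIndex_mul_relIndex _ _ _ bot_le hBA
    rw [hBidx, hAcard] at h1
    have hB1 : B ≠ ⊥ := by
      intro hB
      rw [hB, Subgroup.card_bot, one_mul] at h1
      have h2 : q ^ 1 = q ^ 2 := by rw [pow_one]; exact h1
      have := Nat.pow_right_injective hqp.two_le h2
      omega
    obtain ⟨b, hb⟩ := (Subgroup.ne_bot_iff_exists_ne_one).mp hB1
    have hb1 : (b : G) ≠ 1 := fun e => hb (Subtype.ext e)
    have hbo : orderOf (b : G) = q := orderOf_eq_prime (hAel.2 b (hBA b.2)) hb1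
    have hbot := hno (b : G) (hBA b.2) hbo
    rw [← hbot]
    apply inf_le_inf_left
    apply centralizer_le
    intro y hy
    exact (zpowers_le.mpr b.2) hy
  have hX0A : zpowers a ≤ A := zpowers_le.mpr haA
  have hX0card : Nat.card (zpowers a) = q := by rw [Nat.card_zpowers, hao]
  obtain ⟨hCaM, hCauniq⟩ := h18.2.2 (zpowers a) hX0A hX0card hCa
  have hcz := centralizer_zpowers_eq a
  have haE : a ∈ M ⊓ Ns := hAE haA
  have ha1 : a ≠ 1 := by
    intro h1
    rw [h1, orderOf_one] at hao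
    exact hqp.one_lt.ne hao
  have hσNs : sigmaCore Ns ≤ Ns := Cfsg.Agent.Lib.Helper71.BG11.sigmaCore_le Ns
  -- Step 2: `q ∈ σ(N*)`
  have hqσ : q ∈ sigma Ns := by
    by_contra hqσ
    obtain ⟨k0, hk0⟩ := (Subgroup.ne_bot_iff_exists_ne_one).mp h.hK1
    have hk01 : (k0 : G) ≠ 1 := fun e => hk0 (Subtype.ext e)
    have hk0σ : (k0 : G) ∈ sigmaCore Ns := Conf.K_le_sigmaCore h k0.2
    have hak0 : a ∈ Ns ⊓ centralizer ({(k0 : G)} : Set G) := by
      refine ⟨haE.2, ?_⟩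
      show a ∈ centralizer ({(k0 : G)} : Set G)
      rw [mem_centralizer_iff]
      intro g hg
      rw [Set.mem_singleton_iff] at hg
      subst hg
      exact hEab (k0 : G) (Conf.K_le h k0.2) a haE
    have h32 := Cfsg.Agent.S1432.result hG Ns h.hNs (k0 : G) hk0σ hk01 a hak0 ha1 (by
      intro p hp hpd
      rw [hao] at hpd
      rw [(Nat.prime_dvd_prime_iff_eq hp hqp).mp hpd]
      exact hqσ)
    rcases h32 with ⟨hκ, -⟩ | ⟨-, -, hCaT, -⟩
    · -- `q ∈ κ(N*)`: the Sylow `q`-subgroups of `N*` are cyclic, but `A` is not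
      have hqκ : q ∈ kappa Ns := hκ q hqp (by rw [hao])
      have hAp : IsPGroup q (A.subgroupOf Ns) := (IsPGroup.of_card hAcard).comap_subtype
      obtain ⟨P, hP⟩ := hAp.exists_le_sylow
      have hPcyc : IsCyclic ↥(P : Subgroup ↥Ns) := (hqκ.2.2.2 P).1
      have hc1 : IsCyclic ↥(A.subgroupOf Ns) :=
        isCyclic_of_injective (Subgroup.inclusion hP) (Subgroup.inclusion_injective hP)
      have hc2 : IsCyclic ↥A :=
        isCyclic_of_injective (Subgroup.subgroupOfEquivOfLe hANs).symm.toMonoidHom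
          (Subgroup.subgroupOfEquivOfLe hANs).symm.injective
      exact Cfsg.Agent.Lib.Helper40.BG1435.not_isCyclic_of_elemAb_sq hqp hAel hAcard hc2
    · -- `N*` is the only maximal subgroup over `C_G(a)`: `N* = M`
      have hNsM : Ns = M := hCauniq Ns h.hNs (by rw [hcz]; exact hCaT)
      exact Conf.ne_partner h hNsM.symm
  have haσ : a ∈ sigmaCore Ns := by
    have hHallNs : IsPiHallOf (sigma Ns) (sigmaCore Ns) Ns :=
      (Cfsg.Agent.S1350.result hG Ns h.hNs).1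
    have hle : zpowers a ≤ sigmaCore Ns := by
      apply Cfsg.Agent.Lib.Helper71.BG10.le_of_isPiHallOf_normal hHallNs
        (Cfsg.Agent.Lib.Helper71.BG11.le_normalizer_sigmaCore Ns) (zpowers_le.mpr haE.2)
      intro p hp hpd
      rw [Nat.card_zpowers, hao] at hpd
      rw [(Nat.prime_dvd_prime_iff_eq hp hqp).mp hpd]
      exact hqσ
    exact hle (mem_zpowers a)
  -- Step 3: the normal Sylow subgroup `Q_k`
  obtain ⟨Qk, hTQ, hQkp, hKQ, hQσ, hQM⟩ := Conf.exists_normal_sylow hG h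
  -- Step 4: an element `y0` of prime order of `K*`
  have hKs1 : sigmaCore N ⊓ centralizer (K : Set G) ≠ ⊥ :=
    (Cfsg.Agent.S1364.result hG N h.hN K U h.hKU h.hK1).2.1
  have hcardKs : Nat.card ↥(sigmaCore N ⊓ centralizer (K : Set G)) ≠ 1 := fun hc =>
    hKs1 (Subgroup.card_eq_one.mp hc)
  obtain ⟨ℓ, hℓ, hℓd⟩ := Nat.exists_prime_and_dvd hcardKs
  have : Fact ℓ.Prime := ⟨hℓ⟩
  obtain ⟨y, hy⟩ := exists_prime_orderOf_dvd_card' ℓ hℓd
  have hy0o : orderOf (y : G) = ℓ := by rw [← hy]; exact Subgroup.orderOf_coe y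
  have hy0Ks : (y : G) ∈ sigmaCore N ⊓ centralizer (K : Set G) := y.2
  have hy01 : (y : G) ≠ 1 := by
    intro h1
    rw [h1, orderOf_one] at hy0o
    exact hℓ.one_lt.ne hy0o
  have hy0Ns : (y : G) ∈ Ns := h.hKstH.1 hy0Ks
  have hℓκ : ℓ ∈ kappa Ns := h.hKstH.2.1 ℓ hℓ hℓd
  have hℓσ : ℓ ∉ sigma Ns := hℓκ.2.2.1
  have h30 := (Cfsg.Agent.S1430.result hG Ns h.hNs _ h.hKstH hKs1).1 (y : G) hy0Ks hy01
  have hfix : ∀ c ∈ sigmaCore Ns, (y : G) * c = c * (y : G) → c ∈ K := by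
    intro c hc hcomm
    have h1 : c ∈ sigmaCore Ns ⊓ centralizer ({(y : G)} : Set G) := by
      refine ⟨hc, ?_⟩
      show c ∈ centralizer ({(y : G)} : Set G)
      rw [mem_centralizer_iff]
      intro g hg
      rw [Set.mem_singleton_iff] at hg
      subst hg
      exact hcomm
    rw [h30] at h1
    have h2 := h.hKst
    rw [h2]
    exact h1
  have hyC : (y : G) ∈ normalizer ((sigmaCore Ns ⊓ centralizer (K : Set G) : Subgroup G) : Set G) := by
    have h1 : (y : G) ∈ normalizer (sigmaCore Ns : Set G) :=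
      Cfsg.Agent.Lib.Helper71.BG11.le_normalizer_sigmaCore Ns hy0Ns
    have h2 : (y : G) ∈ normalizer ((centralizer (K : Set G) : Subgroup G) : Set G) :=
      le_normalizer hy0Ks.2
    rw [mem_normalizer_iff]
    intro g
    constructor
    · rintro ⟨hg1, hg2⟩
      exact ⟨(mem_normalizer_iff.mp h1 g).mp hg1, (mem_normalizer_iff.mp h2 g).mp hg2⟩
    · rintro ⟨hg1, hg2⟩
      exact ⟨(mem_normalizer_iff.mp h1 g).mpr hg1, (mem_normalizer_iff.mp h2 g).mpr hg2⟩
  have hℓC : ¬ ℓ ∣ Nat.card ↥(sigmaCore Ns ⊓ centralizer (K : Set G)) := by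
    intro hd
    have h1 : ℓ ∣ Nat.card (sigmaCore Ns) := hd.trans (Subgroup.card_dvd_of_le inf_le_left)
    exact hℓσ (Cfsg.Agent.Lib.Helper71.BG11.sigmaCore_pi hG h.hNs hℓ h1)
  have hℓk : ℓ ≠ Nat.card K := by
    intro e
    apply hℓσ
    rw [e]
    exact Conf.card_K_mem_sigma hG h
  have hCQ : sigmaCore Ns ⊓ centralizer (K : Set G) ≤ normalizer (Qk : Set G) :=
    inf_le_left.trans (hσNs.trans hTQ)
  have hyQ : (y : G) ∈ normalizer (Qk : Set G) := hTQ hy0Ns
  have haC : a ∈ sigmaCore Ns ⊓ centralizer (K : Set G) := by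
    refine ⟨haσ, ?_⟩
    show a ∈ centralizer (K : Set G)
    rw [mem_centralizer_iff]
    intro g hg
    exact hEab g (Conf.K_le h hg) a haE
  have hKp : IsPGroup (Nat.card K) K := IsPGroup.of_card (n := 1) (by rw [pow_one])
  have hcent := mem_centralizer_of_wielandt hkp hℓ hqp Qk
    (sigmaCore Ns ⊓ centralizer (K : Set G)) K (y : G) hQkp hCQ hyQ hyC hy0o hℓC hℓk inf_le_right
    (fun c hc => hfix c hc.1) (fun z hz => hfix z (hQσ hz)) hKp haC hao hqk
  -- `Q_k ≤ C_G(a) ≤ M`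
  apply hQM
  intro z hz
  apply hCaM
  rw [hcz, mem_centralizer_iff]
  intro g hg
  rw [Set.mem_singleton_iff] at hg
  subst hg
  exact ((mem_centralizer_iff.mp hcent) z hz).symm

/-- `τ₂(M) = ∅` in a configuration (BG 15.8, the hard clause). -/
theorem Conf.tau2_eq_empty (hG : IsMinSimpleOddOrder G) {M N Ns K U : Subgroup G} {x : G}
    (h : Conf M N Ns K U x) : tau2 M = ∅ := by
  rw [Set.eq_empty_iff_forall_notMem]
  intro q hq
  by_cases hqk : q = Nat.card K
  · subst hqk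
    exact Conf.card_not_mem_tau2 hG h hq
  · exact Conf.not_mem_tau2_of_ne hG h hq hqk

end Cfsg.Agent.Lib.Helper58.BG1376
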