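import Mathlib
import Cfsg.Agent.S0025
import Cfsg.Agent.S1350
import Cfsg.Agent.Lib.Helper52.BG134A2
import Cfsg.Agent.Lib.Helper13.BG12B
import Cfsg.Agent.Lib.Helper55.SylowIn

/-!
# BG Theorem 13.9 (σ-partition, S1378), Part I step 3 in context-free form:
a complement of `M_σ` in `M` normalizing a given Sylow subgroup of `M_σ`.
-/

set_option autoImplicit false
set_option linter.unusedSectionVars false
set_option linter.unusedVariables false

namespace Cfsg.Agent.Lib.Helper58.BG139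

open Cfsg Cfsg.Agent.Lib.Helper55

variable {G : Type*} [Group G] [Finite G]

/-- **Step 3**: every Sylow `q`-subgroup `S` of `M_σ` is normalized by some complement `E` of `M_σ`
in `M` (coprime action + Sylow conjugacy in `M_σ`). -/
theorem exists_complIn_le_normalizer (hG : IsMinSimpleOddOrder G) {M : Subgroup G}
    (hM : IsCoatom M) {q : ℕ} [Fact q.Prime] {S : Subgroup G}
    (hS : IsSylowIn q (sigmaCore M) S) :
    ∃ E : Subgroup G, IsComplIn E (sigmaCore M) M ∧ E ≤ Subgroup.normalizer (S : Set G) := by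
  have hHall := (Cfsg.Agent.S1350.result hG M hM).1
  have hn : M ≤ Subgroup.normalizer (sigmaCore M : Set G) :=
    Cfsg.Agent.Lib.Helper31.le_normalizer_piCoreOf (sigma M) M
  have hK : ∀ s : ℕ, s.Prime → s ∣ Nat.card (⊥ : Subgroup G) → s ∉ sigma M := by
    intro s hs hsd
    rw [Subgroup.card_bot] at hsd
    exact absurd (Nat.dvd_one.mp hsd) hs.one_lt.ne'
  obtain ⟨E₁, hE₁, -⟩ :=
    Cfsg.Agent.Lib.Helper13.BG12.exists_complIn_ge hG hM hHall (bot_le : (⊥ : Subgroup G) ≤ M) hK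
  have hcopE : (Nat.card E₁).Coprime (Nat.card (sigmaCore M)) :=
    Cfsg.Agent.Lib.Helper13.BG12.coprime_of_primes_disjoint
      (Cfsg.Agent.Lib.Helper13.BG12.complIn_prime_not_mem_sigma hHall hE₁) hHall.2.1
  have hStop : sigmaCore M ≠ ⊤ := fun h => hM.1 (top_le_iff.mp (h ▸ hHall.1))
  have hsolv : Group.IsSolvable ↥(sigmaCore M) := ms_solvable hG hStop
  have hE₁n : E₁ ≤ Subgroup.normalizer (sigmaCore M : Set G) := hE₁.1.trans hn
  obtain ⟨P₁, -, hE₁P₁⟩ := Cfsg.Agent.S0025.result E₁ (sigmaCore M) hE₁n hcopE (Or.inr hsolv) q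
    ⊥ bot_le (IsPGroup.of_bot)
    (by rw [Subgroup.normalizer_eq_top_iff.mpr Subgroup.normal_bot]; exact le_top)
  have hS'syl : IsSylowIn q (sigmaCore M) ((P₁ : Subgroup (sigmaCore M)).map (sigmaCore M).subtype) :=
    isSylowIn_of_sylow P₁
  obtain ⟨d, hdσ, hd⟩ := hS'syl.exists_conj hS
  have hdM : d ∈ M := hHall.1 hdσ
  refine ⟨cj d E₁, Cfsg.Agent.Lib.Helper52.BG134.isComplIn_cj hE₁ hn hdM, ?_⟩
  have h1 : cj d E₁ ≤ cj d (Subgroup.normalizer
      (((P₁ : Subgroup (sigmaCore M)).map (sigmaCore M).subtype : Subgroup G) : Set G)) :=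
    cj_mono hE₁P₁
  rw [cj_normalizer, hd] at h1
  exact h1

/-- a Sylow `q`-subgroup of `G` contained in `M_σ` is a Sylow `q`-subgroup of `M_σ` -/
theorem isSylowIn_sigmaCore_of_top {M : Subgroup G} {q : ℕ} {S : Subgroup G}
    (hS : IsSylowIn q ⊤ S) (hSσ : S ≤ sigmaCore M) : IsSylowIn q (sigmaCore M) S :=
  ⟨hSσ, hS.2.1, fun T' _ hT'p hle => hS.2.2 T' le_top hT'p hle⟩

end Cfsg.Agent.Lib.Helper58.BG139
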