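import Mathlib
import Cfsg.Agent.S1350
import Cfsg.Agent.S1415
import Cfsg.Agent.S1423
import Cfsg.Agent.Lib.Helper15.BG139Defs
import Cfsg.Agent.Lib.Helper71.BG11a
import Cfsg.Agent.Lib.Helper71.BG10Sub
import Cfsg.Agent.Lib.Helper13.BG12B
import Cfsg.Agent.Lib.Helper54.BG134A3a
import Cfsg.Agent.Lib.Helper55.Uniq2
import Cfsg.Agent.Lib.Helper31.BG12a
import Cfsg.Agent.Lib.Helper31.FittingHall
import Cfsg.Agent.Lib.Helper29.Sup
import Cfsg.Agent.Lib.Helper21.BG139K3a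
import Cfsg.Agent.Lib.Helper58.BG139K2c

/-!
# Keystone 137819 (K-S1378-K3c), BG Theorem 13.9, step 16(ii): `sigma_final`

`X = ⟨x⟩ ≤ C_{M_σ}(P)` of prime order `t`, `t'` a prime divisor of `|C_{N_σ}(P)|`; both primes are in
`τ₁(H)`.  `EH ≥ X` a complement of `H_σ`, `E₁ ≥ X` a (cyclic) Hall `τ₁(H)`-subgroup of `EH`;
`t' ∣ |E₁|` (by orders), so there is `y ∈ E₁` of order `t'`.  Prime action of `E₁` on `H_σ`:
`P ≤ H_σ ∩ C(x) ≤ C(E₁)`, so `y ∈ C(P) ≤ N(P)`; `y ∈ C_G(X) ≤ M` (S1423, `t ∈ β(M)`).  So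
`y ∈ N_M(P) ≤ C_{M_σ}(P) P` and `t' ∣ |C_{M_σ}(P)| r`: either `t' = r ∈ σ(N)`, against `r ∈ τ₁(N)`,
or `t' ∈ β(M) ∩ σ(N)`, against `α(M) ∩ σ(N) = ∅`.
-/

set_option autoImplicit false
set_option linter.unusedVariables false
set_option linter.style.haveILetI false

namespace Cfsg.Agent.Lib.Helper58.BG139

open Cfsg Cfsg.Agent.Lib.Helper55 Cfsg.Agent.Lib.Helper31.BG134 Cfsg.Agent.Lib.Helper15.BG139

variable {G : Type*} [Group G] [Finite G]

/-- KEYSTONE 137819  K-S1378-K3c  (step 16(ii)). -/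
theorem sigma_final {M N P H : Subgroup G} {r : ℕ} (lM : Loc M P H r) (lN : Loc N P H r)
    (hnc : ∀ g : G, cj g M ≠ N) (hrσ : r ∈ sigma H)
    (hpa : ∀ EH E₁ : Subgroup G, IsComplIn EH (sigmaCore H) H → IsPiHallOf (tau1 H) E₁ EH →
      PrimeAct H E₁)
    (hM1 : ∀ t : ℕ, t.Prime → t ∣ Nat.card ↥(CP M P) → t ∈ tau1 H)
    (hN1 : ∀ t : ℕ, t.Prime → t ∣ Nat.card ↥(CP N P) → t ∈ tau1 H) : False := by
  have hG := lM.o.hG
  have hM := lM.o.hM
  have hN := lN.o.hM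
  have hH := lM.hH
  have hr : r.Prime := lM.o.hr1.1
  have hPM := lM.o.hPM
  have hPH : P ≤ H := Subgroup.le_normalizer.trans lM.hNH
  have hHallH := (Cfsg.Agent.S1350.result hG H hH).1
  -- the primes `t`, `t'`
  obtain ⟨t, ht, htd⟩ := exists_prime_dvd_card_of_ne_bot lM.o.hC1
  obtain ⟨t', ht', ht'd⟩ := exists_prime_dvd_card_of_ne_bot lN.o.hC1
  haveI : Fact t.Prime := ⟨ht⟩
  have htτ : t ∈ tau1 H := hM1 t ht htd
  have ht'τ : t' ∈ tau1 H := hN1 t' ht' ht'd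
  have htσ : t ∈ sigma M := Cfsg.Agent.Lib.Helper71.BG11.sigmaCore_pi hG hM ht
    (htd.trans (Subgroup.card_dvd_of_le inf_le_left))
  have ht'σN : t' ∈ sigma N := Cfsg.Agent.Lib.Helper71.BG11.sigmaCore_pi hG hN ht'
    (ht'd.trans (Subgroup.card_dvd_of_le inf_le_left))
  have htβ : t ∈ beta M := lM.o.hCβ t ht htd
  -- `X = ⟨x⟩`
  obtain ⟨x, hxC, hxo⟩ := exists_mem_orderOf_eq_of_dvd_card ht htd
  have hXC : Subgroup.zpowers x ≤ CP M P := Subgroup.zpowers_le.mpr hxC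
  have hXcard : Nat.card (Subgroup.zpowers x) = t := by rw [Nat.card_zpowers, hxo]
  have hx1 : x ≠ 1 := by
    intro h
    rw [h, orderOf_one] at hxo
    exact ht.one_lt.ne hxo
  have hXM : Subgroup.zpowers x ≤ M := hXC.trans (inf_le_left.trans
    (Cfsg.Agent.Lib.Helper71.BG11.sigmaCore_le M))
  have hXH : Subgroup.zpowers x ≤ H := by
    refine hXC.trans ?_
    rw [← lM.hC]; exact inf_le_right
  -- a complement `EH ≥ X` of `H_σ`
  obtain ⟨EH, hEH, hXEH⟩ := Cfsg.Agent.Lib.Helper13.BG12.exists_complIn_ge hG hH hHallH hXH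
    (by
      intro q hq hqd
      rw [hXcard] at hqd
      rw [(Nat.prime_dvd_prime_iff_eq hq ht).mp hqd]
      exact htτ.2.1)
  -- the Hall `τ₁(H)`-subgroup `E₁ ≥ X` of `EH`
  have hEHH : EH ≤ H := hEH.1
  have hEHtop : EH ≠ ⊤ := by
    intro h
    apply hH.1
    rw [eq_top_iff, ← h]
    exact hEHH
  have hsolv : Group.IsSolvable ↥EH := Cfsg.Agent.Lib.Helper55.ms_solvable hG hEHtop
  obtain ⟨E₁, hE₁, hXE₁⟩ := Cfsg.Agent.Lib.Helper54.BG134.exists_isPiHallOf_ge hsolv (tau1 H) hXEH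
    (by
      intro q hq hqd
      rw [hXcard] at hqd
      rw [(Nat.prime_dvd_prime_iff_eq hq ht).mp hqd]
      exact htτ)
  have hE₁c : IsCyclic E₁ := (Cfsg.Agent.S1415.result hG H hH EH hEH).2.1 E₁ hE₁
  have hE₁EH : E₁ ≤ EH := hE₁.1
  -- `t' ∣ |E₁|`
  have ht'E₁ : t' ∣ Nat.card E₁ := by
    have hCNH : CP N P ≤ H := by
      rw [← lN.hC]; exact inf_le_right
    have h1 : t' ∣ Nat.card H := ht'd.trans (Subgroup.card_dvd_of_le hCNH)
    rw [← Cfsg.Agent.Lib.Helper31.IsComplIn.card_mul hEH] at h1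
    have h2 : ¬ t' ∣ Nat.card (sigmaCore H) := fun h =>
      ht'τ.2.1 (Cfsg.Agent.Lib.Helper71.BG11.sigmaCore_pi hG hH ht' h)
    have h3 : t' ∣ Nat.card EH := ((Nat.Prime.dvd_mul ht').mp h1).resolve_right h2
    have h4 : Nat.card E₁ * E₁.relIndex EH = Nat.card EH := by
      have := (E₁.subgroupOf EH).card_mul_index
      rwa [Nat.card_congr (Subgroup.subgroupOfEquivOfLe hE₁EH).toEquiv] at this
    rw [← h4] at h3
    exact ((Nat.Prime.dvd_mul ht').mp h3).resolve_right (hE₁.2.2 t' ht' ht'τ)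
  obtain ⟨y, hyE₁, hyo⟩ := exists_mem_orderOf_eq_of_dvd_card ht' ht'E₁
  have hxE₁ : x ∈ E₁ := hXE₁ (Subgroup.mem_zpowers x)
  -- `y` commutes with `x`
  have hcomm : y * x = x * y := by
    have hc : IsMulCommutative E₁ := IsCyclic.isMulCommutative
    exact congrArg Subtype.val (isMulCommutative_iff.mp hc ⟨y, hyE₁⟩ ⟨x, hxE₁⟩)
  -- `P ≤ H_σ`
  have hPσ : P ≤ sigmaCore H := by
    apply Cfsg.Agent.Lib.Helper71.BG10.le_of_isPiHallOf_normal hHallH
      (Cfsg.Agent.Lib.Helper71.BG11.le_normalizer_sigmaCore H) hPH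
    intro s hs hsd
    rw [lM.o.hPc] at hsd
    rw [(Nat.prime_dvd_prime_iff_eq hs hr).mp hsd]
    exact hrσ
  -- prime action: `y ∈ C(P)`
  have hyCP : y ∈ Subgroup.centralizer (P : Set G) := by
    rw [Subgroup.mem_centralizer_iff]
    intro z hz
    have hzx : z ∈ Subgroup.centralizer ({x} : Set G) := by
      rw [Subgroup.mem_centralizer_iff]
      intro u hu
      rw [Set.mem_singleton_iff] at hu
      rw [hu]
      exact ((Subgroup.mem_centralizer_iff.mp hxC.2) z hz).symm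
    have hzE₁ : z ∈ Subgroup.centralizer (E₁ : Set G) :=
      hpa EH E₁ hEH hE₁ x hxE₁ hx1 (Subgroup.mem_inf.mpr ⟨hPσ hz, hzx⟩)
    exact ((Subgroup.mem_centralizer_iff.mp hzE₁) y hyE₁).symm
  have hyNP : y ∈ Subgroup.normalizer (P : Set G) :=
    Subgroup.centralizer_le_normalizer _ hyCP
  -- `y ∈ C_G(X) ≤ M`
  have hCXM : Subgroup.centralizer ((Subgroup.zpowers x : Subgroup G) : Set G) ≤ M :=
    (Cfsg.Agent.S1423.result hG M hM t htσ (Subgroup.zpowers x) hXM hXcard default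
      (Or.inl htβ)).1.1
  have hyM : y ∈ M := by
    apply hCXM
    have : Subgroup.zpowers x ≤ Subgroup.centralizer ({y} : Set G) := by
      rw [Subgroup.zpowers_le, Subgroup.mem_centralizer_iff]
      intro z hz
      rw [Set.mem_singleton_iff] at hz
      rw [hz]
      exact hcomm
    rw [Subgroup.mem_centralizer_iff]
    intro z hz
    have := (Subgroup.mem_centralizer_iff.mp (this hz)) y (Set.mem_singleton _)
    exact this.symm
  have hysup : y ∈ CP M P ⊔ P := lM.o.hNP (Subgroup.mem_inf.mpr ⟨hyM, hyNP⟩)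
  -- `t' ∣ |C_{M_σ}(P)| r`
  have hdvd : t' ∣ Nat.card ↥(CP M P) * Nat.card P := by
    have h1 : orderOf (⟨y, hysup⟩ : ↥(CP M P ⊔ P)) ∣ Nat.card ↥(CP M P ⊔ P) :=
      orderOf_dvd_natCard _
    rw [Subgroup.orderOf_mk, hyo] at h1
    exact h1.trans (Cfsg.Agent.Lib.Helper29.card_sup_dvd_of_le_normalizer (CP M P) P
      (Cfsg.Agent.Lib.Helper21.BG139.k3a_le_normalizer_CP hPM))
  rcases (Nat.Prime.dvd_mul ht').mp hdvd with h | h
  · -- `t' ∈ β(M) ∩ σ(N)`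
    have hβ : t' ∈ beta M := lM.o.hCβ t' ht' h
    exact Cfsg.Agent.Lib.Helper31.BG12.alpha_sigma_disjoint hG hM hN hnc hβ.1 ht'σN
  · -- `t' = r ∈ σ(N)`
    rw [lM.o.hPc] at h
    have : t' = r := (Nat.prime_dvd_prime_iff_eq ht' hr).mp h
    rw [this] at ht'σN
    exact lN.o.hr1.2.1 ht'σN

end Cfsg.Agent.Lib.Helper58.BG139
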