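import Cfsg.Agent.Lib.Helper58.BG147P
import Cfsg.Agent.S1352
import Cfsg.Agent.S1354

/-!
# S1373 (BG Theorem D(2): type `P₁` ⇒ `|K*|` prime) from the statements of S1366, S1368, S1369

`s1373_of`: the three inputs are hypotheses in the exact shape of `S1366.result.exists`,
`(S1368.result …).2`, `(S1369.result …).1`.
-/

set_option autoImplicit false

namespace Cfsg.Agent.Lib.Helper58.BG147

open Cfsg

variable {G : Type*} [Group G] [Finite G]

theorem s1373_of (hG : IsMinSimpleOddOrder G) {M K U : Subgroup G} (hM : IsCoatom M)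
    (hKU : IsSigmaDecomposition M K U) (hK1 : K ≠ ⊥) (hU : U = ⊥)
    (h66 : ∃ Mstar : Subgroup G, IsCoatom Mstar ∧
      K = sigmaCore Mstar ⊓ Subgroup.centralizer ((sigmaCore M ⊓ Subgroup.centralizer (K : Set G)) : Set G) ∧
      IsPiHallOf (kappa Mstar) (sigmaCore M ⊓ Subgroup.centralizer (K : Set G)) Mstar)
    (h68 : ∀ Mstar : Subgroup G, IsCoatom Mstar →
      K = sigmaCore Mstar ⊓ Subgroup.centralizer ((sigmaCore M ⊓ Subgroup.centralizer (K : Set G)) : Set G) →
      IsPiHallOf (kappa Mstar) (sigmaCore M ⊓ Subgroup.centralizer (K : Set G)) Mstar →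
      IsCyclic ↥(K ⊔ (sigmaCore M ⊓ Subgroup.centralizer (K : Set G))))
    (h69 : ∀ Mstar : Subgroup G, IsCoatom Mstar →
      K = sigmaCore Mstar ⊓ Subgroup.centralizer ((sigmaCore M ⊓ Subgroup.centralizer (K : Set G)) : Set G) →
      IsPiHallOf (kappa Mstar) (sigmaCore M ⊓ Subgroup.centralizer (K : Set G)) Mstar →
      (U ≠ ⊥ ∨ ∀ Ustar : Subgroup G,
        IsSigmaDecomposition Mstar (sigmaCore M ⊓ Subgroup.centralizer (K : Set G)) Ustar → Ustar ≠ ⊥)) :
    (Nat.card ↥(sigmaCore M ⊓ Subgroup.centralizer (K : Set G))).Prime := by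
  obtain ⟨Mstar, hMs, hKst, hKstH⟩ := h66
  have hcyc := h68 Mstar hMs hKst hKstH
  have hKsc : IsCyclic ↥(sigmaCore M ⊓ Subgroup.centralizer (K : Set G)) := by
    haveI := hcyc
    exact Subgroup.isCyclic_of_le (le_sup_right : _ ≤ K ⊔ (sigmaCore M ⊓ Subgroup.centralizer (K : Set G)))
  have hKs1 : sigmaCore M ⊓ Subgroup.centralizer (K : Set G) ≠ ⊥ :=
    (Cfsg.Agent.S1354.result hG M hM K hKU.cyclic hKU.hall).1
  obtain ⟨Ustar, hUstar⟩ := (Cfsg.Agent.S1352.result hG Mstar hMs _ hKsc hKstH).1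
  rcases h69 Mstar hMs hKst hKstH with h | h
  · exact absurd hU h
  · exact card_prime_of_sigmaDecomposition hG hMs hUstar hKs1 (h Ustar hUstar)

end Cfsg.Agent.Lib.Helper58.BG147
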