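import Mathlib
import Cfsg.Agent.S1350
import Cfsg.Agent.S1415
import Cfsg.Agent.Lib.Helper13.BG12B
import Cfsg.Agent.Lib.Helper16.BG134Asm
import Cfsg.Agent.Lib.Helper54.BG134A3a
import Cfsg.Agent.Lib.Helper64.BG14K
import Cfsg.Agent.Lib.Helper77.BG144B
import Cfsg.Agent.Lib.Helper58.BG139K2c

/-!
# K-S1353-A (keystone 135309, parallel hand of the architect): a cyclic Hall `κ(M)`-subgroup forces
`κ(M) ⊆ τ₁(M)`.
-/

set_option autoImplicit false
set_option linter.unusedVariables false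

namespace Cfsg.Agent.Lib.Helper58.BG14

open Cfsg
open scoped commutatorElement

variable {G : Type*} [Group G] [Finite G]

/-- KEYSTONE 135309 (Claim A). -/
theorem kappa_subset_tau1 (hG : IsMinSimpleOddOrder G) {M K : Subgroup G} (hM : IsCoatom M)
    (hKc : IsCyclic K) (hK : IsPiHallOf (kappa M) K M)
    (hR1 : ∀ (E S₀ : Subgroup G) (q s : ℕ), IsComplIn E (sigmaCore M) M → q ∈ tau2 M → s ∈ tau3 M →
      S₀ ≤ E → Nat.card S₀ = s → sigmaCore M ⊓ Subgroup.centralizer (S₀ : Set G) = ⊥)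
    (hT3 : ∀ (E S₀ S₀' : Subgroup G) (s s' : ℕ), IsComplIn E (sigmaCore M) M → s ∈ tau3 M →
      s' ∈ tau3 M → S₀ ≤ E → Nat.card S₀ = s → S₀' ≤ E → Nat.card S₀' = s' →
      sigmaCore M ⊓ Subgroup.centralizer (S₀ : Set G) ≤
        sigmaCore M ⊓ Subgroup.centralizer (S₀' : Set G))
    (hD1 : ∀ (E S₀ P : Subgroup G) (s p : ℕ), IsComplIn E (sigmaCore M) M → s ∈ tau3 M → S₀ ≤ E →
      Nat.card S₀ = s → sigmaCore M ⊓ Subgroup.centralizer (S₀ : Set G) ≠ ⊥ → p ∈ tau1 M →
      P ≤ E → Nat.card P = p → sigmaCore M ⊓ Subgroup.centralizer (P : Set G) ≠ ⊥) :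
    ∀ p : ℕ, p ∈ kappa M → p ∈ tau1 M := by
  intro s hsκ
  by_contra hs1
  have hHall := (Cfsg.Agent.S1350.result hG M hM).1
  have hsp : s.Prime := hsκ.1
  have hsM : s ∣ Nat.card M := hsκ.2.1
  have hsσ : s ∉ sigma M := hsκ.2.2.1
  rcases Cfsg.Agent.Lib.Helper16.BG134.mem_tau_cases hG hM hsp hsM hsσ with h1 | h2 | h3
  · exact hs1 h1
  · exact Cfsg.Agent.Lib.Helper77.BG144.not_kappa_of_tau2 h2 hsκ
  · -- `s ∈ τ₃(M) ∩ κ(M)`
    have hKσ : ∀ p : ℕ, p.Prime → p ∣ Nat.card K → p ∉ sigma M :=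
      fun p hp hd => (hK.2.1 p hp hd).2.2.1
    obtain ⟨E, hE, hKE⟩ :=
      Cfsg.Agent.Lib.Helper13.BG12.exists_complIn_ge hG hM hHall hK.1 hKσ
    have hEM : E ≤ M := hE.1
    have hsK : s ∣ Nat.card K := by
      have h : Nat.card K * K.relIndex M = Nat.card M := by
        have h1 := Subgroup.card_mul_index (K.subgroupOf M)
        rwa [Nat.card_congr (Subgroup.subgroupOfEquivOfLe hK.1).toEquiv] at h1
      rw [← h] at hsM
      rcases (hsp.dvd_mul).mp hsM with h' | h'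
      · exact h'
      · exact absurd h' (hK.2.2 s hsp hsκ)
    obtain ⟨x, hxK, hxo⟩ :=
      Cfsg.Agent.Lib.Helper58.BG139.exists_mem_orderOf_eq_of_dvd_card hsp hsK
    have hS₀c : Nat.card (Subgroup.zpowers x) = s := by rw [Nat.card_zpowers, hxo]
    have hS₀E : Subgroup.zpowers x ≤ E := by
      rw [Subgroup.zpowers_le]; exact hKE hxK
    have hC₃ : sigmaCore M ⊓ Subgroup.centralizer ((Subgroup.zpowers x : Subgroup G) : Set G) ≠ ⊥ :=
      Cfsg.Agent.Lib.Helper64.BG14.cent_ne_bot_of_mem_kappa hG hM hsκ (hS₀E.trans hEM) hS₀c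
    have hτ2 : ∀ q : ℕ, q ∉ tau2 M :=
      fun q hq => hC₃ (hR1 E (Subgroup.zpowers x) q s hE hq h3 hS₀E hS₀c)
    -- all primes of `|E|` are in `κ(M)`
    have hEκ : ∀ r : ℕ, r.Prime → r ∣ Nat.card E → r ∈ kappa M := by
      intro r hr hrE
      have hrM : r ∣ Nat.card M := hrE.trans (Subgroup.card_dvd_of_le hEM)
      have hrσ : r ∉ sigma M :=
        Cfsg.Agent.Lib.Helper13.BG12.complIn_prime_not_mem_sigma hHall hE r hr hrE
      obtain ⟨y, hyE, hyo⟩ :=
        Cfsg.Agent.Lib.Helper58.BG139.exists_mem_orderOf_eq_of_dvd_card hr hrE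
      have hRc : Nat.card (Subgroup.zpowers y) = r := by rw [Nat.card_zpowers, hyo]
      have hRE : Subgroup.zpowers y ≤ E := by
        rw [Subgroup.zpowers_le]; exact hyE
      rcases Cfsg.Agent.Lib.Helper16.BG134.mem_tau_cases hG hM hr hrM hrσ with h1 | h2 | h3'
      · have := hD1 E (Subgroup.zpowers x) (Subgroup.zpowers y) s r hE h3 hS₀E hS₀c hC₃ h1 hRE hRc
        exact Cfsg.Agent.Lib.Helper64.BG14.mem_kappa_of_cent_ne_bot hG hM hr hrM hrσ h1.2.2.2.2
          (hRE.trans hEM) hRc this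
      · exact absurd h2 (hτ2 r)
      · have hle := hT3 E (Subgroup.zpowers x) (Subgroup.zpowers y) s r hE h3 h3' hS₀E hS₀c hRE hRc
        have hne : sigmaCore M ⊓
            Subgroup.centralizer ((Subgroup.zpowers y : Subgroup G) : Set G) ≠ ⊥ := by
          intro h
          rw [h, le_bot_iff] at hle
          exact hC₃ hle
        exact Cfsg.Agent.Lib.Helper64.BG14.mem_kappa_of_cent_ne_bot hG hM hr hrM hrσ h3'.2.2.2
          (hRE.trans hEM) hRc hne
    -- `E = K`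
    have hEK : E ≤ K := by
      rw [← Subgroup.relIndex_eq_one]
      by_contra hne
      obtain ⟨r, hr, hrd⟩ := Nat.exists_prime_and_dvd hne
      have h1 : K.relIndex E ∣ K.relIndex M :=
        Dvd.intro _ (Subgroup.relIndex_mul_relIndex K E M hKE hEM)
      have h2 : r ∣ Nat.card E := hrd.trans (Subgroup.relIndex_dvd_card K E)
      exact hK.2.2 r hr (hEκ r hr h2) (hrd.trans h1)
    have hEeq : E = K := le_antisymm hEK hKE
    -- `E` is abelian
    have hcomm : ⁅E, E⁆ = ⊥ := by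
      rw [eq_bot_iff, Subgroup.commutator_le]
      intro a ha b hb
      rw [Subgroup.mem_bot, commutatorElement_eq_one_iff_commute]
      have hc : IsMulCommutative K := IsCyclic.isMulCommutative
      rw [hEeq] at ha hb
      exact congrArg Subtype.val (isMulCommutative_iff.mp hc ⟨a, ha⟩ ⟨b, hb⟩)
    -- a Hall `τ₃(M)`-subgroup of `E` is trivial
    have hEtop : E ≠ ⊤ := fun h => hM.1 (top_le_iff.mp (h ▸ hEM))
    have hsE : Group.IsSolvable ↥E := Cfsg.Agent.Lib.Helper55.ms_solvable hG hEtop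
    obtain ⟨E₃, hE₃, -⟩ := Cfsg.Agent.Lib.Helper54.BG134.exists_isPiHallOf_ge hsE (tau3 M)
      (K := ⊥) bot_le (by
        intro p hp hpd
        rw [Subgroup.card_bot] at hpd
        exact absurd (Nat.dvd_one.mp hpd) hp.ne_one)
    have h15 := (Cfsg.Agent.S1415.result hG M hM E hE).2.2 E₃ hE₃
    have hE₃bot : E₃ = ⊥ := by
      have := h15.2.1
      rw [hcomm] at this
      exact le_bot_iff.mp this
    have hdvd : s ∣ E₃.relIndex E := by
      rw [hE₃bot, Subgroup.relIndex_bot_left]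
      exact hsK.trans (Subgroup.card_dvd_of_le hKE)
    exact hE₃.2.2 s hsp h3 hdvd

end Cfsg.Agent.Lib.Helper58.BG14
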