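import Mathlib
import Cfsg.Agent.S1415
import Cfsg.Agent.Lib.Helper54.BG134A3a
import Cfsg.Agent.Lib.Helper71.BG10Sub
import Cfsg.Agent.Lib.Helper90.BG1310B

/-!
# K-S1353-T3 (keystone 135302, parallel hand of the architect): BG 13.3(b) in the form used by the
S1353 pack, as a corollary of helper90's `prime_action_tau3` (K-BG1310-B).
-/

set_option autoImplicit false
set_option linter.unusedVariables false

namespace Cfsg.Agent.Lib.Helper58.BG14

open Cfsg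

variable {G : Type*} [Group G] [Finite G]

/-- KEYSTONE 135302 (BG 13.3(b)). -/
theorem tau3_fix_le (hG : IsMinSimpleOddOrder G) {M E S₀ S₀' : Subgroup G} (hM : IsCoatom M)
    (hE : IsComplIn E (sigmaCore M) M) {s s' : ℕ} (hs : s ∈ tau3 M) (hs' : s' ∈ tau3 M)
    (hS₀E : S₀ ≤ E) (hS₀c : Nat.card S₀ = s) (hS₀'E : S₀' ≤ E) (hS₀'c : Nat.card S₀' = s') :
    sigmaCore M ⊓ Subgroup.centralizer (S₀ : Set G) ≤
      sigmaCore M ⊓ Subgroup.centralizer (S₀' : Set G) := by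
  have hEM : E ≤ M := hE.1
  have hEtop : E ≠ ⊤ := fun h => hM.1 (top_le_iff.mp (h ▸ hEM))
  have hsE : Group.IsSolvable ↥E := Cfsg.Agent.Lib.Helper55.ms_solvable hG hEtop
  obtain ⟨E₃, hE₃, -⟩ := Cfsg.Agent.Lib.Helper54.BG134.exists_isPiHallOf_ge hsE (tau3 M)
    (K := ⊥) bot_le (by
      intro p hp hpd
      rw [Subgroup.card_bot] at hpd
      exact absurd (Nat.dvd_one.mp hpd) hp.ne_one)
  obtain ⟨-, -, hE₃n⟩ := (Cfsg.Agent.S1415.result hG M hM E hE).2.2 E₃ hE₃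
  have hle : ∀ (S : Subgroup G) (t : ℕ), t ∈ tau3 M → S ≤ E → Nat.card S = t → S ≤ E₃ := by
    intro S t ht hSE hSc
    apply Cfsg.Agent.Lib.Helper71.BG10.le_of_isPiHallOf_normal hE₃ hE₃n hSE
    intro p hp hpd
    rw [hSc] at hpd
    have : p = t := (Nat.prime_dvd_prime_iff_eq hp ht.1).mp hpd
    rw [this]; exact ht
  have hne : ∀ (S : Subgroup G) (t : ℕ), t ∈ tau3 M → Nat.card S = t → S ≠ ⊥ := by
    intro S t ht hSc h
    rw [h, Subgroup.card_bot] at hSc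
    exact ht.1.ne_one hSc.symm
  have h1 := Cfsg.Agent.Lib.Helper90.BG1310.prime_action_tau3 hG hM hE hE₃
    (hle S₀ s hs hS₀E hS₀c) (hne S₀ s hs hS₀c)
  have h2 := Cfsg.Agent.Lib.Helper90.BG1310.prime_action_tau3 hG hM hE hE₃
    (hle S₀' s' hs' hS₀'E hS₀'c) (hne S₀' s' hs' hS₀'c)
  show Cfsg.Agent.Lib.Helper31.BG134.CP M S₀ ≤ Cfsg.Agent.Lib.Helper31.BG134.CP M S₀'
  rw [h1, h2]

end Cfsg.Agent.Lib.Helper58.BG14
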