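import Mathlib
import Cfsg.Agent.S1432
import Cfsg.Agent.S1436
import Cfsg.Agent.Lib.Helper11.BG144Glue
import Cfsg.Agent.Lib.Helper81.BG144R
import Cfsg.Agent.Lib.Helper64.BG1363H
import Cfsg.Agent.Lib.Helper14.BG1435P7b
import Cfsg.Agent.Lib.Helper60.BG144F
import Cfsg.Agent.Lib.Helper71.BG11a
import Cfsg.Prelude.Def_OddOrderChar

/-!
# K-1537 (S1537), leaf I (keystone 153711): `coprime_supportR`
-/

set_option autoImplicit false

namespace Cfsg.Agent.Lib.Helper58.BG1537

open Cfsg Subgroup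

variable {G : Type*} [Group G] [Finite G]

/-- **L-I** `|R(a)|` is prime to `|C_M(b)|` for `a ∈ M_σ#`, `b ∈ M̂_σ - 1`. -/
theorem coprime_supportR (hG : IsMinSimpleOddOrder G) {M : Subgroup G} (hM : IsCoatom M)
    {a b : G} (ha : a ∈ sigmaCore M) (ha1 : a ≠ 1) (hb : b ∈ sigmaHat M) (hb1 : b ≠ 1) :
    Nat.Coprime (Nat.card (supportR M a)) (Nat.card ↥(M ⊓ centralizer ({b} : Set G))) := by
  by_cases hc : centralizer ({a} : Set G) ≤ M
  · have h0 : supportR M a = ⊥ := by
      unfold supportR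
      rw [dif_neg]
      intro h
      exact h.1 hc
    rw [h0, Subgroup.card_bot]
    exact Nat.coprime_one_left _
  · obtain ⟨N, hN⟩ := Cfsg.Agent.Lib.Helper11.BG144.hB_main hG M hM a ha ha1 hc
    rw [Cfsg.Agent.Lib.Helper81.BG144.supportR_eq (Cfsg.Agent.Lib.Helper11.BG144.hC_main hG) hN]
    by_contra hnc
    obtain ⟨q, hq, hq1, hq2⟩ := Nat.Prime.not_coprime_iff_dvd.mp hnc
    have : Fact q.Prime := ⟨hq⟩
    have hqN : q ∣ Nat.card (sigmaCore N) := hq1.trans (Subgroup.card_dvd_of_le inf_le_left)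
    have hqσN : q ∈ sigma N := Cfsg.Agent.Lib.Helper71.BG11.sigmaCore_pi hG hN.coatom hq hqN
    have hqM : q ∣ Nat.card M := hq2.trans (Subgroup.card_dvd_of_le inf_le_left)
    obtain ⟨hκ, hτ⟩ := (Cfsg.Agent.S1436.result hG M hM a ha ha1 hc N hN.coatom hN.cent_le).1
      ⟨q, hqσN, hqM⟩
    obtain ⟨c, hco⟩ := exists_prime_orderOf_dvd_card' q hq2
    have hco' : orderOf (c : G) = q := by rw [← hco]; exact Subgroup.orderOf_coe c
    have hc1 : (c : G) ≠ 1 := by
      intro h1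
      rw [h1, orderOf_one] at hco'
      exact hq.one_lt.ne hco'
    obtain ⟨hbM, y, hyσ, hy1, hby⟩ := hb
    -- a general consequence of S1432 with `κ(M) = τ₂(M) = ∅`
    have key : ∀ x : G, x ∈ sigmaCore M → x ≠ 1 → ∀ x' : G, x' ∈ M ⊓ centralizer ({x} : Set G) →
        x' ≠ 1 → (∀ p : ℕ, p.Prime → p ∣ orderOf x' → p ∉ sigma M) → False := by
      intro x hx hx1 x' hx' hx'1 hσ
      have hne : orderOf x' ≠ 1 := fun h => hx'1 (orderOf_eq_one_iff.mp h)
      obtain ⟨p, hp, hpd⟩ := Nat.exists_prime_and_dvd hne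
      rcases Cfsg.Agent.S1432.result hG M hM x hx hx1 x' hx' hx'1 hσ with ⟨h1, -⟩ | ⟨h1, -⟩
      · have := h1 p hp hpd
        rw [hκ] at this
        exact this
      · have := h1 p hp hpd
        rw [hτ] at this
        exact this
    -- (1) `b ∈ M_σ`
    have hbσ : b ∈ sigmaCore M := by
      obtain ⟨b₁, b₂, hb12, hb₁, hb₂, hpr₁, hcop₂⟩ :=
        Cfsg.Agent.Lib.Helper64.BG1363.exists_decomp b (Nat.card (sigmaCore M))
      have hb₂1 : b₂ = 1 := by
        by_contra hb₂1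
        have hb₂M : b₂ ∈ M := (zpowers_le.mpr hbM) hb₂
        have hb₂y : b₂ ∈ centralizer ({y} : Set G) := by
          rw [mem_centralizer_iff]
          intro g hg
          rw [Set.mem_singleton_iff] at hg
          subst hg
          obtain ⟨n, rfl⟩ := mem_zpowers_iff.mp hb₂
          have hcm : Commute b g := hby
          exact ((hcm.zpow_left n).eq).symm
        apply key y hyσ hy1 b₂ ⟨hb₂M, hb₂y⟩ hb₂1
        intro p hp hpd hpσ
        have h1 : p ∣ Nat.card (sigmaCore M) :=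
          Cfsg.Agent.Lib.Helper14.BG1435.dvd_card_sigmaCore_of_mem_sigma hG hM hpσ
        have h2 : p ∣ Nat.gcd (orderOf b₂) (Nat.card (sigmaCore M)) := Nat.dvd_gcd hpd h1
        rw [hcop₂] at h2
        exact hp.one_lt.ne' (Nat.dvd_one.mp h2)
      rw [hb₂1, mul_one] at hb12
      apply Cfsg.Agent.Lib.Helper64.BG1363.mem_sigmaCore_of_orderOf hG hM hbM
      rw [hb12]
      exact hpr₁
    -- (2) `q ∈ σ(M)`
    have hqσM : q ∈ sigma M := by
      by_contra hqσM
      apply key b hbσ hb1 (c : G) c.2 hc1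
      intro p hp hpd
      rw [hco'] at hpd
      rw [(Nat.prime_dvd_prime_iff_eq hp hq).mp hpd]
      exact hqσM
    exact Cfsg.Agent.Lib.Helper60.BG144.sigma_disjoint_of_supp hG hM hN hqσM hqσN

end Cfsg.Agent.Lib.Helper58.BG1537
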