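import Mathlib
import Cfsg.Agent.Lib.Helper70.BQSDefs

/-!
# K-BQS-B6 (keystone 391206, pack K-BQS / S3912): a solvable group with property B cannot have a
generalized quaternion Sylow 2-subgroup of order `≥ 16`.
Route (helper11): the last term of the derived series containing an element of order 4 contains
all of them, and the commutator of two of them has a power of order 4 in the next term.
-/

set_option autoImplicit false

namespace Cfsg.Agent.Lib.Helper58.BQS

open Cfsg Cfsg.Agent.Lib.Helper70.BQS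
open scoped commutatorElement

/-- In `QuaternionGroup n`, `n = 2 ^ k`, `k ≥ 2`, the commutator of `xa 0` and `xa 1` has a power of
order `4`. -/
theorem b6_quat_comm (k : ℕ) (hk : 2 ≤ k) :
    orderOf ((⁅(QuaternionGroup.xa 0 : QuaternionGroup (2 ^ k)),
      (QuaternionGroup.xa 1 : QuaternionGroup (2 ^ k))⁆) ^ (2 ^ (k - 2))) = 4 := by
  set n : ℕ := 2 ^ k with hn
  have h2n : ((n : ℕ) : ZMod (2 * n)) + (n : ZMod (2 * n)) = 0 := by
    have h := ZMod.natCast_self (2 * n)
    push_cast at h
    linear_combination h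
  have hinv0 : (QuaternionGroup.xa 0 : QuaternionGroup n)⁻¹ = QuaternionGroup.xa (n : ZMod (2 * n)) := by
    apply inv_eq_of_mul_eq_one_right
    rw [QuaternionGroup.xa_mul_xa, QuaternionGroup.one_def]
    congr 1
    linear_combination h2n
  have hinv1 : (QuaternionGroup.xa 1 : QuaternionGroup n)⁻¹ =
      QuaternionGroup.xa ((n : ZMod (2 * n)) + 1) := by
    apply inv_eq_of_mul_eq_one_right
    rw [QuaternionGroup.xa_mul_xa, QuaternionGroup.one_def]
    congr 1
    linear_combination h2n
  have hc : ⁅(QuaternionGroup.xa 0 : QuaternionGroup n), (QuaternionGroup.xa 1 : QuaternionGroup n)⁆ =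
      (QuaternionGroup.a 1 : QuaternionGroup n) ^ 2 := by
    rw [commutatorElement_def, hinv0, hinv1, QuaternionGroup.xa_mul_xa, mul_assoc,
      QuaternionGroup.xa_mul_xa, QuaternionGroup.a_mul_a, QuaternionGroup.a_one_pow]
    congr 1
    push_cast
    linear_combination h2n
  rw [hc, ← pow_mul]
  have hpow : 2 * 2 ^ (k - 2) = 2 ^ (k - 1) := by
    have : k - 1 = (k - 2) + 1 := by omega
    rw [this, pow_succ]; ring
  rw [hpow]
  have hord : orderOf (QuaternionGroup.a 1 : QuaternionGroup n) = 2 ^ (k + 1) := by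
    rw [QuaternionGroup.orderOf_a_one, hn, pow_succ]; ring
  rw [orderOf_pow_of_dvd (by positivity) (by rw [hord]; exact pow_dvd_pow 2 (by omega)), hord]
  have : k + 1 = (k - 1) + 2 := by omega
  rw [this, pow_add, Nat.mul_div_cancel_left _ (by positivity)]
  norm_num

/-- B6. -/
theorem quat_k_eq_one {G : Type*} [Group G] [Finite G] (hsol : Group.IsSolvable G) (hB : PropB G)
    (S : Sylow 2 G) (k : ℕ) (hk : 1 ≤ k) (e : ↥(S : Subgroup G) ≃* QuaternionGroup (2 ^ k)) : k = 1 := by
  by_contra hk1
  have hk2 : 2 ≤ k := by omega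
  haveI : NeZero (2 ^ k) := ⟨by positivity⟩
  -- transport of orders
  have hord : ∀ q : QuaternionGroup (2 ^ k), orderOf ((e.symm q : ↥(S : Subgroup G)) : G) = orderOf q := by
    intro q
    rw [Subgroup.orderOf_coe, MulEquiv.orderOf_eq]
  -- a normal subgroup containing one element of order 4 contains all of them
  have hall : ∀ K : Subgroup G, K.Normal → (∃ x ∈ K, orderOf x = 4) →
      ∀ y : G, orderOf y = 4 → y ∈ K := by
    intro K hK ⟨x, hxK, hx4⟩ y hy4
    have hcard : Nat.card ↥(Subgroup.zpowers x) = Nat.card ↥(Subgroup.zpowers y) := by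
      rw [Nat.card_zpowers, Nat.card_zpowers, hx4, hy4]
    obtain ⟨g, hg⟩ := hB (Subgroup.zpowers x) (Subgroup.zpowers y) inferInstance inferInstance hcard
    have hy : y ∈ (Subgroup.zpowers x).map (MulAut.conj g).toMonoidHom := by
      rw [← hg]; exact Subgroup.mem_zpowers y
    obtain ⟨w, hw, rfl⟩ := hy
    have hwK : w ∈ K := by
      obtain ⟨j, rfl⟩ := Subgroup.mem_zpowers_iff.mp hw
      exact K.zpow_mem hxK j
    have := hK.conj_mem w hwK g
    simpa using this
  -- the derived series
  obtain ⟨N, hN⟩ := (Group.isSolvable_def G).mp hsol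
  let P : ℕ → Prop := fun i => ∃ x ∈ derivedSeries G i, orderOf x = 4
  have hP0 : P 0 := by
    refine ⟨((e.symm (QuaternionGroup.xa 0) : ↥(S : Subgroup G)) : G), ?_, ?_⟩
    · rw [derivedSeries_zero]; exact Subgroup.mem_top _
    · rw [hord, QuaternionGroup.orderOf_xa]
  have hPN : ¬ P N := by
    rintro ⟨x, hx, hx4⟩
    rw [hN, Subgroup.mem_bot] at hx
    rw [hx, orderOf_one] at hx4
    omega
  have hstep : ∃ i, P i ∧ ¬ P (i + 1) := by
    by_contra hcon
    push Not at hcon
    apply hPN
    induction N with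
    | zero => exact hP0
    | succ m ih => exact hcon m (Nat.rec hP0 (fun j hj => hcon j hj) m)
  obtain ⟨i, hPi, hPi1⟩ := hstep
  apply hPi1
  set u : G := ((e.symm (QuaternionGroup.xa 0) : ↥(S : Subgroup G)) : G) with hu
  set v : G := ((e.symm (QuaternionGroup.xa 1) : ↥(S : Subgroup G)) : G) with hv
  have hKn : (derivedSeries G i).Normal := inferInstance
  have huK : u ∈ derivedSeries G i :=
    hall _ hKn hPi u (by rw [hu, hord, QuaternionGroup.orderOf_xa])
  have hvK : v ∈ derivedSeries G i :=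
    hall _ hKn hPi v (by rw [hv, hord, QuaternionGroup.orderOf_xa])
  have hcomm : ⁅u, v⁆ ∈ derivedSeries G (i + 1) := by
    rw [derivedSeries_succ]
    exact Subgroup.commutator_mem_commutator huK hvK
  refine ⟨⁅u, v⁆ ^ (2 ^ (k - 2)), Subgroup.pow_mem _ hcomm _, ?_⟩
  have heq : ⁅u, v⁆ ^ (2 ^ (k - 2)) =
      ((e.symm ((⁅(QuaternionGroup.xa 0 : QuaternionGroup (2 ^ k)),
        (QuaternionGroup.xa 1 : QuaternionGroup (2 ^ k))⁆) ^ (2 ^ (k - 2))) : ↥(S : Subgroup G)) : G) := by
    rw [hu, hv, map_pow, map_commutatorElement, Subgroup.coe_pow]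
    congr 1
  rw [heq, hord]
  exact b6_quat_comm k hk2

end Cfsg.Agent.Lib.Helper58.BQS
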