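import Mathlib
import Cfsg.Prelude.Def_Blocks
import Cfsg.Agent.Lib.Helper01.CD3Defs
import Cfsg.Agent.Lib.Helper83.CharMisc

/-!
# S4460 pack K-CD3, leaf 446027 K-CD3-TORSOR: `exists_twist_inertia`

Abstract setting: `N` a finite group, `α : MulAut N`, `P` a normal `α`-invariant subgroup on whose
quotient `α` acts fixed-point-freely, `ν : N →* ℂˣ` trivial on `P`.
* `torsor_claim1`: if `ψ` and `ψ ν` are both `α`-invariant then `ψ ν = ψ`.
* `torsor_claim2`: if `ψ` is `α`-invariant, `ψ ν` is `β`-invariant and `α`, `β` commute on `ψ`,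
  then `ψ` is `β`-invariant.
-/

set_option autoImplicit false

namespace Cfsg.Agent.Lib.Helper58.CD3

open Cfsg Cfsg.Agent.Lib.Helper01.CD3

universe u

section Abstract

variable {N : Type*} [Group N]

/-- the subgroup of elements on whose `α`-orbit `ν` is constant -/
def torsorM (α : MulAut N) (ν : N →* ℂˣ) : Subgroup N where
  carrier := {x | ∀ n : ℕ, ν ((α ^ n) x) = ν x}
  one_mem' := by
    intro n
    simp
  mul_mem' := by
    intro x y hx hy n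
    simp only [map_mul]
    rw [hx n, hy n]
  inv_mem' := by
    intro x hx n
    simp only [map_inv]
    rw [hx n]

theorem torsorM_map {α : MulAut N} {ν : N →* ℂˣ} {x : N} (hx : x ∈ torsorM α ν) :
    α x ∈ torsorM α ν := by
  intro n
  have h1 := hx (n + 1)
  have h2 := hx 1
  rw [pow_succ, MulAut.mul_apply] at h1
  rw [pow_one] at h2
  rw [h1, h2]

theorem torsorM_f_mem {α : MulAut N} {ν : N →* ℂˣ} {x : N} (hx : x ∈ torsorM α ν) :
    α x * x⁻¹ ∈ torsorM α ν :=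
  (torsorM α ν).mul_mem (torsorM_map hx) ((torsorM α ν).inv_mem hx)

theorem torsorM_nu_f {α : MulAut N} {ν : N →* ℂˣ} {x : N} (hx : x ∈ torsorM α ν) :
    ν (α x * x⁻¹) = 1 := by
  have h2 := hx 1
  rw [pow_one] at h2
  rw [map_mul, map_inv, h2, mul_inv_cancel]

/-- the conjugation identity behind well-definedness and injectivity -/
theorem torsor_f_conj (α : MulAut N) (x y : N) :
    α (x⁻¹ * y) * (x⁻¹ * y)⁻¹ = x⁻¹ * ((α x * x⁻¹)⁻¹ * (α y * y⁻¹)) * x := by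
  simp only [map_mul, map_inv, mul_inv_rev, inv_inv]
  group

theorem torsor_f_conj' (α : MulAut N) (x y : N) :
    (α x * x⁻¹)⁻¹ * (α y * y⁻¹) = x * (α (x⁻¹ * y) * (x⁻¹ * y)⁻¹) * x⁻¹ := by
  rw [torsor_f_conj]
  group

/-- `ν` is trivial on `torsorM` -/
theorem torsorM_nu_eq_one [Finite N] (α : MulAut N) (P : Subgroup N) [P.Normal]
    (hαP : ∀ x ∈ P, α x ∈ P) (hfpf : ∀ x : N, α x * x⁻¹ ∈ P → x ∈ P)
    (ν : N →* ℂˣ) (hν : ∀ x ∈ P, ν x = 1) {y : N} (hy : y ∈ torsorM α ν) : ν y = 1 := by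
  classical
  set M := torsorM α ν with hM
  set P' : Subgroup M := P.subgroupOf M with hP'
  let f : M → M := fun x => ⟨α x.1 * x.1⁻¹, torsorM_f_mem x.2⟩
  have hfP : ∀ k ∈ P, α k * k⁻¹ ∈ P := fun k hk => P.mul_mem (hαP k hk) (P.inv_mem hk)
  have hwd : ∀ a b : M, QuotientGroup.leftRel P' a b → QuotientGroup.leftRel P' (f a) (f b) := by
    intro a b hab
    rw [QuotientGroup.leftRel_apply] at hab ⊢
    rw [hP', Subgroup.mem_subgroupOf] at hab ⊢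
    have h1 : ((f a)⁻¹ * f b : M).1 = (α a.1 * a.1⁻¹)⁻¹ * (α b.1 * b.1⁻¹) := rfl
    rw [h1, torsor_f_conj']
    have h2 : ((a⁻¹ * b : M) : N) = a.1⁻¹ * b.1 := rfl
    rw [h2] at hab
    exact Subgroup.Normal.conj_mem inferInstance _ (hfP _ hab) _
  let fbar : M ⧸ P' → M ⧸ P' := Quotient.map' f hwd
  have hinj : Function.Injective fbar := by
    intro a b
    refine Quotient.inductionOn₂' a b ?_
    intro a b hab
    simp only [fbar, Quotient.map'_mk''] at hab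
    rw [Quotient.eq''] at hab ⊢
    rw [QuotientGroup.leftRel_apply] at hab ⊢
    rw [hP', Subgroup.mem_subgroupOf] at hab ⊢
    have h1 : ((f a)⁻¹ * f b : M).1 = (α a.1 * a.1⁻¹)⁻¹ * (α b.1 * b.1⁻¹) := rfl
    have h2 : ((a⁻¹ * b : M) : N) = a.1⁻¹ * b.1 := rfl
    rw [h1] at hab
    rw [h2]
    apply hfpf
    rw [torsor_f_conj]
    have := Subgroup.Normal.conj_mem (inferInstance : P.Normal) _ hab a.1⁻¹
    simpa [mul_assoc] using this
  have hsurj : Function.Surjective fbar := Finite.injective_iff_surjective.1 hinj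
  obtain ⟨xb, hxb⟩ := hsurj (Quotient.mk'' (⟨y, hy⟩ : M))
  revert hxb
  refine Quotient.inductionOn' xb ?_
  intro x hx
  simp only [fbar, Quotient.map'_mk''] at hx
  rw [Quotient.eq'', QuotientGroup.leftRel_apply, hP', Subgroup.mem_subgroupOf] at hx
  have h1 : ((f x)⁻¹ * (⟨y, hy⟩ : M) : M).1 = (α x.1 * x.1⁻¹)⁻¹ * y := rfl
  rw [h1] at hx
  have h3 := hν _ hx
  rw [map_mul, map_inv, torsorM_nu_f x.2, inv_one, one_mul] at h3
  exact h3

/-- Claim 1 -/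
theorem torsor_claim1 [Finite N] (α : MulAut N) (P : Subgroup N) [P.Normal]
    (hαP : ∀ x ∈ P, α x ∈ P) (hfpf : ∀ x : N, α x * x⁻¹ ∈ P → x ∈ P)
    (ν : N →* ℂˣ) (hν : ∀ x ∈ P, ν x = 1) (ψ : N → ℂ) (h1 : ∀ x, ψ (α x) = ψ x)
    (h2 : ∀ x, ψ (α x) * (ν (α x) : ℂ) = ψ x * (ν x : ℂ)) :
    ∀ x, ψ x * (ν x : ℂ) = ψ x := by
  intro x
  by_cases hx : ψ x = 0
  · rw [hx, zero_mul]
  have hpow : ∀ n : ℕ, ψ ((α ^ n) x) = ψ x := by
    intro n
    induction n with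
    | zero => simp
    | succ n ih => rw [pow_succ', MulAut.mul_apply, h1, ih]
  have hS : ∀ z, ψ z ≠ 0 → ν (α z) = ν z := by
    intro z hz
    have := h2 z
    rw [h1] at this
    have h3 := mul_left_cancel₀ hz this
    exact Units.ext h3
  have hxM : x ∈ torsorM α ν := by
    intro n
    induction n with
    | zero => simp
    | succ n ih =>
      rw [pow_succ', MulAut.mul_apply, hS _ (by rw [hpow n]; exact hx), ih]
  rw [torsorM_nu_eq_one α P hαP hfpf ν hν hxM]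
  simp

/-- Claim 2 -/
theorem torsor_claim2 [Finite N] (α β : MulAut N) (P : Subgroup N) [P.Normal]
    (hαP : ∀ x ∈ P, α x ∈ P) (hβP : ∀ x ∈ P, β x ∈ P) (hfpf : ∀ x : N, α x * x⁻¹ ∈ P → x ∈ P)
    (ν : N →* ℂˣ) (hν : ∀ x ∈ P, ν x = 1) (ψ : N → ℂ) (h1 : ∀ x, ψ (α x) = ψ x)
    (hcomm : ∀ x, ψ (β (α x)) = ψ (α (β x)))
    (h2 : ∀ x, ψ (β x) * (ν (β x) : ℂ) = ψ x * (ν x : ℂ)) :
    ∀ x, ψ (β x) = ψ x := by
  set ν' : N →* ℂˣ := ν / (ν.comp β.toMonoidHom) with hν'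
  have hν'a : ∀ x, ν' x = ν x / ν (β x) := fun x => rfl
  have hν'P : ∀ x ∈ P, ν' x = 1 := by
    intro x hx
    rw [hν'a, hν x hx, hν _ (hβP x hx), div_one]
  have key : ∀ x, ψ (β x) = ψ x * (ν' x : ℂ) := by
    intro x
    rw [hν'a, Units.val_div_eq_div_val]
    have h3 := h2 x
    have hne : ((ν (β x) : ℂˣ) : ℂ) ≠ 0 := Units.ne_zero _
    field_simp
    exact h3
  have h2' : ∀ x, ψ (α x) * (ν' (α x) : ℂ) = ψ x * (ν' x : ℂ) := by
    intro x
    rw [← key, ← key, hcomm, h1]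
  intro x
  rw [key, torsor_claim1 α P hαP hfpf ν' hν'P ψ h1 h2' x]

end Abstract

section TwelveFour

variable {G : Type u} [Group G] [Finite G] (K N : Subgroup G) [hK : K.Normal] [hN : N.Normal]

/-- 446027 K-CD3-TORSOR -/
theorem exists_twist_inertia (hKN : K ≤ N)
    (hNK : ∀ x ∈ N, ∀ y ∈ N, x * y * x⁻¹ * y⁻¹ ∈ K) (hGN : ∀ g h : G, g * h * g⁻¹ * h⁻¹ ∈ N)
    (hfpf : ∀ g : G, g ∉ N → ∀ x ∈ N, g * x * g⁻¹ * x⁻¹ ∈ K → x ∈ K)
    {ψ : N → ℂ} (hψ : IsIrrCharacter N ψ)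
    (hmove : ∃ μ : N → ℂ, IsIrrCharacter N μ ∧ μ 1 = 1 ∧ (∀ k : N, (k : G) ∈ K → μ k = 1) ∧ ψ * μ ≠ ψ) :
    ∃ ξ : N → ℂ, IsIrrCharacter N ξ ∧ charDegree ξ = charDegree ψ ∧
      ∀ g : G, (∀ x : N, ξ ⟨g * x * g⁻¹, hN.conj_mem x x.2 g⟩ = ξ x) → g ∈ N := by
  obtain ⟨μ, hμ, hμ1, hμK, hne⟩ := hmove
  have hμc : IsCharacter N μ := Cfsg.Agent.Lib.Helper83.isCharacter_of_irr hμ
  have hψc : IsCharacter N ψ := Cfsg.Agent.Lib.Helper83.isCharacter_of_irr hψ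
  have hψμ : IsIrrCharacter N (ψ * μ) := by
    rw [mul_comm]
    exact Cfsg.Agent.Lib.Helper83.isIrrCharacter_mul_linear hμc hμ1 hψ
  have hdeg : charDegree (ψ * μ) = charDegree ψ := by
    unfold charDegree
    rw [Pi.mul_apply, hμ1, mul_one]
  by_contra hcon
  push_neg at hcon
  obtain ⟨g1, hg1, hg1N⟩ := hcon ψ hψ rfl
  obtain ⟨g2, hg2, hg2N⟩ := hcon (ψ * μ) hψμ hdeg
  -- the abstract data
  let ν : ↥N →* ℂˣ := (Cfsg.Agent.Lib.Helper83.linCharHom hμc hμ1).toHomUnits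
  have hνa : ∀ x : N, ((ν x : ℂˣ) : ℂ) = μ x := fun x => rfl
  let P : Subgroup ↥N := K.subgroupOf N
  have hPn : P.Normal := inferInstance
  have hconjP : ∀ (g : G) (x : ↥N), x ∈ P → MulAut.conjNormal g x ∈ P := by
    intro g x hx
    change ((MulAut.conjNormal g x : ↥N) : G) ∈ K
    rw [MulAut.conjNormal_apply]
    exact hK.conj_mem _ hx g
  have hfpfP : ∀ g : G, g ∉ N → ∀ x : ↥N, MulAut.conjNormal g x * x⁻¹ ∈ P → x ∈ P := by
    intro g hg x hx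
    change ((MulAut.conjNormal g x * x⁻¹ : ↥N) : G) ∈ K at hx
    rw [Subgroup.coe_mul, MulAut.conjNormal_apply, Subgroup.coe_inv] at hx
    exact hfpf g hg x.1 x.2 hx
  have hνP : ∀ x ∈ P, ν x = 1 := by
    intro x hx
    apply Units.ext
    rw [hνa, Units.val_one]
    exact hμK x hx
  have hconj_eq : ∀ (g : G) (x : ↥N),
      (MulAut.conjNormal g x : ↥N) = ⟨g * x * g⁻¹, hN.conj_mem x x.2 g⟩ := by
    intro g x
    apply Subtype.ext
    rw [MulAut.conjNormal_apply]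
  have h1 : ∀ x : ↥N, ψ (MulAut.conjNormal g1 x) = ψ x := by
    intro x
    rw [hconj_eq]
    exact hg1 x
  have h2 : ∀ x : ↥N, ψ (MulAut.conjNormal g2 x) * ((ν (MulAut.conjNormal g2 x) : ℂˣ) : ℂ) =
      ψ x * ((ν x : ℂˣ) : ℂ) := by
    intro x
    rw [hνa, hνa, hconj_eq]
    exact hg2 x
  have hcomm : ∀ x : ↥N, ψ (MulAut.conjNormal g2 (MulAut.conjNormal g1 x)) =
      ψ (MulAut.conjNormal g1 (MulAut.conjNormal g2 x)) := by
    intro x
    set n : ↥N := ⟨g2 * g1 * g2⁻¹ * g1⁻¹, hGN g2 g1⟩ with hn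
    have h3 : (MulAut.conjNormal g2 (MulAut.conjNormal g1 x) : ↥N) =
        n * (MulAut.conjNormal g1 (MulAut.conjNormal g2 x)) * n⁻¹ := by
      apply Subtype.ext
      simp only [Subgroup.coe_mul, Subgroup.coe_inv, MulAut.conjNormal_apply, hn]
      group
    rw [h3]
    exact Cfsg.Agent.Lib.Helper83.char_conj_eq hψc _ _
  have h4 : ∀ x : ↥N, ψ (MulAut.conjNormal g2 x) = ψ x :=
    torsor_claim2 (MulAut.conjNormal g1) (MulAut.conjNormal g2) P (hconjP g1) (hconjP g2)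
      (hfpfP g1 hg1N) ν hνP ψ h1 hcomm h2
  have h5 := torsor_claim1 (MulAut.conjNormal g2) P (hconjP g2) (hfpfP g2 hg2N) ν hνP ψ h4 h2
  apply hne
  funext x
  rw [Pi.mul_apply, ← hνa]
  exact h5 x

end TwelveFour

end Cfsg.Agent.Lib.Helper58.CD3
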