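import Mathlib
import Cfsg.Agent.Lib.Helper74.CR2Defs
import Cfsg.Agent.Lib.Helper77.ConjUnion

/-!
# S4284 keystone KB3 `card_sylow_le` (inside/outside argument)
-/

set_option autoImplicit false

namespace Cfsg.Agent.Lib.Helper58.CR2

open Subgroup Cfsg.Agent.Lib.Helper74.CR2
open scoped Pointwise

/-- `|A ⊓ B| * |A : A ⊓ B| = |A|`. -/
theorem card_inf_mul_relIndex {G : Type*} [Group G] (A B : Subgroup G) :
    Nat.card (A ⊓ B : Subgroup G) * B.relIndex A = Nat.card A := by
  have h := Subgroup.relIndex_mul_relIndex (⊥ : Subgroup G) (A ⊓ B) A bot_le inf_le_left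
  rw [Subgroup.relIndex_bot_left, Subgroup.relIndex_bot_left, Subgroup.inf_relIndex_left] at h
  exact h

/-- Cardinality of a conjugate subgroup. -/
theorem card_conj_smul {G : Type*} [Group G] (c : G) (S : Subgroup G) :
    Nat.card (MulAut.conj c • S : Subgroup G) = Nat.card S :=
  (Nat.card_congr (Subgroup.equivSMul (MulAut.conj c) S).toEquiv).symm

/-- Some Sylow `p`-subgroup of `G` meets `K` in a subgroup of index at most `p`,
as soon as `p ^ 2` does not divide `|G : K|`. -/
theorem exists_sylow_inf_large {G : Type*} [Group G] [Finite G] (p : ℕ) [Fact p.Prime]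
    (K : Subgroup G) (hK : ¬ p ^ 2 ∣ K.index) :
    ∃ P' : Sylow p G,
      Nat.card (P' : Subgroup G) ≤ p * Nat.card ((P' : Subgroup G) ⊓ K : Subgroup G) := by
  classical
  have hpp : p.Prime := Fact.out
  obtain ⟨Q⟩ : Nonempty (Sylow p K) := inferInstance
  have hS : IsPGroup p ((Q : Subgroup K).map K.subtype) := Q.isPGroup'.map K.subtype
  obtain ⟨P', hP'⟩ := hS.exists_le_sylow
  refine ⟨P', ?_⟩
  have hSK : (Q : Subgroup K).map K.subtype ≤ K := by
    rintro _ ⟨y, _, rfl⟩; exact y.2
  have hle : (Q : Subgroup K).map K.subtype ≤ (P' : Subgroup G) ⊓ K := le_inf hP' hSK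
  have hcardS : Nat.card ((Q : Subgroup K).map K.subtype) = Nat.card (Q : Subgroup K) :=
    Subgroup.card_map_of_injective (Subgroup.subtype_injective K)
  have hQ : Nat.card (Q : Subgroup K) = p ^ (Nat.card K).factorization p :=
    Q.card_eq_multiplicity
  have hP : Nat.card (P' : Subgroup G) = p ^ (Nat.card G).factorization p :=
    P'.card_eq_multiplicity
  have hmul : Nat.card K * K.index = Nat.card G := K.card_mul_index
  have hfact : (Nat.card G).factorization p
      = (Nat.card K).factorization p + K.index.factorization p := by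
    rw [← hmul, Nat.factorization_mul Nat.card_pos.ne' K.index_ne_zero_of_finite]; rfl
  have hidx : K.index.factorization p ≤ 1 := by
    by_contra h
    push Not at h
    exact hK ((hpp.pow_dvd_iff_le_factorization K.index_ne_zero_of_finite).2 h)
  have hcard_le : Nat.card ((Q : Subgroup K).map K.subtype)
      ≤ Nat.card ((P' : Subgroup G) ⊓ K : Subgroup G) :=
    Subgroup.card_le_of_le hle
  calc Nat.card (P' : Subgroup G)
      = p ^ ((Nat.card K).factorization p + K.index.factorization p) := by rw [hP, hfact]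
    _ ≤ p ^ ((Nat.card K).factorization p + 1) :=
        Nat.pow_le_pow_right hpp.pos (by omega)
    _ = p * Nat.card ((Q : Subgroup K).map K.subtype) := by
        rw [hcardS, hQ, pow_succ]; ring
    _ ≤ _ := Nat.mul_le_mul_left _ hcard_le

/-- Every Sylow `p`-subgroup meets some conjugate of `K` in a subgroup of index at most `p`,
as soon as `p ^ 2` does not divide `|G : K|`. -/
theorem exists_conj_inf_large {G : Type*} [Group G] [Finite G] (p : ℕ) [Fact p.Prime]
    (K : Subgroup G) (hK : ¬ p ^ 2 ∣ K.index) (P' : Sylow p G) :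
    ∃ c : G, Nat.card (P' : Subgroup G)
      ≤ p * Nat.card ((P' : Subgroup G) ⊓ MulAut.conj c • K : Subgroup G) := by
  obtain ⟨P'', hP''⟩ := exists_sylow_inf_large p K hK
  obtain ⟨c, hc⟩ := MulAction.exists_smul_eq G P'' P'
  refine ⟨c, ?_⟩
  have h1 : (P' : Subgroup G) = MulAut.conj c • (P'' : Subgroup G) := by
    rw [← hc]; rfl
  have h2 : (P' : Subgroup G) ⊓ MulAut.conj c • K
      = MulAut.conj c • ((P'' : Subgroup G) ⊓ K) := by
    rw [h1, Subgroup.smul_inf]
  rw [h2, card_conj_smul, h1, card_conj_smul]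
  exact hP''

/-- Two Sylow `p`-subgroups meet a normal subgroup in subgroups of the same order. -/
theorem card_sylow_inf_normal {G : Type*} [Group G] [Finite G] (p : ℕ) [Fact p.Prime]
    (N : Subgroup G) [N.Normal] (P P' : Sylow p G) :
    Nat.card ((P : Subgroup G) ⊓ N : Subgroup G) = Nat.card ((P' : Subgroup G) ⊓ N : Subgroup G) := by
  obtain ⟨c, hc⟩ := MulAction.exists_smul_eq G P' P
  have h1 : (P : Subgroup G) = MulAut.conj c • (P' : Subgroup G) := by
    rw [← hc]; rfl
  have h2 : (P : Subgroup G) ⊓ N = MulAut.conj c • ((P' : Subgroup G) ⊓ N) := by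
    rw [Subgroup.smul_inf, ← h1, Subgroup.Normal.conj_smul_eq_self]
  rw [h2, card_conj_smul]

/-- KB3: inside/outside argument. -/
theorem card_sylow_le {G : Type*} [Group G] [Finite G] {m n : ℕ} (H : Hyp G m n)
    (p : ℕ) [Fact p.Prime] (hp : p ∣ m) (hp2 : ¬ p ^ 2 ∣ m)
    (Y : Subgroup G) (hYi : Y.index = m)
    (hY : ∀ u ∈ Y, (∃ k : ℕ, orderOf u = p ^ k) → u ∉ center G → centralizer ({u} : Set G) ≤ Y)
    (P : Sylow p G) :
    Nat.card (P : Subgroup G) ≤ p ^ 2 * Nat.card ((P : Subgroup G) ⊓ center G : Subgroup G) := by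
  classical
  have hpp : p.Prime := Fact.out
  -- `p ^ 2` divides no class size
  have hidx : ∀ g : G, ¬ p ^ 2 ∣ (centralizer ({g} : Set G)).index := by
    intro g
    have hmem : (centralizer ({g} : Set G)).index ∈ ({1, m, m * n} : Set ℕ) := by
      rw [← H.h]; exact ⟨g, rfl⟩
    rcases hmem with h | h | h
    · rw [h]; intro hd
      have h1 := Nat.le_of_dvd one_pos hd
      have h2 := hpp.two_le
      nlinarith
    · rw [h]; exact hp2
    · rw [h]; intro hd
      have hcop : (p ^ 2).Coprime n :=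
        Nat.Coprime.pow_left 2 (Nat.Coprime.coprime_dvd_left hp H.hcop)
      exact hp2 (hcop.dvd_of_dvd_mul_right hd)
  -- it suffices to treat one Sylow subgroup
  suffices h : ∃ P' : Sylow p G, Nat.card (P' : Subgroup G)
      ≤ p ^ 2 * Nat.card ((P' : Subgroup G) ⊓ center G : Subgroup G) by
    obtain ⟨P', hP'⟩ := h
    rw [card_sylow_inf_normal p (center G) P P']
    have e1 : Nat.card (P : Subgroup G) = Nat.card (P' : Subgroup G) := by
      rw [P.card_eq_multiplicity, P'.card_eq_multiplicity]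
    rw [e1]; exact hP'
  -- Jordan: `g0` in no conjugate of `Y`
  have hYtop : Y ≠ ⊤ := by
    intro h
    rw [h, Subgroup.index_top] at hYi
    have := H.hm
    omega
  obtain ⟨g0, hg0⟩ := Cfsg.Agent.Lib.Helper77.exists_not_mem_conj Y hYtop
  by_cases hx : ∃ x ∈ centralizer ({g0} : Set G), (∃ k : ℕ, orderOf x = p ^ k) ∧ x ∉ center G
  · obtain ⟨x, hxg, hxp, hxZ⟩ := hx
    obtain ⟨P', hP'⟩ := exists_sylow_inf_large p (centralizer ({x} : Set G)) (hidx x)
    have hYi2 : ¬ p ^ 2 ∣ Y.index := by rw [hYi]; exact hp2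
    obtain ⟨c, hc⟩ := exists_conj_inf_large p Y hYi2 P'
    refine ⟨P', ?_⟩
    set Y' : Subgroup G := MulAut.conj c • Y with hY'
    -- the hypothesis on `Y` transfers to `Y'`
    have hYc : ∀ w ∈ Y', (∃ k : ℕ, orderOf w = p ^ k) → w ∉ center G →
        centralizer ({w} : Set G) ≤ Y' := by
      intro w hw hwp hwZ
      rw [hY', Cfsg.Agent.Lib.Helper77.mem_conj_smul_iff] at hw
      have ho : orderOf (c⁻¹ * w * c) = orderOf w := by
        have := (MulAut.conj c⁻¹).orderOf_eq w
        simpa using this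
      have hZ0 : c⁻¹ * w * c ∉ center G := by
        intro hmem
        apply hwZ
        have := (inferInstance : (center G).Normal).conj_mem _ hmem c
        simpa [mul_assoc] using this
      have hC := hY _ hw (by rw [ho]; exact hwp) hZ0
      intro g hg
      rw [hY', Cfsg.Agent.Lib.Helper77.mem_conj_smul_iff]
      apply hC
      rw [Subgroup.mem_centralizer_singleton_iff] at hg ⊢
      calc c⁻¹ * g * c * (c⁻¹ * w * c) = c⁻¹ * (g * w) * c := by group
        _ = c⁻¹ * (w * g) * c := by rw [hg]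
        _ = c⁻¹ * w * c * (c⁻¹ * g * c) := by group
    -- `x ∉ Y'`
    have hxY' : x ∉ Y' := by
      intro hxY
      have h1 := hYc x hxY hxp hxZ
      have h2 : g0 ∈ centralizer ({x} : Set G) := by
        rw [Subgroup.mem_centralizer_singleton_iff] at hxg ⊢
        exact hxg.symm
      exact hg0 c (h1 h2)
    set A : Subgroup G := (P' : Subgroup G) ⊓ centralizer ({x} : Set G) with hA
    -- `A ⊓ Y' ≤ P' ⊓ Z`
    have hAY : A ⊓ Y' ≤ (P' : Subgroup G) ⊓ center G := by
      intro w hw
      obtain ⟨⟨hwP, hwx⟩, hwY⟩ := hw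
      refine ⟨hwP, ?_⟩
      by_contra hwZ
      have hwp : ∃ k : ℕ, orderOf w = p ^ k := by
        obtain ⟨k, hk⟩ := (IsPGroup.iff_orderOf.1 P'.isPGroup') ⟨w, hwP⟩
        exact ⟨k, by simpa using hk⟩
      have h1 := hYc w hwY hwp hwZ
      apply hxY'
      apply h1
      have hwx' : w ∈ centralizer ({x} : Set G) := hwx
      rw [Subgroup.mem_centralizer_singleton_iff] at hwx' ⊢
      exact hwx'.symm
    -- indices
    have hrelP : Y'.relIndex (P' : Subgroup G) ≤ p := by
      have h1 := card_inf_mul_relIndex (P' : Subgroup G) Y'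
      have hpos : 0 < Nat.card ((P' : Subgroup G) ⊓ Y' : Subgroup G) := Nat.card_pos
      rw [← h1, mul_comm] at hc
      exact Nat.le_of_mul_le_mul_right hc hpos
    have hrelA : Y'.relIndex A ≤ p := by
      refine le_trans (Subgroup.relIndex_le_of_le_right inf_le_left ?_) hrelP
      intro h0
      have h1 := card_inf_mul_relIndex (P' : Subgroup G) Y'
      rw [h0, mul_zero] at h1
      exact (Nat.card_pos (α := (P' : Subgroup G))).ne h1
    have hAcard : Nat.card A ≤ p * Nat.card ((P' : Subgroup G) ⊓ center G : Subgroup G) := by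
      rw [← card_inf_mul_relIndex A Y', mul_comm]
      exact Nat.mul_le_mul hrelA (Subgroup.card_le_of_le hAY)
    calc Nat.card (P' : Subgroup G) ≤ p * Nat.card A := hP'
      _ ≤ p * (p * Nat.card ((P' : Subgroup G) ⊓ center G : Subgroup G)) :=
          Nat.mul_le_mul_left _ hAcard
      _ = p ^ 2 * Nat.card ((P' : Subgroup G) ⊓ center G : Subgroup G) := by ring
  · push Not at hx
    obtain ⟨P', hP'⟩ := exists_sylow_inf_large p (centralizer ({g0} : Set G)) (hidx g0)
    refine ⟨P', ?_⟩
    have hle : (P' : Subgroup G) ⊓ centralizer ({g0} : Set G) ≤ (P' : Subgroup G) ⊓ center G := by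
      intro w hw
      refine ⟨hw.1, ?_⟩
      have hwp : ∃ k : ℕ, orderOf w = p ^ k := by
        obtain ⟨k, hk⟩ := (IsPGroup.iff_orderOf.1 P'.isPGroup') ⟨w, hw.1⟩
        exact ⟨k, by simpa using hk⟩
      exact hx w hw.2 hwp
    have h2 := hpp.two_le
    calc Nat.card (P' : Subgroup G)
        ≤ p * Nat.card ((P' : Subgroup G) ⊓ centralizer ({g0} : Set G) : Subgroup G) := hP'
      _ ≤ p * Nat.card ((P' : Subgroup G) ⊓ center G : Subgroup G) :=
          Nat.mul_le_mul_left _ (Subgroup.card_le_of_le hle)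
      _ ≤ p ^ 2 * Nat.card ((P' : Subgroup G) ⊓ center G : Subgroup G) := by
          apply Nat.mul_le_mul_right
          nlinarith

end Cfsg.Agent.Lib.Helper58.CR2
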