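import Mathlib
import Cfsg.Agent.Lib.Helper58.Basic

set_option autoImplicit false

namespace Cfsg.Agent.Lib.Helper58

open Subgroup

variable {G : Type*} [Group G]

/-- The Chermak–Delgado measure. -/
noncomputable def cdm (H : Subgroup G) : ℕ :=
  Nat.card H * Nat.card ↥(Subgroup.centralizer (H : Set G))

theorem cdm_pos [Finite G] (H : Subgroup G) : 0 < cdm H :=
  Nat.mul_pos Nat.card_pos Nat.card_pos

theorem centralizer_sup_le (H K : Subgroup G) :
    Subgroup.centralizer (H : Set G) ⊓ Subgroup.centralizer (K : Set G) ≤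
      Subgroup.centralizer ((H ⊔ K : Subgroup G) : Set G) := by
  intro x hx
  have hxH : H ≤ Subgroup.centralizer ({x} : Set G) := by
    intro a ha
    rw [Subgroup.mem_centralizer_iff]
    intro y hy
    rw [Set.mem_singleton_iff] at hy
    subst hy
    exact (hx.1 a ha).symm
  have hxK : K ≤ Subgroup.centralizer ({x} : Set G) := by
    intro b hb
    rw [Subgroup.mem_centralizer_iff]
    intro y hy
    rw [Set.mem_singleton_iff] at hy
    subst hy
    exact (hx.2 b hb).symm
  have hHK : H ⊔ K ≤ Subgroup.centralizer ({x} : Set G) := sup_le hxH hxK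
  rw [Subgroup.mem_centralizer_iff]
  intro y hy
  have := hHK hy
  rw [Subgroup.mem_centralizer_iff] at this
  exact (this x rfl).symm

theorem cdm_submod [Finite G] (H K : Subgroup G) :
    cdm H * cdm K ≤ cdm (H ⊔ K) * cdm (H ⊓ K) := by
  unfold cdm
  have h1 := card_mul_card_le_sup_mul_inf H K
  have h2 := card_mul_card_le_sup_mul_inf (Subgroup.centralizer (H : Set G))
    (Subgroup.centralizer (K : Set G))
  have h3 : Nat.card ↥(Subgroup.centralizer (H : Set G) ⊔ Subgroup.centralizer (K : Set G)) ≤
      Nat.card ↥(Subgroup.centralizer ((H ⊓ K : Subgroup G) : Set G)) := by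
    apply Subgroup.card_le_of_le
    apply sup_le
    · exact Subgroup.centralizer_le (by exact_mod_cast (inf_le_left : H ⊓ K ≤ H))
    · exact Subgroup.centralizer_le (by exact_mod_cast (inf_le_right : H ⊓ K ≤ K))
  have h4 : Nat.card ↥(Subgroup.centralizer (H : Set G) ⊓ Subgroup.centralizer (K : Set G)) ≤
      Nat.card ↥(Subgroup.centralizer ((H ⊔ K : Subgroup G) : Set G)) :=
    Subgroup.card_le_of_le (centralizer_sup_le H K)
  calc Nat.card H * Nat.card ↥(Subgroup.centralizer (H : Set G)) *
        (Nat.card K * Nat.card ↥(Subgroup.centralizer (K : Set G)))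
      = (Nat.card H * Nat.card K) * (Nat.card ↥(Subgroup.centralizer (H : Set G)) *
          Nat.card ↥(Subgroup.centralizer (K : Set G))) := by ring
    _ ≤ (Nat.card ↥(H ⊔ K) * Nat.card ↥(H ⊓ K)) *
        (Nat.card ↥(Subgroup.centralizer ((H ⊓ K : Subgroup G) : Set G)) *
          Nat.card ↥(Subgroup.centralizer ((H ⊔ K : Subgroup G) : Set G))) :=
        Nat.mul_le_mul h1 (h2.trans (Nat.mul_le_mul h3 h4))
    _ = _ := by ring

/-- conjugation invariance of the measure (one inequality suffices in applications) -/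
theorem cdm_conj [Finite G] (H : Subgroup G) (g : G) :
    cdm (H.map (MulAut.conj g).toMonoidHom) = cdm H := by
  unfold cdm
  have h1 : Nat.card ↥(H.map (MulAut.conj g).toMonoidHom) = Nat.card H :=
    Subgroup.card_map_of_injective (MulAut.conj g).injective
  have h2 : Subgroup.centralizer ((H.map (MulAut.conj g).toMonoidHom : Subgroup G) : Set G) =
      (Subgroup.centralizer (H : Set G)).map (MulAut.conj g).toMonoidHom := by
    ext x
    constructor
    · intro hx
      refine ⟨g⁻¹ * x * g, ?_, ?_⟩
      · change g⁻¹ * x * g ∈ Subgroup.centralizer (H : Set G)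
        rw [Subgroup.mem_centralizer_iff]
        intro h hh
        have := hx (g * h * g⁻¹) ⟨h, hh, rfl⟩
        calc h * (g⁻¹ * x * g) = g⁻¹ * ((g * h * g⁻¹) * x) * g := by group
          _ = g⁻¹ * (x * (g * h * g⁻¹)) * g := by rw [this]
          _ = g⁻¹ * x * g * h := by group
      · simp [MulAut.conj_apply, mul_assoc]
    · rintro ⟨c, hc, rfl⟩
      rw [Subgroup.mem_centralizer_iff]
      rintro _ ⟨h, hh, rfl⟩
      have := hc h hh
      simp only [MulEquiv.coe_toMonoidHom, MulAut.conj_apply]
      calc g * h * g⁻¹ * (g * c * g⁻¹) = g * (h * c) * g⁻¹ := by group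
        _ = g * (c * h) * g⁻¹ := by rw [this]
        _ = g * c * g⁻¹ * (g * h * g⁻¹) := by group
  rw [h1, h2, Subgroup.card_map_of_injective (MulAut.conj g).injective]

theorem cdm_le_cdm_centralizer [Finite G] (H : Subgroup G) :
    cdm H ≤ cdm (Subgroup.centralizer (H : Set G)) := by
  unfold cdm
  rw [mul_comm]
  apply Nat.mul_le_mul_left
  apply Subgroup.card_le_of_le
  intro h hh
  rw [Subgroup.mem_centralizer_iff]
  intro c hc
  exact (hc h hh).symm

end Cfsg.Agent.Lib.Helper58
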