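import Cfsg.Agent.Lib.Helper70.AltSylow6

set_option autoImplicit false

/-! The centralizer of a double transposition in `A₆` is dihedral of order 8. -/

namespace Cfsg.Agent.Lib.Helper58.D8C

open Equiv Cfsg.Agent.Lib.Helper70.AltSyl6

set_option maxRecDepth 100000 in
theorem comm_sq_mem : ∀ σ : Perm (Fin 6), σ * (r4 * r4) = (r4 * r4) * σ → Perm.sign σ = 1 →
    ∃ a : DihedralGroup 4, fD a = σ := by decide +kernel

theorem fD_comm_sq : ∀ a : DihedralGroup 4, fD a * (r4 * r4) = (r4 * r4) * fD a := by decide

theorem cycleType_sq : (r4 * r4).cycleType = {2, 2} := by decide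

theorem sign_sq : Perm.sign (r4 * r4) = 1 := by decide

/-- the double transposition `(0 1)(2 3)`, as an element of `A₆` -/
def a0 : alternatingGroup (Fin 6) := ⟨r4 * r4, Perm.mem_alternatingGroup.mpr sign_sq⟩

theorem centralizer_a0 :
    Subgroup.centralizer ({a0} : Set (alternatingGroup (Fin 6))) = homD.range := by
  ext σ
  rw [Subgroup.mem_centralizer_singleton_iff, MonoidHom.mem_range]
  constructor
  · intro h
    have h1 : (σ : Perm (Fin 6)) * (r4 * r4) = (r4 * r4) * (σ : Perm (Fin 6)) := by
      have := congrArg Subtype.val h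
      simpa [a0] using this
    obtain ⟨a, ha⟩ := comm_sq_mem σ h1 (Perm.mem_alternatingGroup.mp σ.2)
    exact ⟨a, Subtype.ext ha⟩
  · rintro ⟨a, rfl⟩
    apply Subtype.ext
    exact fD_comm_sq a

/-- centralizers correspond under isomorphisms -/
noncomputable def centralizerEquiv {G H : Type*} [Group G] [Group H] (φ : G ≃* H) (x : G) :
    Subgroup.centralizer ({x} : Set G) ≃* Subgroup.centralizer ({φ x} : Set H) :=
  (φ.subgroupMap (Subgroup.centralizer ({x} : Set G))).trans
    (MulEquiv.subgroupCongr (by
      ext y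
      rw [Subgroup.mem_map, Subgroup.mem_centralizer_singleton_iff]
      constructor
      · rintro ⟨c, hc, rfl⟩
        rw [Subgroup.mem_centralizer_singleton_iff] at hc
        show φ c * φ x = φ x * φ c
        rw [← map_mul, ← map_mul, hc]
      · intro hy
        refine ⟨φ.symm y, ?_, by simp⟩
        rw [Subgroup.mem_centralizer_singleton_iff]
        apply φ.injective
        rw [map_mul, map_mul]
        simpa using hy))

/-- the centralizer in `A₆` of a double transposition is dihedral of order 8 -/
theorem nonempty_centralizer_equiv (αt : alternatingGroup (Fin 6)) (hαt : orderOf αt = 2)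
    (hsupp : (αt : Perm (Fin 6)).support.card = 4) :
    Nonempty (Subgroup.centralizer ({αt} : Set (alternatingGroup (Fin 6))) ≃* DihedralGroup 4) := by
  have hord : orderOf (αt : Perm (Fin 6)) = 2 := by
    rw [← hαt]; exact Subgroup.orderOf_coe αt
  obtain ⟨n, hn⟩ := Perm.cycleType_prime_order (σ := (αt : Perm (Fin 6)))
    (by rw [hord]; exact Nat.prime_two)
  rw [hord] at hn
  have hsum := Perm.sum_cycleType (αt : Perm (Fin 6))
  rw [hn, hsupp, Multiset.sum_replicate, smul_eq_mul] at hsum
  have hn1 : n = 1 := by omega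
  have hct : (αt : Perm (Fin 6)).cycleType = (r4 * r4).cycleType := by
    rw [hn, hn1, cycleType_sq]; rfl
  obtain ⟨g, hg⟩ := isConj_iff.mp (Perm.isConj_iff_cycleType_eq.mpr hct)
  have hφ : (MulAut.conjNormal g : MulAut (alternatingGroup (Fin 6))) αt = a0 := by
    apply Subtype.ext
    rw [MulAut.conjNormal_apply]
    exact hg
  have e1 := centralizerEquiv (MulAut.conjNormal g : MulAut (alternatingGroup (Fin 6))) αt
  rw [hφ] at e1
  have e2 : Subgroup.centralizer ({a0} : Set (alternatingGroup (Fin 6))) ≃* DihedralGroup 4 :=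
    (MulEquiv.subgroupCongr centralizer_a0).trans (MonoidHom.ofInjective homD_injective).symm
  exact ⟨e1.trans e2⟩

end Cfsg.Agent.Lib.Helper58.D8C
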