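import Cfsg.Agent.Lib.Helper52.Dihedral
import Cfsg.Agent.Lib.Helper52.PResidual
import Cfsg.Agent.Lib.Helper27.S1213Wr
import Cfsg.Agent.Lib.Helper20.D8Group

set_option autoImplicit false
set_option linter.unusedSectionVars false

/-! A finite group with no subgroup of index 2 and an involution whose centralizer is dihedral of
order 8 is simple (and perfect). -/

namespace Cfsg.Agent.Lib.Helper58.D8C

open DihedralGroup
open scoped commutatorElement

variable {G : Type*} [Group G] [Finite G]

/-- no subgroup of index two: `O^2(G) = G` -/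
theorem pResidual_eq_top_of_no_index_two (hG : ∀ H : Subgroup G, H.index ≠ 2) :
    Cfsg.pResidual 2 G = ⊤ := by
  have : Fact (Nat.Prime 2) := ⟨Nat.prime_two⟩
  by_contra hne
  obtain ⟨j, hj⟩ := IsPGroup.iff_card.mp
    (Cfsg.Agent.Lib.Helper52.quotient_pResidual_isPGroup 2 G)
  rw [← Subgroup.index_eq_card] at hj
  have hj1 : 1 ≤ j := by
    rcases Nat.eq_zero_or_pos j with h0 | h0
    · exfalso
      rw [h0, pow_zero, Subgroup.index_eq_one] at hj
      exact hne hj
    · exact h0
  obtain ⟨H, hH⟩ := Cfsg.Agent.Lib.Helper27.exists_index_two_of_normal_index_pow hj1 hj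
  exact hG H hH

theorem d8_prod_inv : ∀ d : DihedralGroup 4, ∃ a b : DihedralGroup 4,
    a * a = 1 ∧ b * b = 1 ∧ d = a * b := by decide

theorem d8_not_comm : (r 1 : DihedralGroup 4) * sr 0 ≠ sr 0 * r 1 := by decide

theorem d8_sr_ne : (sr 0 : DihedralGroup 4) ≠ r 2 := by decide

theorem d8_sr_sq : (sr 0 : DihedralGroup 4) * sr 0 = 1 := by decide

theorem d8_sr_ne_one : (sr 0 : DihedralGroup 4) ≠ 1 := by decide

section main

variable (hG : ∀ H : Subgroup G, H.index ≠ 2) (α : G) (hα : orderOf α = 2)
  (e : Subgroup.centralizer ({α} : Set G) ≃* DihedralGroup 4)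

include hα e

theorem alpha_mem : α ∈ Subgroup.centralizer ({α} : Set G) :=
  Subgroup.mem_centralizer_singleton_iff.mpr rfl

theorem alpha_ne_one : α ≠ 1 := by
  intro h
  rw [h, orderOf_one] at hα
  exact absurd hα (by norm_num)

/-- the central non-identity elements of `C(α)` are `α` -/
theorem central_eq (c : Subgroup.centralizer ({α} : Set G))
    (hc : ∀ y : Subgroup.centralizer ({α} : Set G), c * y = y * c) (hc1 : c ≠ 1) :
    (c : G) = α := by
  have h1 : e c = r 2 := by
    apply Cfsg.Agent.Lib.Helper20.d8_central_eq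
    · intro y
      obtain ⟨y', rfl⟩ := e.surjective y
      rw [← map_mul, ← map_mul, hc]
    · intro h
      exact hc1 (e.injective (by rw [h, map_one]))
  have h2 : e ⟨α, alpha_mem α hα e⟩ = r 2 := by
    apply Cfsg.Agent.Lib.Helper20.d8_central_eq
    · intro y
      obtain ⟨y', rfl⟩ := e.surjective y
      rw [← map_mul, ← map_mul]
      congr 1
      apply Subtype.ext
      rw [Subgroup.coe_mul, Subgroup.coe_mul]
      exact (Subgroup.mem_centralizer_singleton_iff.mp y'.2).symm
    · intro h
      have := e.injective (by rw [h, map_one] : e ⟨α, alpha_mem α hα e⟩ = e 1)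
      exact alpha_ne_one α hα e (congrArg Subtype.val this)
  have := e.injective (h1.trans h2.symm)
  exact congrArg Subtype.val this

theorem card_centralizer : Nat.card (Subgroup.centralizer ({α} : Set G)) = 8 := by
  rw [Nat.card_congr e.toEquiv, DihedralGroup.nat_card]

theorem isPGroup_centralizer : IsPGroup 2 (Subgroup.centralizer ({α} : Set G)) :=
  IsPGroup.of_card (n := 3) (by rw [card_centralizer α hα e]; norm_num)

/-- `C(α)` is a Sylow 2-subgroup -/
theorem exists_sylow_eq :
    ∃ S : Sylow 2 G, (S : Subgroup G) = Subgroup.centralizer ({α} : Set G) := by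
  have : Fact (Nat.Prime 2) := ⟨Nat.prime_two⟩
  obtain ⟨S, hS⟩ := (isPGroup_centralizer α hα e).exists_le_sylow
  refine ⟨S, le_antisymm ?_ hS⟩
  have hαS : α ∈ (S : Subgroup G) := hS (alpha_mem α hα e)
  have hnt : Nontrivial (S : Subgroup G) :=
    ⟨⟨⟨α, hαS⟩, 1, fun h => alpha_ne_one α hα e (congrArg Subtype.val h)⟩⟩
  have hcn : Nontrivial (Subgroup.center (S : Subgroup G)) := S.isPGroup'.center_nontrivial
  obtain ⟨z, hz1⟩ := exists_ne (1 : Subgroup.center (S : Subgroup G))
  have hzc : ∀ s : (S : Subgroup G), s * (z : (S : Subgroup G)) = (z : (S : Subgroup G)) * s :=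
    fun s => (Subgroup.mem_center_iff.mp z.2 s)
  have hzα : ((z : (S : Subgroup G)) : G) ∈ Subgroup.centralizer ({α} : Set G) := by
    rw [Subgroup.mem_centralizer_singleton_iff]
    have := congrArg Subtype.val (hzc ⟨α, hαS⟩)
    simpa using this.symm
  have hzeq : ((z : (S : Subgroup G)) : G) = α := by
    apply central_eq α hα e ⟨_, hzα⟩
    · intro y
      apply Subtype.ext
      have := congrArg Subtype.val (hzc ⟨(y : G), hS y.2⟩)
      simpa using this.symm
    · intro h
      apply hz1
      have h0 : ((z : (S : Subgroup G)) : G) = 1 := congrArg Subtype.val h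
      exact Subtype.ext (Subtype.ext h0)
  intro s hs
  rw [Subgroup.mem_centralizer_singleton_iff]
  have := congrArg Subtype.val (hzc ⟨s, hs⟩)
  rw [← hzeq]
  simpa using this

/-- the centralizer is self-normalizing -/
theorem normalizer_centralizer_le :
    Subgroup.normalizer ((Subgroup.centralizer ({α} : Set G) : Subgroup G) : Set G) ≤
      Subgroup.centralizer ({α} : Set G) := by
  intro n hn
  have hmem : n * α * n⁻¹ ∈ Subgroup.centralizer ({α} : Set G) :=
    (Subgroup.mem_normalizer_iff.mp hn α).mp (alpha_mem α hα e)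
  have heq : n * α * n⁻¹ = α := by
    apply central_eq α hα e ⟨_, hmem⟩
    · intro y
      apply Subtype.ext
      rw [Subgroup.coe_mul, Subgroup.coe_mul]
      -- `y = n y' n⁻¹` with `y'` in the centralizer
      have hy' : n⁻¹ * (y : G) * n ∈ Subgroup.centralizer ({α} : Set G) := by
        have := (Subgroup.mem_normalizer_iff.mp hn (n⁻¹ * (y : G) * n)).mpr (by
          have : n * (n⁻¹ * (y : G) * n) * n⁻¹ = (y : G) := by group
          rw [this]; exact y.2)
        exact this
      have hc := Subgroup.mem_centralizer_singleton_iff.mp hy'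
      show n * α * n⁻¹ * (y : G) = (y : G) * (n * α * n⁻¹)
      have h1 : (y : G) = n * (n⁻¹ * (y : G) * n) * n⁻¹ := by group
      rw [h1]
      calc n * α * n⁻¹ * (n * (n⁻¹ * (y : G) * n) * n⁻¹)
          = n * (α * (n⁻¹ * (y : G) * n)) * n⁻¹ := by group
        _ = n * ((n⁻¹ * (y : G) * n) * α) * n⁻¹ := by rw [hc]
        _ = n * (n⁻¹ * (y : G) * n) * n⁻¹ * (n * α * n⁻¹) := by group
    · intro h
      have h2 : n * α * n⁻¹ = 1 := congrArg Subtype.val h
      have h3 : α = 1 := by
        have : α = n⁻¹ * (n * α * n⁻¹) * n := by group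
        rw [this, h2]; group
      exact alpha_ne_one α hα e h3
  rw [Subgroup.mem_centralizer_singleton_iff]
  have : n * α = (n * α * n⁻¹) * n := by group
  rw [this, heq]

include hG

/-- all involutions are conjugate -/
theorem isConj_of_involutions (x y : G) (hx : orderOf x = 2) (hy : orderOf y = 2) : IsConj x y := by
  obtain ⟨S, hS⟩ := exists_sylow_eq α hα e
  have e' : (S : Subgroup G) ≃* DihedralGroup (2 ^ 2) := (MulEquiv.subgroupCongr hS).trans e
  exact Cfsg.Agent.Lib.Helper52.isConj_of_involutions_of_dihedral S 2 e'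
    (pResidual_eq_top_of_no_index_two hG) x y hx hy

/-- a normal subgroup containing an involution is everything -/
theorem eq_top_of_involution_mem (N : Subgroup G) [hN : N.Normal] {t : G} (ht : orderOf t = 2)
    (htN : t ∈ N) : N = ⊤ := by
  have : Fact (Nat.Prime 2) := ⟨Nat.prime_two⟩
  have hall : ∀ u : G, orderOf u = 2 → u ∈ N := by
    intro u hu
    obtain ⟨c, hc⟩ := isConj_iff.mp (isConj_of_involutions hG α hα e t u ht hu)
    rw [← hc]
    exact hN.conj_mem t htN c
  have hsq : ∀ u : G, u * u = 1 → u ∈ N := by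
    intro u hu
    by_cases h1 : u = 1
    · rw [h1]; exact N.one_mem
    · exact hall u (orderOf_eq_prime (by rw [pow_two]; exact hu) h1)
  have hCN : Subgroup.centralizer ({α} : Set G) ≤ N := by
    intro s hs
    obtain ⟨a, b, ha, hb, hab⟩ := d8_prod_inv (e ⟨s, hs⟩)
    have hs' : (⟨s, hs⟩ : Subgroup.centralizer ({α} : Set G)) = e.symm a * e.symm b := by
      apply e.injective
      rw [map_mul, MulEquiv.apply_symm_apply, MulEquiv.apply_symm_apply, hab]
    have hs'' : s = ((e.symm a : Subgroup.centralizer ({α} : Set G)) : G) *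
        ((e.symm b : Subgroup.centralizer ({α} : Set G)) : G) := by
      have := congrArg Subtype.val hs'
      simpa using this
    rw [hs'']
    apply N.mul_mem
    · apply hsq
      have h1 : e.symm a * e.symm a = 1 := by rw [← map_mul, ha, map_one]
      have := congrArg Subtype.val h1
      simpa using this
    · apply hsq
      have h1 : e.symm b * e.symm b = 1 := by rw [← map_mul, hb, map_one]
      have := congrArg Subtype.val h1
      simpa using this
  obtain ⟨S, hS⟩ := exists_sylow_eq α hα e
  have hSN : (S : Subgroup G) ≤ N := by rw [hS]; exact hCN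
  have h1 := Sylow.normalizer_sup_eq_top' S hSN
  have h2 : Subgroup.normalizer ((S : Subgroup G) : Set G) ≤ N := by
    rw [hS]
    exact (normalizer_centralizer_le α hα e).trans hCN
  rw [← h1]
  exact (sup_eq_right.mpr h2).symm

/-- a normal subgroup without involutions is trivial -/
theorem eq_bot_of_no_involution (N : Subgroup G) [hN : N.Normal]
    (hN2 : ∀ n ∈ N, orderOf n ≠ 2) : N = ⊥ := by
  -- elements of `N` of 2-power order are trivial
  have h2pow : ∀ n ∈ N, ∀ k : ℕ, n ^ 2 ^ k = 1 → n = 1 := by
    intro n hn k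
    induction k generalizing n with
    | zero => intro h; simpa using h
    | succ k ih =>
      intro h
      have h1 : (n ^ 2) ^ 2 ^ k = 1 := by rw [← pow_mul, ← pow_succ']; exact h
      have h2 : n ^ 2 = 1 := ih (n ^ 2) (N.pow_mem hn 2) h1
      by_contra hne
      exact hN2 n hn (orderOf_eq_prime h2 hne)
  -- `α` inverts `N`
  have hfpf : MonoidHom.FixedPointFree (MulAut.conjNormal α : MulAut N) := by
    intro n hn
    have h1 : α * (n : G) * α⁻¹ = (n : G) := by
      have := congrArg Subtype.val hn
      rwa [MulAut.conjNormal_apply] at this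
    have hmem : (n : G) ∈ Subgroup.centralizer ({α} : Set G) := by
      rw [Subgroup.mem_centralizer_singleton_iff]
      have : α * (n : G) = (α * (n : G) * α⁻¹) * α := by group
      rw [this, h1]
    obtain ⟨k, hk⟩ := isPGroup_centralizer α hα e ⟨(n : G), hmem⟩
    have hk' : (n : G) ^ 2 ^ k = 1 := by
      have := congrArg Subtype.val hk
      simpa using this
    exact Subtype.ext (h2pow n n.2 k hk')
  have hα2 : α * α = 1 := by rw [← pow_two, ← hα, pow_orderOf_eq_one]
  have hinv : Function.Involutive (MulAut.conjNormal α : MulAut N) := by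
    intro n
    apply Subtype.ext
    rw [MulAut.conjNormal_apply, MulAut.conjNormal_apply]
    have : α * (α * (n : G) * α⁻¹) * α⁻¹ = (α * α) * (n : G) * (α * α)⁻¹ := by group
    rw [this, hα2]; group
  have hαinv : ∀ n ∈ N, α * n * α⁻¹ = n⁻¹ := by
    intro n hn
    have h1 := congrFun (hfpf.coe_eq_inv_of_involutive hinv) ⟨n, hn⟩
    have h2 := congrArg Subtype.val h1
    rwa [MulAut.conjNormal_apply] at h2
  -- every involution inverts `N`
  have hallinv : ∀ t : G, orderOf t = 2 → ∀ n ∈ N, t * n * t⁻¹ = n⁻¹ := by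
    intro t ht n hn
    obtain ⟨c, hc⟩ := isConj_iff.mp (isConj_of_involutions hG α hα e α t hα ht)
    have hn' : c⁻¹ * n * c ∈ N := by
      have := hN.conj_mem n hn c⁻¹
      simpa using this
    have h1 := hαinv _ hn'
    rw [← hc]
    calc c * α * c⁻¹ * n * (c * α * c⁻¹)⁻¹ = c * (α * (c⁻¹ * n * c) * α⁻¹) * c⁻¹ := by group
      _ = c * (c⁻¹ * n * c)⁻¹ * c⁻¹ := by rw [h1]
      _ = n⁻¹ := by group
  -- a second involution commuting with `α`
  set u : G := ((e.symm (sr 0) : Subgroup.centralizer ({α} : Set G)) : G) with hu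
  have huα : u * α = α * u :=
    Subgroup.mem_centralizer_singleton_iff.mp (e.symm (sr 0)).2
  have hu2 : u * u = 1 := by
    have h1 : e.symm (sr 0) * e.symm (sr 0) = (1 : Subgroup.centralizer ({α} : Set G)) := by
      rw [← map_mul, d8_sr_sq, map_one]
    have := congrArg Subtype.val h1
    simpa using this
  have hu1 : u ≠ 1 := by
    intro h
    have h1 : e.symm (sr 0) = (1 : Subgroup.centralizer ({α} : Set G)) := Subtype.ext h
    have h2 : (sr 0 : DihedralGroup 4) = 1 := by
      have := congrArg e h1
      rwa [MulEquiv.apply_symm_apply, map_one] at this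
    exact d8_sr_ne_one h2
  have huo : orderOf u = 2 := orderOf_eq_prime (by rw [pow_two]; exact hu2) hu1
  have hune : u ≠ α := by
    intro h
    have hc : ∀ y : Subgroup.centralizer ({α} : Set G), e.symm (sr 0) * y = y * e.symm (sr 0) := by
      intro y
      apply Subtype.ext
      rw [Subgroup.coe_mul, Subgroup.coe_mul]
      show u * (y : G) = (y : G) * u
      rw [h]
      exact (Subgroup.mem_centralizer_singleton_iff.mp y.2).symm
    have h2 : e (e.symm (sr 0)) = r 2 := by
      apply Cfsg.Agent.Lib.Helper20.d8_central_eq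
      · intro y
        obtain ⟨y', rfl⟩ := e.surjective y
        rw [← map_mul, ← map_mul, hc]
      · rw [MulEquiv.apply_symm_apply]; exact d8_sr_ne_one
    rw [MulEquiv.apply_symm_apply] at h2
    exact d8_sr_ne h2
  have hw2 : (α * u) * (α * u) = 1 := by
    calc (α * u) * (α * u) = α * (u * α) * u := by group
      _ = α * (α * u) * u := by rw [huα]
      _ = (α * α) * (u * u) := by group
      _ = 1 := by rw [hα2, hu2, one_mul]
  have hw1 : α * u ≠ 1 := by
    intro h
    apply hune
    have : u = α⁻¹ := by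
      have : u = α⁻¹ * (α * u) := by group
      rw [this, h, mul_one]
    rw [this]
    exact inv_eq_of_mul_eq_one_left hα2
  have hwo : orderOf (α * u) = 2 := orderOf_eq_prime (by rw [pow_two]; exact hw2) hw1
  rw [eq_bot_iff]
  intro n hn
  rw [Subgroup.mem_bot]
  have h1 := hallinv (α * u) hwo n hn
  have h2 := hallinv u huo n hn
  have h3 := hαinv n⁻¹ (N.inv_mem hn)
  have h4 : α * u * n * (α * u)⁻¹ = n := by
    calc α * u * n * (α * u)⁻¹ = α * (u * n * u⁻¹) * α⁻¹ := by group
      _ = α * n⁻¹ * α⁻¹ := by rw [h2]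
      _ = n := by rw [h3, inv_inv]
  have h5 : n = n⁻¹ := h4.symm.trans h1
  have h6 : n ^ 2 ^ 1 = 1 := by
    rw [pow_one, pow_two]
    nth_rewrite 2 [h5]
    exact mul_inv_cancel n
  exact h2pow n hn 1 h6

/-- **Main theorem**: `G` is simple. -/
theorem isSimpleGroup : IsSimpleGroup G := by
  have hnt : Nontrivial G := ⟨⟨α, 1, alpha_ne_one α hα e⟩⟩
  refine ⟨fun N hN => ?_⟩
  by_cases h : ∃ n ∈ N, orderOf n = 2
  · obtain ⟨t, htN, ht⟩ := h
    exact Or.inr (eq_top_of_involution_mem hG α hα e N ht htN)
  · push Not at h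
    exact Or.inl (eq_bot_of_no_involution hG α hα e N h)

/-- `G` is perfect. -/
theorem commutator_eq_top : commutator G = ⊤ := by
  have hs := isSimpleGroup hG α hα e
  rcases hs.eq_bot_or_eq_top_of_normal (commutator G) inferInstance with h | h
  · exfalso
    have hcomm : ∀ a b : G, a * b = b * a := by
      intro a b
      have h1 : ⁅a, b⁆ ∈ commutator G :=
        Subgroup.commutator_mem_commutator (Subgroup.mem_top a) (Subgroup.mem_top b)
      rw [h, Subgroup.mem_bot] at h1
      exact commutatorElement_eq_one_iff_mul_comm.mp h1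
    apply d8_not_comm
    have h1 := hcomm ((e.symm (r 1) : Subgroup.centralizer ({α} : Set G)) : G)
      ((e.symm (sr 0) : Subgroup.centralizer ({α} : Set G)) : G)
    have h2 : e.symm (r 1) * e.symm (sr 0) = e.symm (sr 0) * e.symm (r 1) := by
      apply Subtype.ext
      rw [Subgroup.coe_mul, Subgroup.coe_mul]
      exact h1
    have h3 := congrArg e h2
    simpa using h3
  · exact h

end main

end Cfsg.Agent.Lib.Helper58.D8C
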