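import Cfsg.Agent.Lib.Helper07.PSL27
import Cfsg.Agent.Lib.Helper38.ZStarCor
import Cfsg.Agent.Lib.Helper41.Frobenius

set_option autoImplicit false

/-! General lemmas for the dihedral-of-order-8 centralizer theorem: recognition of symmetric groups by
a core-free subgroup, normal subgroups of order at most two, normal 2-complements and index two. -/

namespace Cfsg.Agent.Lib.Helper58.D8C

variable {G : Type*} [Group G] [Finite G]

/-- a group of order `n!` with a core-free subgroup of index `n` is the symmetric group -/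
theorem iso_perm_of_core (N : Subgroup G) (n : ℕ) (hidx : N.index = n)
    (hcore : N.normalCore = ⊥) (hcard : Nat.card G = n.factorial) :
    Nonempty (G ≃* Equiv.Perm (Fin n)) := by
  classical
  have hfin : Fintype (G ⧸ N) := Fintype.ofFinite _
  have hc : Fintype.card (G ⧸ N) = n := by
    rw [← Nat.card_eq_fintype_card, ← Subgroup.index_eq_card, hidx]
  let ε : (G ⧸ N) ≃ Fin n := Fintype.equivFinOfCardEq hc
  let f : G →* Equiv.Perm (Fin n) :=
    (Equiv.permCongrHom ε).toMonoidHom.comp (MulAction.toPermHom G (G ⧸ N))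
  have hinj : Function.Injective f := by
    rw [injective_iff_map_eq_one]
    intro g hg
    have h1 : (MulAction.toPermHom G (G ⧸ N)) g = 1 := by
      have : (Equiv.permCongrHom ε) ((MulAction.toPermHom G (G ⧸ N)) g) = 1 := hg
      exact (MulEquiv.map_eq_one_iff (Equiv.permCongrHom ε)).mp this
    have h2 : g ∈ N.normalCore := by
      rw [Subgroup.normalCore_eq_ker]
      exact h1
    rw [hcore] at h2
    exact Subgroup.mem_bot.mp h2
  have hbij : Function.Bijective f := by
    rw [Nat.bijective_iff_injective_and_card]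
    refine ⟨hinj, ?_⟩
    rw [hcard, Nat.card_eq_fintype_card, Fintype.card_perm, Fintype.card_fin]
  exact ⟨MulEquiv.ofBijective f hbij⟩

omit [Finite G] in
/-- a normal subgroup of order at most two is central -/
theorem central_of_normal_card_le_two (K : Subgroup G) [hK : K.Normal] [Finite K]
    (hc : Nat.card K ≤ 2) (k : G) (hk : k ∈ K) (g : G) : g * k = k * g := by
  by_cases hk1 : k = 1
  · rw [hk1, mul_one, one_mul]
  have hne : (⟨k, hk⟩ : K) ≠ 1 := fun h => hk1 (congrArg Subtype.val h)
  have ho : orderOf (⟨k, hk⟩ : K) = 2 := by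
    have h1 : orderOf (⟨k, hk⟩ : K) ∣ Nat.card K := orderOf_dvd_natCard _
    have h2 : orderOf (⟨k, hk⟩ : K) ≤ 2 := (Nat.le_of_dvd Nat.card_pos h1).trans hc
    have h3 : orderOf (⟨k, hk⟩ : K) ≠ 1 := by
      rw [Ne, orderOf_eq_one_iff]; exact hne
    have h4 : 0 < orderOf (⟨k, hk⟩ : K) := orderOf_pos _
    omega
  have hcard : Nat.card K = 2 := by
    have h1 : orderOf (⟨k, hk⟩ : K) ∣ Nat.card K := orderOf_dvd_natCard _
    rw [ho] at h1
    have := Nat.le_of_dvd Nat.card_pos h1
    omega
  -- every element of `K` is `1` or `k`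
  have hall : ∀ x : K, x = 1 ∨ x = ⟨k, hk⟩ := by
    intro x
    have hz : Subgroup.zpowers (⟨k, hk⟩ : K) = ⊤ := by
      apply Subgroup.eq_top_of_card_eq
      rw [Nat.card_zpowers, ho, hcard]
    have hx : x ∈ Subgroup.zpowers (⟨k, hk⟩ : K) := by rw [hz]; exact Subgroup.mem_top x
    obtain ⟨i, hi⟩ := Subgroup.mem_zpowers_iff.mp hx
    have hk2 : (⟨k, hk⟩ : K) ^ (2 : ℤ) = 1 := by
      have h0 : (⟨k, hk⟩ : K) ^ 2 = 1 := by
        have := pow_orderOf_eq_one (⟨k, hk⟩ : K)
        rwa [ho] at this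
      exact_mod_cast h0
    rcases Int.emod_two_eq_zero_or_one i with h | h
    · left
      rw [← hi, ← Int.mul_ediv_add_emod i 2, h, add_zero, zpow_mul, hk2, one_zpow]
    · right
      rw [← hi, ← Int.mul_ediv_add_emod i 2, h, zpow_add, zpow_mul, hk2, one_zpow, one_mul, zpow_one]
  have hconj : g * k * g⁻¹ ∈ K := hK.conj_mem k hk g
  rcases hall ⟨g * k * g⁻¹, hconj⟩ with h | h
  · exfalso
    have h1 : g * k * g⁻¹ = 1 := congrArg Subtype.val h
    apply hk1
    have : k = g⁻¹ * (g * k * g⁻¹) * g := by group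
    rw [this, h1]; group
  · have h1 : g * k * g⁻¹ = k := congrArg Subtype.val h
    calc g * k = g * k * g⁻¹ * g := by group
      _ = k * g := by rw [h1]

/-- a normal `2`-complement of a subgroup of index two gives a normal subgroup of odd order and
`2`-power index -/
theorem exists_normal_odd_of_index_two (H : Subgroup G) (hH : H.index = 2)
    (h : Cfsg.HasNormalPComplement 2 H) :
    ∃ N : Subgroup G, N.Normal ∧ Odd (Nat.card N) ∧ ∃ k : ℕ, N.index = 2 ^ k := by
  have : Fact (Nat.Prime 2) := ⟨Nat.prime_two⟩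
  have hHn : H.Normal := Subgroup.normal_of_index_eq_two hH
  obtain ⟨P, N, hN, hc⟩ := h
  have hcm : Nat.card N * Nat.card (P : Subgroup H) = Nat.card H := hc.card_mul_card
  obtain ⟨k, hk⟩ := P.isPGroup'.exists_card_eq
  have hidx : N.index = 2 ^ k := by
    have h1 := N.index_mul_card
    rw [← hcm, mul_comm] at h1
    have h2 : 0 < Nat.card N := Nat.card_pos
    rw [← hk]
    exact Nat.eq_of_mul_eq_mul_left h2 h1
  have hodd : Odd (Nat.card N) := by
    have h1 := (P : Subgroup H).index_mul_card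
    rw [← hcm] at h1
    have h2 : 0 < Nat.card (P : Subgroup H) := Nat.card_pos
    have h3 : (P : Subgroup H).index = Nat.card N := Nat.eq_of_mul_eq_mul_right h2 h1
    rw [← h3, ← Nat.not_even_iff_odd, even_iff_two_dvd]
    exact P.not_dvd_index
  have hmem : ∀ x : H, Odd (orderOf x) → x ∈ N := by
    intro x hx
    apply Cfsg.Agent.Lib.Helper41.mem_of_coprime_of_isComplement' P hc
    exact Nat.Coprime.symm (Nat.coprime_two_left.mpr hx)
  refine ⟨N.map H.subtype, ⟨?_⟩, ?_, k + 1, ?_⟩
  · intro n hn g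
    obtain ⟨x, hx, rfl⟩ := Subgroup.mem_map.mp hn
    have hgH : g * (x : G) * g⁻¹ ∈ H := hHn.conj_mem _ x.2 g
    refine Subgroup.mem_map.mpr ⟨⟨g * (x : G) * g⁻¹, hgH⟩, ?_, rfl⟩
    apply hmem
    have h1 : orderOf (⟨g * (x : G) * g⁻¹, hgH⟩ : H) = orderOf x := by
      rw [Subgroup.orderOf_mk]
      have := (MulAut.conj g).orderOf_eq (x : G)
      rw [MulAut.conj_apply] at this
      rw [this, Subgroup.orderOf_coe]
    rw [h1]
    have h2 : orderOf (⟨x, hx⟩ : N) ∣ Nat.card N := orderOf_dvd_natCard _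
    rw [Subgroup.orderOf_mk] at h2
    exact Odd.of_dvd_nat hodd h2
  · rw [Subgroup.card_map_of_injective (Subgroup.subtype_injective H)]
    exact hodd
  · rw [Subgroup.index_map_subtype, hidx, hH, pow_succ]

/-- a normal subgroup of odd order and `2`-power index, together with a Sylow `2`-subgroup,
generates the group modulo the odd core -/
theorem sup_oddCore_eq_top (S : Sylow 2 G) (N : Subgroup G) [hN : N.Normal]
    (hodd : Odd (Nat.card N)) (k : ℕ) (hk : N.index = 2 ^ k) :
    (S : Subgroup G) ⊔ Cfsg.oddCore G = ⊤ := by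
  have : Fact (Nat.Prime 2) := ⟨Nat.prime_two⟩
  have hle : N ≤ Cfsg.oddCore G := Cfsg.Agent.Lib.Helper38.ZStarCor.le_oddCore_of_normal_of_odd N hodd
  have h1 : ((S : Subgroup G) ⊔ N).index ∣ (S : Subgroup G).index :=
    Subgroup.index_dvd_of_le le_sup_left
  have h2 : ((S : Subgroup G) ⊔ N).index ∣ 2 ^ k := by
    rw [← hk]; exact Subgroup.index_dvd_of_le le_sup_right
  have h3 : ((S : Subgroup G) ⊔ N).index = 1 := by
    obtain ⟨j, _, hj⟩ := (Nat.dvd_prime_pow Nat.prime_two).mp h2
    rcases Nat.eq_zero_or_pos j with h0 | h0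
    · rw [hj, h0, pow_zero]
    · exfalso
      apply S.not_dvd_index
      refine dvd_trans ?_ h1
      rw [hj]
      exact dvd_pow_self 2 (by omega)
  have h4 : (S : Subgroup G) ⊔ N = ⊤ := Subgroup.index_eq_one.mp h3
  apply top_le_iff.mp
  rw [← h4]
  exact sup_le_sup_left hle _

end Cfsg.Agent.Lib.Helper58.D8C
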