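import Cfsg.Agent.Lib.Helper58.D8C3
import Cfsg.Agent.Lib.Helper14.PLocal
import Cfsg.Agent.Lib.Helper26.Rank2Solv
import Cfsg.Agent.Lib.Helper28.CentFour
import Cfsg.Agent.Lib.Helper42.A5Recog

set_option autoImplicit false

/-! Groups with an involution whose centralizer is a Sylow subgroup of order four. -/

namespace Cfsg.Agent.Lib.Helper58.D8C

variable {X : Type*} [Group X] [Finite X]

/-- a cyclic centralizer of order four which is a Sylow subgroup gives a normal `2`-complement -/
theorem npc_of_cyclic_centralizer (x : X) (P : Sylow 2 X)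
    (hP : (P : Subgroup X) = Subgroup.centralizer ({x} : Set X))
    (hC4 : Nat.card (Subgroup.centralizer ({x} : Set X)) = 4)
    (c : X) (hc : c ∈ Subgroup.centralizer ({x} : Set X)) (hc2 : c ^ 2 ≠ 1) :
    Cfsg.HasNormalPComplement 2 X := by
  have : Fact (Nat.Prime 2) := ⟨Nat.prime_two⟩
  have hcard : Nat.card (P : Subgroup X) = 4 := by rw [hP]; exact hC4
  have hcP : c ∈ (P : Subgroup X) := by rw [hP]; exact hc
  have ho : orderOf (⟨c, hcP⟩ : (P : Subgroup X)) = 4 := by
    have h1 : orderOf (⟨c, hcP⟩ : (P : Subgroup X)) ∣ 2 ^ 2 := by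
      have := orderOf_dvd_natCard (⟨c, hcP⟩ : (P : Subgroup X))
      rwa [hcard] at this
    have h2 : ¬ orderOf (⟨c, hcP⟩ : (P : Subgroup X)) ∣ 2 := by
      intro h
      apply hc2
      have h3 := orderOf_dvd_iff_pow_eq_one.mp h
      have h4 := congrArg Subtype.val h3
      simpa using h4
    obtain ⟨j, hj, hj2⟩ := (Nat.dvd_prime_pow Nat.prime_two).mp h1
    interval_cases j
    · exfalso; apply h2; rw [hj2]; norm_num
    · exfalso; apply h2; rw [hj2]; norm_num
    · rw [hj2]; norm_num
  have hcyc : IsCyclic (P : Subgroup X) := isCyclic_of_orderOf_eq_card _ (ho.trans hcard.symm)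
  have hp : (Nat.card X).minFac = 2 := by
    rw [Nat.minFac_eq_two_iff]
    have h1 : Nat.card (P : Subgroup X) ∣ Nat.card X := Subgroup.card_subgroup_dvd_card _
    rw [hcard] at h1
    exact dvd_trans (by norm_num) h1
  exact ⟨P, _, inferInstance, IsCyclic.isComplement' hp hcyc⟩

/-- if all involutions are conjugate to `x`, `|C(x)| = 4` and there is a normal subgroup of order two,
then the group has order four -/
theorem npc_of_normal_card_two (x : X)
    (hC4 : Nat.card (Subgroup.centralizer ({x} : Set X)) = 4)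
    (hconj : ∀ t : X, orderOf t = 2 → ∃ c : X, c * x * c⁻¹ = t)
    (E : Subgroup X) [hE : E.Normal] (hE2 : Nat.card E = 2) : Cfsg.HasNormalPComplement 2 X := by
  have : Fact (Nat.Prime 2) := ⟨Nat.prime_two⟩
  have hEne : E ≠ ⊥ := by
    intro h
    rw [h, Subgroup.card_bot] at hE2
    omega
  obtain ⟨k, hk1⟩ := (Subgroup.ne_bot_iff_exists_ne_one).mp hEne
  have hcen : ∀ g : X, g * (k : X) = (k : X) * g :=
    central_of_normal_card_le_two E (le_of_eq hE2) k k.2
  have hko : orderOf (k : X) = 2 := by
    rw [Subgroup.orderOf_coe]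
    apply orderOf_eq_prime
    · have := pow_card_eq_one' (G := E) (x := k)
      rwa [hE2] at this
    · exact hk1
  obtain ⟨c, hc⟩ := hconj k hko
  have hxk : x = (k : X) := by
    have h1 : x = c⁻¹ * (k : X) * c := by rw [← hc]; group
    rw [h1, mul_assoc, ← hcen c]
    group
  have htop : Subgroup.centralizer ({x} : Set X) = ⊤ := by
    rw [eq_top_iff]
    intro g _
    rw [Subgroup.mem_centralizer_singleton_iff, hxk]
    exact hcen g
  have hX4 : Nat.card X = 4 := by rw [← hC4, htop, Subgroup.card_top]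
  exact Cfsg.Agent.Lib.Helper26.Rank2Solv.hasNormalPComplement_of (⊥ : Subgroup X)
    (by rw [Subgroup.card_bot]; exact Nat.coprime_one_left 2) 2
    (by rw [Subgroup.index_bot, hX4]; norm_num)

section four

variable (x : X) (hx : orderOf x = 2) (P : Sylow 2 X)
  (hP : (P : Subgroup X) = Subgroup.centralizer ({x} : Set X))
  (hC4 : Nat.card (Subgroup.centralizer ({x} : Set X)) = 4)
  (hCe : ∀ c ∈ Subgroup.centralizer ({x} : Set X), c ^ 2 = 1)
  (hconj : ∀ t : X, orderOf t = 2 → ∃ c : X, c * x * c⁻¹ = t)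

include hx hP hC4 hCe hconj

/-- a normal elementary abelian subgroup of order four is the centralizer `C(x)` -/
theorem normal_four_eq (E : Subgroup X) [hE : E.Normal] (hE4 : Nat.card E = 4) :
    E = (P : Subgroup X) := by
  have : Fact (Nat.Prime 2) := ⟨Nat.prime_two⟩
  have hEp : IsPGroup 2 E := IsPGroup.of_card (n := 2) (by rw [hE4]; norm_num)
  have hle : E ≤ (P : Subgroup X) := Cfsg.Agent.Lib.Helper14.normal_pgroup_le_sylow E hEp P
  apply Subgroup.eq_of_le_of_card_ge hle
  rw [hE4, hP, hC4]

/-- with `C(x)` normal, the elements of `C(x)` are exactly those of square one -/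
theorem mem_iff_sq_of_normal (hn : (P : Subgroup X).Normal) (y : X) :
    y ∈ (P : Subgroup X) ↔ y ^ 2 = 1 := by
  have : Fact (Nat.Prime 2) := ⟨Nat.prime_two⟩
  constructor
  · intro hy
    rw [hP] at hy
    exact hCe y hy
  · intro hy
    by_cases hy1 : y = 1
    · rw [hy1]; exact one_mem _
    · have ho : orderOf y = 2 := orderOf_eq_prime hy hy1
      obtain ⟨c, hc⟩ := hconj y ho
      rw [← hc]
      apply hn.conj_mem
      rw [hP]
      exact Subgroup.mem_centralizer_singleton_iff.mpr rfl

/-- with `C(x)` normal the group has order twelve -/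
theorem card_eq_twelve_of_normal (hn : (P : Subgroup X).Normal) : Nat.card X = 12 := by
  have : Fact (Nat.Prime 2) := ⟨Nat.prime_two⟩
  have hT : ((P : Subgroup X) : Set X) \ {1} = MulAction.orbit (ConjAct X) x := by
    ext w
    rw [ConjAct.mem_orbit_conjAct]
    simp only [Set.mem_sdiff, SetLike.mem_coe, Set.mem_singleton_iff]
    constructor
    · rintro ⟨hwP, hw1⟩
      have hw2 : w ^ 2 = 1 := (mem_iff_sq_of_normal x hx P hP hC4 hCe hconj hn w).mp hwP
      have ho : orderOf w = 2 := orderOf_eq_prime hw2 hw1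
      obtain ⟨c, hc⟩ := hconj w ho
      exact (isConj_iff.mpr ⟨c, hc⟩).symm
    · intro hw
      obtain ⟨c, hc⟩ := isConj_iff.mp hw
      have hxP : x ∈ (P : Subgroup X) := by
        rw [hP]; exact Subgroup.mem_centralizer_singleton_iff.mpr rfl
      constructor
      · have h1 : w = c⁻¹ * x * c⁻¹⁻¹ := by rw [← hc]; group
        rw [h1]
        exact hn.conj_mem x hxP c⁻¹
      · intro hw1
        rw [hw1] at hc
        have hx1 : x = 1 := by rw [← hc]; group
        rw [hx1, orderOf_one] at hx
        omega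
  have h1 := (MulAction.stabilizer (ConjAct X) x).index_mul_card
  rw [MulAction.index_stabilizer, ← hT, Set.ncard_sdiff_singleton_of_mem (one_mem _)] at h1
  have h2 : ((P : Subgroup X) : Set X).ncard = 4 := by
    rw [← Nat.card_coe_set_eq]
    have : Nat.card (P : Subgroup X) = 4 := by rw [hP]; exact hC4
    exact this
  have h3 : Nat.card (MulAction.stabilizer (ConjAct X) x) = 4 := by
    rw [ConjAct.stabilizer_eq_centralizer]
    exact hC4
  have h4 : Nat.card (ConjAct X) = Nat.card X := rfl
  rw [h2, h3, h4] at h1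
  omega

/-- centralizers of all involutions have order four and exponent two -/
theorem centralizer_invol (t : X) (ht : orderOf t = 2) :
    Nat.card (Subgroup.centralizer ({t} : Set X)) = 4 ∧
      ∀ c ∈ Subgroup.centralizer ({t} : Set X), c ^ 2 = 1 := by
  obtain ⟨c, hc⟩ := hconj t ht
  have memC : ∀ (y v : X), v ∈ Subgroup.centralizer ({y} : Set X) ↔ y * v = v * y := by
    intro y v
    rw [Subgroup.mem_centralizer_iff]
    constructor
    · intro h; exact h y rfl
    · intro h w hw; rw [Set.mem_singleton_iff.1 hw]; exact h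
  have h1 : ∀ d ∈ Subgroup.centralizer ({t} : Set X),
      c⁻¹ * d * c ∈ Subgroup.centralizer ({x} : Set X) := by
    intro d hd
    rw [memC] at hd ⊢
    have hx' : x = c⁻¹ * t * c := by rw [← hc]; group
    rw [hx']
    calc c⁻¹ * t * c * (c⁻¹ * d * c) = c⁻¹ * (t * d) * c := by group
      _ = c⁻¹ * (d * t) * c := by rw [hd]
      _ = c⁻¹ * d * c * (c⁻¹ * t * c) := by group
  have h2 : ∀ v ∈ Subgroup.centralizer ({x} : Set X),
      c * v * c⁻¹ ∈ Subgroup.centralizer ({t} : Set X) := by
    intro v hv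
    rw [memC] at hv ⊢
    rw [← hc]
    calc c * x * c⁻¹ * (c * v * c⁻¹) = c * (x * v) * c⁻¹ := by group
      _ = c * (v * x) * c⁻¹ := by rw [hv]
      _ = c * v * c⁻¹ * (c * x * c⁻¹) := by group
  constructor
  · rw [← hC4]
    apply Nat.card_congr
    exact
      { toFun := fun d => ⟨c⁻¹ * d.1 * c, h1 d.1 d.2⟩
        invFun := fun v => ⟨c * v.1 * c⁻¹, h2 v.1 v.2⟩
        left_inv := fun d => by apply Subtype.ext; simp only []; group
        right_inv := fun v => by apply Subtype.ext; simp only []; group }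
  · intro d hd
    have := hCe _ (h1 d hd)
    have h3 : (c⁻¹ * d * c) ^ 2 = c⁻¹ * d ^ 2 * c := by
      rw [sq, sq]; group
    rw [h3] at this
    have h4 : d ^ 2 = c * (c⁻¹ * d ^ 2 * c) * c⁻¹ := by group
    rw [h4, this]; group

/-- in a group of order sixty of this kind there are five Sylow `2`-subgroups -/
theorem card_sylow_two_of_card_sixty (h60 : Nat.card X = 60) : Nat.card (Sylow 2 X) = 5 := by
  have hCt := centralizer_invol x hx P hP hC4 hCe hconj
  apply Cfsg.Agent.Lib.Helper42.A5Recog.card_sylow h60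
  · intro g hg4
    by_contra hg2
    have : Fact (Nat.Prime 2) := ⟨Nat.prime_two⟩
    have ho : orderOf (g ^ 2) = 2 := by
      apply orderOf_eq_prime (p := 2)
      · rw [← pow_mul]; exact hg4
      · exact hg2
    have hgC : g ∈ Subgroup.centralizer ({g ^ 2} : Set X) := by
      rw [Subgroup.mem_centralizer_iff]
      intro h hh
      rw [Set.mem_singleton_iff.1 hh]
      group
    exact hg2 ((hCt _ ho).2 g hgC)
  · intro z w hz hw
    obtain ⟨c, hc⟩ := hconj z hz
    obtain ⟨d, hd⟩ := hconj w hw
    rw [isConj_iff]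
    refine ⟨d * c⁻¹, ?_⟩
    rw [← hc, ← hd]; group
  · intro z hz
    exact (hCt z hz).1

end four

end Cfsg.Agent.Lib.Helper58.D8C
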