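import Cfsg.Agent.Lib.Helper58.D8C2
import Cfsg.Agent.Lib.Helper58.D8C4

set_option autoImplicit false
set_option linter.unusedSectionVars false

/-! An involution with dihedral centralizer of order 8 in a group with a subgroup of index two:
basic facts. -/

namespace Cfsg.Agent.Lib.Helper58.D8C

open DihedralGroup

variable {G : Type*} [Group G] [Finite G]

theorem d8_r2_central : ∀ d : DihedralGroup 4, r 2 * d = d * r 2 := by decide

theorem d8_r2_ne_one : (r 2 : DihedralGroup 4) ≠ 1 := by decide

theorem d8_r1_sq : (r 1 : DihedralGroup 4) * r 1 = r 2 := by decide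

section glue

variable (z : G) (hz : orderOf z = 2)
  (e : Subgroup.centralizer ({z} : Set G) ≃* DihedralGroup 4)

include hz e

/-- a normal subgroup of order at most two is trivial, unless `z` is central -/
theorem eq_bot_of_normal_card_le_two (hne : Subgroup.centralizer ({z} : Set G) ≠ ⊤)
    (K : Subgroup G) [hK : K.Normal] (hc : Nat.card K ≤ 2) : K = ⊥ := by
  rw [Subgroup.eq_bot_iff_forall]
  intro k hk
  by_contra hk1
  have hcen : ∀ g : G, g * k = k * g := central_of_normal_card_le_two K hc k hk
  have hkC : k ∈ Subgroup.centralizer ({z} : Set G) := by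
    rw [Subgroup.mem_centralizer_singleton_iff]
    exact (hcen z).symm
  have hkz : k = z := by
    apply central_eq z hz e ⟨k, hkC⟩
    · intro y
      apply Subtype.ext
      rw [Subgroup.coe_mul, Subgroup.coe_mul]
      exact (hcen (y : G)).symm
    · intro h
      exact hk1 (congrArg Subtype.val h)
  apply hne
  rw [eq_top_iff]
  intro g _
  rw [Subgroup.mem_centralizer_singleton_iff, ← hkz]
  exact hcen g

/-- `z` is the image of the central rotation -/
theorem coe_symm_r2 : ((e.symm (r 2) : Subgroup.centralizer ({z} : Set G)) : G) = z := by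
  apply central_eq z hz e
  · intro y
    apply e.injective
    rw [map_mul, map_mul, e.apply_symm_apply]
    exact d8_r2_central (e y)
  · intro h
    have h1 := congrArg e h
    rw [e.apply_symm_apply, map_one] at h1
    exact d8_r2_ne_one h1

variable (H : Subgroup G) (hH : H.index = 2)

include hH

theorem z_mem_of_index_two : z ∈ H := by
  have h2 : e.symm (r 2) = e.symm (r 1) * e.symm (r 1) := by
    rw [← map_mul, d8_r1_sq]
  rw [← coe_symm_r2 z hz e, h2, Subgroup.coe_mul]
  exact Subgroup.mul_self_mem_of_index_two hH _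

/-- the cardinality of `H` in terms of the index of a Sylow `2`-subgroup -/
theorem card_index_two :
    ∃ m : ℕ, Odd m ∧ Nat.card H = 4 * m ∧ Nat.card G = 8 * m := by
  have : Fact (Nat.Prime 2) := ⟨Nat.prime_two⟩
  obtain ⟨S, hS⟩ := exists_sylow_eq z hz e
  have h5 : H.index * Nat.card H = Nat.card G := H.index_mul_card
  have h6 : (S : Subgroup G).index * Nat.card (S : Subgroup G) = Nat.card G :=
    (S : Subgroup G).index_mul_card
  have h7 : ¬ 2 ∣ (S : Subgroup G).index := S.not_dvd_index
  have h8 : Nat.card (S : Subgroup G) = 8 := by rw [hS]; exact card_centralizer z hz e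
  rw [h8] at h6
  rw [hH] at h5
  refine ⟨(S : Subgroup G).index, ?_, ?_, ?_⟩
  · rw [← Nat.not_even_iff_odd, even_iff_two_dvd]; exact h7
  · omega
  · omega

theorem card_inf_of_index_two :
    Nat.card (Subgroup.centralizer ({z} : Set G) ⊓ H : Subgroup G) = 4 := by
  have hHn : H.Normal := Subgroup.normal_of_index_eq_two hH
  have hC8 : Nat.card (Subgroup.centralizer ({z} : Set G)) = 8 := card_centralizer z hz e
  have h1 : H.relIndex (Subgroup.centralizer ({z} : Set G)) ∣ 2 := by
    rw [← hH]; exact Subgroup.relIndex_dvd_index_of_normal H _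
  have h2 : H.relIndex (Subgroup.centralizer ({z} : Set G)) *
      Nat.card (H.subgroupOf (Subgroup.centralizer ({z} : Set G))) =
      Nat.card (Subgroup.centralizer ({z} : Set G)) :=
    (H.subgroupOf (Subgroup.centralizer ({z} : Set G))).index_mul_card
  have h3 : Nat.card (H.subgroupOf (Subgroup.centralizer ({z} : Set G))) =
      Nat.card (Subgroup.centralizer ({z} : Set G) ⊓ H : Subgroup G) := by
    rw [← Subgroup.inf_subgroupOf_left]
    exact Nat.card_congr (Subgroup.subgroupOfEquivOfLe inf_le_left).toEquiv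
  have hne1 : H.relIndex (Subgroup.centralizer ({z} : Set G)) ≠ 1 := by
    intro h
    have hle : Subgroup.centralizer ({z} : Set G) ≤ H := Subgroup.relIndex_eq_one.mp h
    have h4 : 8 ∣ Nat.card H := by rw [← hC8]; exact Subgroup.card_dvd_of_le hle
    obtain ⟨m, hm, hm4, _⟩ := card_index_two z hz e H hH
    obtain ⟨j, hj⟩ := hm
    omega
  have h8 : H.relIndex (Subgroup.centralizer ({z} : Set G)) = 2 := by
    rcases (Nat.dvd_prime Nat.prime_two).mp h1 with h | h
    · exact absurd h hne1
    · exact h
  rw [h8, hC8, h3] at h2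
  omega

/-- the centralizer of `z` in `H` -/
theorem centralizer_in_eq (hzH : z ∈ H) :
    Subgroup.centralizer ({(⟨z, hzH⟩ : H)} : Set H) =
      (Subgroup.centralizer ({z} : Set G)).subgroupOf H := by
  ext y
  rw [Subgroup.mem_centralizer_singleton_iff, Subgroup.mem_subgroupOf,
    Subgroup.mem_centralizer_singleton_iff]
  constructor
  · intro h; exact congrArg Subtype.val h
  · intro h; exact Subtype.ext h

theorem card_centralizer_in (hzH : z ∈ H) :
    Nat.card (Subgroup.centralizer ({(⟨z, hzH⟩ : H)} : Set H)) = 4 := by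
  rw [centralizer_in_eq z hz e H hH hzH, ← Subgroup.inf_subgroupOf_right,
    Nat.card_congr (Subgroup.subgroupOfEquivOfLe inf_le_right).toEquiv]
  exact card_inf_of_index_two z hz e H hH

/-- the centralizer of `z` in `H` is a Sylow `2`-subgroup of `H` -/
theorem exists_sylow_in (hzH : z ∈ H) :
    ∃ P : Sylow 2 H, (P : Subgroup H) = Subgroup.centralizer ({(⟨z, hzH⟩ : H)} : Set H) := by
  have : Fact (Nat.Prime 2) := ⟨Nat.prime_two⟩
  have hC4 := card_centralizer_in z hz e H hH hzH
  have hp : IsPGroup 2 (Subgroup.centralizer ({(⟨z, hzH⟩ : H)} : Set H)) :=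
    IsPGroup.of_card (n := 2) (by rw [hC4]; norm_num)
  obtain ⟨P, hP⟩ := hp.exists_le_sylow
  refine ⟨P, (Subgroup.eq_of_le_of_card_ge hP ?_).symm⟩
  rw [hC4]
  obtain ⟨k, hk⟩ := P.isPGroup'.exists_card_eq
  obtain ⟨m, hm, hm4, _⟩ := card_index_two z hz e H hH
  have h1 : Nat.card (P : Subgroup H) ∣ Nat.card H := Subgroup.card_subgroup_dvd_card _
  rw [hk, hm4] at h1
  have hcop : Nat.Coprime (2 ^ k) m := Nat.Coprime.pow_left k (Nat.coprime_two_left.mpr hm)
  have h2 : 2 ^ k ∣ 4 := hcop.dvd_of_dvd_mul_right h1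
  rw [hk]
  exact Nat.le_of_dvd (by norm_num) h2

/-- a normal `2`-complement in `H` gives `G = C(z) O(G)` -/
theorem sup_oddCore_of_npc (h : Cfsg.HasNormalPComplement 2 H) :
    Subgroup.centralizer ({z} : Set G) ⊔ Cfsg.oddCore G = ⊤ := by
  obtain ⟨N, hN, hodd, k, hk⟩ := exists_normal_odd_of_index_two H hH h
  obtain ⟨S, hS⟩ := exists_sylow_eq z hz e
  rw [← hS]
  exact sup_oddCore_eq_top S N hodd k hk

end glue

end Cfsg.Agent.Lib.Helper58.D8C
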