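import Cfsg.Agent.Lib.Helper58.D8C5

set_option autoImplicit false
set_option linter.unusedSectionVars false

/-! An involution with dihedral centralizer of order 8 in a group with a subgroup `H` of index two:
the cases `H ≅ A₅` and `|H| = 12`. -/

namespace Cfsg.Agent.Lib.Helper58.D8C

open DihedralGroup

variable {G : Type*} [Group G] [Finite G]

section glue

variable (z : G) (hz : orderOf z = 2)
  (e : Subgroup.centralizer ({z} : Set G) ≃* DihedralGroup 4)
  (H : Subgroup G) (hH : H.index = 2)

include hz e hH

/-- `H` simple of order 60 with five Sylow `2`-subgroups: `G` is the symmetric group of degree 5 -/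
theorem iso_perm_five (hcardH : Nat.card H = 60) (hsimple : IsSimpleGroup H)
    (n2 : Nat.card (Sylow 2 H) = 5) : Nonempty (G ≃* Equiv.Perm (Fin 5)) := by
  have : Fact (Nat.Prime 2) := ⟨Nat.prime_two⟩
  have hHn : H.Normal := Subgroup.normal_of_index_eq_two hH
  have hcardG : Nat.card G = 120 := by
    have := H.index_mul_card
    rw [hH, hcardH] at this
    omega
  obtain ⟨P⟩ := (inferInstance : Nonempty (Sylow 2 H))
  have hT'le : (P : Subgroup H).map H.subtype ≤ H := Subgroup.map_subtype_le _
  have h1 : Subgroup.normalizer (((P : Subgroup H).map H.subtype : Subgroup G) : Set G) ⊔ H = ⊤ :=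
    Sylow.normalizer_sup_eq_top P
  generalize hN : Subgroup.normalizer (((P : Subgroup H).map H.subtype : Subgroup G) : Set G) = N
    at h1
  have h2 : H.relIndex N = 2 := by
    rw [← Subgroup.relIndex_sup_right N H, h1, Subgroup.relIndex_top_right, hH]
  have h3 : N.subgroupOf H = Subgroup.normalizer ((P : Subgroup H) : Set H) := by
    rw [← hN, Subgroup.subgroupOf_normalizer_eq hT'le]
    congr 2
    exact Subgroup.comap_map_eq_self_of_injective (Subgroup.subtype_injective H) _
  have h4 : Nat.card (Subgroup.normalizer ((P : Subgroup H) : Set H)) = 12 := by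
    have h5 : Nat.card (Sylow 2 H) = (Subgroup.normalizer ((P : Subgroup H) : Set H)).index :=
      Sylow.card_eq_index_normalizer P
    have h6 := (Subgroup.normalizer ((P : Subgroup H) : Set H)).index_mul_card
    rw [← h5, n2, hcardH] at h6
    omega
  have h5 : Nat.card (H.subgroupOf N) = 12 := by
    rw [← h4, ← h3, ← Subgroup.inf_subgroupOf_left H N, ← Subgroup.inf_subgroupOf_right N H,
      Nat.card_congr (Subgroup.subgroupOfEquivOfLe (inf_le_left : N ⊓ H ≤ N)).toEquiv,
      Nat.card_congr (Subgroup.subgroupOfEquivOfLe (inf_le_right : N ⊓ H ≤ H)).toEquiv]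
  have h6 : Nat.card N = 24 := by
    have h7 := (H.subgroupOf N).index_mul_card
    have h8 : (H.subgroupOf N).index = 2 := h2
    rw [h8, h5] at h7
    omega
  have hidx : N.index = 5 := by
    have := N.index_mul_card
    rw [h6, hcardG] at this
    omega
  have hCne : Subgroup.centralizer ({z} : Set G) ≠ ⊤ := by
    intro h
    have := card_centralizer z hz e
    rw [h, Subgroup.card_top, hcardG] at this
    omega
  have hcore : N.normalCore = ⊥ := by
    have hKn : N.normalCore.Normal := Subgroup.normalCore_normal N
    rcases hsimple.eq_bot_or_eq_top_of_normal (N.normalCore.subgroupOf H)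
      Subgroup.normal_subgroupOf with h | h
    · apply eq_bot_of_normal_card_le_two z hz e hCne
      have hd : Disjoint N.normalCore H := Subgroup.subgroupOf_eq_bot.mp h
      have h7 := (H.subgroupOf N.normalCore).index_mul_card
      have h8 : Nat.card (H.subgroupOf N.normalCore) = 1 := by
        rw [← Subgroup.inf_subgroupOf_left H N.normalCore,
          Nat.card_congr (Subgroup.subgroupOfEquivOfLe
            (inf_le_left : N.normalCore ⊓ H ≤ N.normalCore)).toEquiv,
          hd.eq_bot, Subgroup.card_bot]
      have h9 : H.relIndex N.normalCore ∣ 2 := by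
        rw [← hH]; exact Subgroup.relIndex_dvd_index_of_normal H _
      have h10 : (H.subgroupOf N.normalCore).index = H.relIndex N.normalCore := rfl
      rw [h8, mul_one, h10] at h7
      rw [← h7]
      exact Nat.le_of_dvd (by norm_num) h9
    · exfalso
      have hle : H ≤ N.normalCore := Subgroup.subgroupOf_eq_top.mp h
      have hle' : H ≤ N := hle.trans (Subgroup.normalCore_le N)
      have h7 : N.subgroupOf H = ⊤ := Subgroup.subgroupOf_eq_top.mpr hle'
      rw [h3] at h7
      rw [h7, Subgroup.card_top, hcardH] at h4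
      omega
  exact iso_perm_of_core N 5 hidx hcore (by rw [hcardG]; rfl)

/-- `H` of order 12 with a normal Sylow `2`-subgroup consisting of the elements of square one:
`G` is the symmetric group of degree 4 -/
theorem iso_perm_four (hzH : z ∈ H) (P : Sylow 2 H)
    (hsq : ∀ y : H, y ∈ (P : Subgroup H) ↔ y ^ 2 = 1)
    (hP4 : Nat.card (P : Subgroup H) = 4) (hcardH : Nat.card H = 12) :
    Nonempty (G ≃* Equiv.Perm (Fin 4)) := by
  have : Fact (Nat.Prime 2) := ⟨Nat.prime_two⟩
  have : Fact (Nat.Prime 3) := ⟨Nat.prime_three⟩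
  have hHn : H.Normal := Subgroup.normal_of_index_eq_two hH
  have hcardG : Nat.card G = 24 := by
    have := H.index_mul_card
    rw [hH, hcardH] at this
    omega
  have hC8 : Nat.card (Subgroup.centralizer ({z} : Set G)) = 8 := card_centralizer z hz e
  have hCne : Subgroup.centralizer ({z} : Set G) ≠ ⊤ := by
    intro h
    rw [h, Subgroup.card_top, hcardG] at hC8
    omega
  have hzP : (⟨z, hzH⟩ : H) ∈ (P : Subgroup H) := by
    rw [hsq]
    apply Subtype.ext
    rw [Subgroup.coe_pow, Subgroup.coe_one, ← hz]
    exact pow_orderOf_eq_one z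
  have hT'n : ((P : Subgroup H).map H.subtype).Normal := by
    refine ⟨fun t ht g => ?_⟩
    obtain ⟨y, hy, rfl⟩ := Subgroup.mem_map.mp ht
    have hgH : g * (y : G) * g⁻¹ ∈ H := hHn.conj_mem _ y.2 g
    refine Subgroup.mem_map.mpr ⟨⟨_, hgH⟩, ?_, rfl⟩
    rw [hsq]
    apply Subtype.ext
    have hy2 : (y : G) ^ 2 = 1 := by
      have h1 := (hsq y).mp hy
      have h2 := congrArg Subtype.val h1
      rwa [Subgroup.coe_pow, Subgroup.coe_one] at h2
    rw [Subgroup.coe_pow, Subgroup.coe_one]
    show (g * (y : G) * g⁻¹) ^ 2 = 1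
    rw [conj_pow, hy2, mul_one, mul_inv_cancel]
  generalize hT' : (P : Subgroup H).map H.subtype = T' at hT'n
  have hT'4 : Nat.card T' = 4 := by
    rw [← hT', Subgroup.card_map_of_injective (Subgroup.subtype_injective H)]
    exact hP4
  have hzT' : z ∈ T' := by
    rw [← hT']
    exact Subgroup.mem_map.mpr ⟨⟨z, hzH⟩, hzP, rfl⟩
  obtain ⟨X⟩ := (inferInstance : Nonempty (Sylow 3 G))
  have hX3 : Nat.card (X : Subgroup G) = 3 := by
    obtain ⟨k, hk⟩ := X.isPGroup'.exists_card_eq
    have h6 := (X : Subgroup G).index_mul_card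
    rw [hk, hcardG] at h6
    have hk1 : k = 1 := by
      rcases Nat.lt_or_ge k 2 with h | h
      · interval_cases k
        · exfalso
          apply X.not_dvd_index
          rw [pow_zero, mul_one] at h6
          rw [h6]
          norm_num
        · rfl
      · exfalso
        have h9 : 3 ^ 2 ∣ 3 ^ k := pow_dvd_pow 3 h
        have h10 : 3 ^ k ∣ 24 := Dvd.intro_left _ h6
        have h11 : 3 ^ 2 ∣ 24 := dvd_trans h9 h10
        omega
    rw [hk, hk1, pow_one]
  have hXidx : (X : Subgroup G).index = 8 := by
    have h6 := (X : Subgroup G).index_mul_card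
    rw [hX3, hcardG] at h6
    omega
  have hn3 : Nat.card (Sylow 3 G) = 4 := by
    have h1 := card_sylow_modEq_one 3 G
    have h2 : Nat.card (Sylow 3 G) ∣ 8 := by rw [← hXidx]; exact X.card_dvd_index
    have h3 : Nat.card (Sylow 3 G) ≠ 1 := by
      intro h1'
      have hXn : (X : Subgroup G).Normal := by
        have hci : Nat.card (Sylow 3 G) = (Subgroup.normalizer ((X : Subgroup G) : Set G)).index :=
          Sylow.card_eq_index_normalizer X
        rw [← Subgroup.normalizer_eq_top_iff, ← Subgroup.index_eq_one, ← hci, h1']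
      have hd : Disjoint (X : Subgroup G) T' :=
        Subgroup.disjoint_of_coprime_natCard (by rw [hX3, hT'4]; norm_num)
      have hXC : (X : Subgroup G) ≤ Subgroup.centralizer ({z} : Set G) := by
        intro x hx
        rw [Subgroup.mem_centralizer_singleton_iff]
        exact (Subgroup.commute_of_normal_of_disjoint _ _ hXn hT'n hd x z hx hzT').eq
      have := Subgroup.card_dvd_of_le hXC
      rw [hX3, hC8] at this
      omega
    have h4 : Nat.card (Sylow 3 G) ≤ 8 := Nat.le_of_dvd (by norm_num) h2
    unfold Nat.ModEq at h1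
    generalize Nat.card (Sylow 3 G) = n at h1 h2 h3 h4
    interval_cases n <;> omega
  generalize hN : Subgroup.normalizer ((X : Subgroup G) : Set G) = N
  have hidx : N.index = 4 := by
    have hci : Nat.card (Sylow 3 G) = (Subgroup.normalizer ((X : Subgroup G) : Set G)).index :=
      Sylow.card_eq_index_normalizer X
    rw [← hN, ← hci, hn3]
  have hN6 : Nat.card N = 6 := by
    have := N.index_mul_card
    rw [hidx, hcardG] at this
    omega
  have hcore : N.normalCore = ⊥ := by
    have hKn : N.normalCore.Normal := Subgroup.normalCore_normal N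
    have hK6 : Nat.card N.normalCore ∣ 6 := by
      rw [← hN6]; exact Subgroup.card_dvd_of_le (Subgroup.normalCore_le N)
    have hinf : N.normalCore ⊓ T' = ⊥ := by
      have hn : (N.normalCore ⊓ T').Normal := Subgroup.normal_inf_normal _ _
      apply eq_bot_of_normal_card_le_two z hz e hCne
      have h1 : Nat.card (N.normalCore ⊓ T' : Subgroup G) ∣ 6 :=
        dvd_trans (Subgroup.card_dvd_of_le inf_le_left) hK6
      have h2 : Nat.card (N.normalCore ⊓ T' : Subgroup G) ∣ 4 := by
        rw [← hT'4]; exact Subgroup.card_dvd_of_le inf_le_right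
      have h3 : Nat.card (N.normalCore ⊓ T' : Subgroup G) ∣ 6 - 4 := Nat.dvd_sub h1 h2
      exact Nat.le_of_dvd (by norm_num) h3
    have hd : Disjoint N.normalCore T' := disjoint_iff.mpr hinf
    have hKC : N.normalCore ≤ Subgroup.centralizer ({z} : Set G) := by
      intro x hx
      rw [Subgroup.mem_centralizer_singleton_iff]
      exact (Subgroup.commute_of_normal_of_disjoint _ _ hKn hT'n hd x z hx hzT').eq
    apply eq_bot_of_normal_card_le_two z hz e hCne
    have h1 : Nat.card N.normalCore ∣ 8 := by
      rw [← hC8]; exact Subgroup.card_dvd_of_le hKC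
    have h3 : Nat.card N.normalCore ∣ 8 - 6 := Nat.dvd_sub h1 hK6
    exact Nat.le_of_dvd (by norm_num) h3
  exact iso_perm_of_core N 4 hidx hcore (by rw [hcardG]; rfl)

end glue

end Cfsg.Agent.Lib.Helper58.D8C
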