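import Cfsg.Agent.Lib.Helper58.D8C6
import Cfsg.Agent.Lib.Helper07.PSL27
import Cfsg.Agent.S3277

set_option autoImplicit false
set_option linter.unusedSectionVars false

/-! An involution with dihedral centralizer of order 8 in a group with a subgroup `H` of index two:
the main case distinction; and the isomorphism `PSL₂(7) ≅ SL₃(2)`. -/

namespace Cfsg.Agent.Lib.Helper58.D8C

open DihedralGroup

variable {G : Type*} [Group G] [Finite G]

section glue

variable (z : G) (hz : orderOf z = 2)
  (e : Subgroup.centralizer ({z} : Set G) ≃* DihedralGroup 4)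
  (H : Subgroup G) (hH : H.index = 2)

include hz e hH

theorem index_two_case :
    Subgroup.centralizer ({z} : Set G) ⊔ Cfsg.oddCore G = ⊤ ∨
      Nonempty (G ≃* Equiv.Perm (Fin 4)) ∨ Nonempty (G ≃* Equiv.Perm (Fin 5)) := by
  have : Fact (Nat.Prime 2) := ⟨Nat.prime_two⟩
  have hzH := z_mem_of_index_two z hz e H hH
  by_cases hnpc : Cfsg.HasNormalPComplement 2 H
  · left; exact sup_oddCore_of_npc z hz e H hH hnpc
  right
  obtain ⟨P, hP⟩ := exists_sylow_in z hz e H hH hzH
  have hC4 := card_centralizer_in z hz e H hH hzH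
  have hxo : orderOf (⟨z, hzH⟩ : H) = 2 := by rw [Subgroup.orderOf_mk]; exact hz
  have hCe : ∀ c ∈ Subgroup.centralizer ({(⟨z, hzH⟩ : H)} : Set H), c ^ 2 = 1 := by
    intro c hc
    by_contra hc2
    exact hnpc (npc_of_cyclic_centralizer _ P hP hC4 c hc hc2)
  have hconj := Cfsg.Agent.Lib.Helper28.CentFour.caseB_conj hxo hC4 hCe P hP.symm hnpc
  by_cases hne : ∀ E : Subgroup H, E.Normal → Cfsg.IsElementaryAbelian 2 E →
      Nat.card E ≠ 2 ∧ Nat.card E ≠ 4
  · right
    obtain ⟨φ⟩ := Cfsg.Agent.S3277.result _ hxo hC4 hCe hnpc hne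
    have hcardH : Nat.card H = 60 := by
      rw [Nat.card_congr φ.toEquiv, nat_card_alternatingGroup, Nat.card_eq_fintype_card,
        Fintype.card_fin]
      rfl
    have hsimple : IsSimpleGroup H := by
      have := alternatingGroup.isSimpleGroup_five
      exact φ.isSimpleGroup
    have n2 := card_sylow_two_of_card_sixty _ hxo P hP hC4 hCe hconj hcardH
    exact iso_perm_five z hz e H hH hcardH hsimple n2
  · left
    push Not at hne
    obtain ⟨E, hEn, hEe, hE⟩ := hne
    by_cases hE2 : Nat.card E = 2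
    · exfalso
      exact hnpc (npc_of_normal_card_two _ hC4 hconj E hE2)
    · have hE4 : Nat.card E = 4 := hE hE2
      have hEP := normal_four_eq _ hxo P hP hC4 hCe hconj E hE4
      have hn : (P : Subgroup H).Normal := hEP ▸ hEn
      have hsq := mem_iff_sq_of_normal _ hxo P hP hC4 hCe hconj hn
      have h12 := card_eq_twelve_of_normal _ hxo P hP hC4 hCe hconj hn
      exact iso_perm_four z hz e H hH hzH P hsq (by rw [hP]; exact hC4) h12

end glue

open Matrix Cfsg.Agent.Lib.Helper07 in
/-- `PSL₂(7) ≅ SL₃(2)` -/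
theorem nonempty_psl27_equiv_sl32 :
    Nonempty (ProjectiveSpecialLinearGroup (Fin 2) (ZMod 7) ≃*
      SpecialLinearGroup (Fin 3) (ZMod 2)) := by
  have : Fact (Nat.Prime 2) := ⟨Nat.prime_two⟩
  have hc1 : Nat.card (ProjectiveSpecialLinearGroup (Fin 2) (ZMod 7)) = 168 := by
    have h := card_psl_two (F := ZMod 7)
    rw [ZMod.card] at h
    generalize Nat.card (ProjectiveSpecialLinearGroup (Fin 2) (ZMod 7)) = N at h ⊢
    norm_num at h
    omega
  have hc2 : Nat.card (SpecialLinearGroup (Fin 3) (ZMod 2)) = 168 := by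
    have h := card_sl_mul (F := ZMod 2) 3 (by norm_num)
    rw [ZMod.card, Fin.prod_univ_three] at h
    generalize Nat.card (SpecialLinearGroup (Fin 3) (ZMod 2)) = N at h ⊢
    norm_num at h
    omega
  have hbij : Function.Bijective psiBar := by
    rw [Nat.bijective_iff_injective_and_card]
    exact ⟨psiBar_injective, by rw [hc1, hc2]⟩
  exact ⟨MulEquiv.ofBijective psiBar hbij⟩

end Cfsg.Agent.Lib.Helper58.D8C
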