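import Mathlib
import Cfsg.Prelude.Def_DStar
import Cfsg.Prelude.Def_Solvable
import Cfsg.Prelude.Def_PLocal
import Cfsg.Agent.Lib.Helper58.DStar
import Cfsg.Agent.S3061

set_option autoImplicit false

namespace Cfsg.Agent.Lib.Helper58

open Subgroup
open scoped commutatorElement

section maps

variable {S G : Type*} [Group S] [Group G]

theorem PT_map {f : S →* G} (hf : Function.Injective f) {T A : Subgroup S} (h : PT T A) :
    PT (T.map f) (A.map f) := by
  obtain ⟨hAT, hAc, hA⟩ := h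
  refine ⟨Subgroup.map_mono hAT, Subgroup.map_isMulCommutative A f, ?_⟩
  rintro _ ⟨x, hx, rfl⟩ htriv
  have hmap : (A ⊔ zpowers x).map f = A.map f ⊔ zpowers (f x) := by
    rw [Subgroup.map_sup, MonoidHom.map_zpowers]
  have htriv' : ⁅⁅A ⊔ zpowers x, A ⊔ zpowers x⁆, A ⊔ zpowers x⁆ = ⊥ := by
    have h1 : (⁅⁅A ⊔ zpowers x, A ⊔ zpowers x⁆, A ⊔ zpowers x⁆).map f = ⊥ := by
      rw [Subgroup.map_commutator, Subgroup.map_commutator, hmap]; exact htriv
    exact (Subgroup.map_eq_bot_iff_of_injective _ hf).mp h1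
  rintro _ ⟨a, ha, rfl⟩
  rw [← map_mul, ← map_mul, hA x hx htriv' a ha]

theorem PT_of_map {f : S →* G} (hf : Function.Injective f) {T A : Subgroup S}
    (h : PT (T.map f) (A.map f)) : PT T A := by
  obtain ⟨hAT, hAc, hA⟩ := h
  refine ⟨(Subgroup.map_le_map_iff_of_injective hf).mp hAT, ?_, ?_⟩
  · constructor; constructor
    intro a b
    apply Subtype.ext
    apply hf
    have := comm_of_isMulCommutative hAc (Subgroup.mem_map_of_mem f a.2)
      (Subgroup.mem_map_of_mem f b.2)
    simpa using this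
  · intro x hx htriv a ha
    apply hf
    rw [map_mul, map_mul]
    apply hA (f x) (Subgroup.mem_map_of_mem f hx) _ (f a) (Subgroup.mem_map_of_mem f ha)
    rw [← MonoidHom.map_zpowers, ← Subgroup.map_sup, ← Subgroup.map_commutator,
      ← Subgroup.map_commutator, htriv, Subgroup.map_bot]

theorem PT_subtype_iff {T : Subgroup G} (A' : Subgroup ↥T) :
    A' ∈ Cfsg.dStarFamily ↥T ↔ PT T (A'.map T.subtype) := by
  rw [← PT_top_iff]
  have htop : (⊤ : Subgroup ↥T).map T.subtype = T := by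
    rw [← MonoidHom.range_eq_map, Subgroup.range_subtype]
  constructor
  · intro h
    have := PT_map T.subtype_injective h
    rwa [htop] at this
  · intro h
    apply PT_of_map T.subtype_injective
    rwa [htop]

theorem le_dStarOf_of_PT {T A : Subgroup G} (h : PT T A) : A ≤ Cfsg.dStarOf T := by
  have hA : (A.subgroupOf T).map T.subtype = A := Subgroup.map_subgroupOf_eq_of_le h.1
  have hmem : A.subgroupOf T ∈ Cfsg.dStarFamily ↥T := by
    rw [PT_subtype_iff, hA]; exact h
  rw [← hA]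
  exact Subgroup.map_mono (le_sSup hmem)

theorem PT_dStarOf [Finite G] {p : ℕ} [Fact p.Prime] {T : Subgroup G} (hT : IsPGroup p T) :
    PT T (Cfsg.dStarOf T) := by
  unfold Cfsg.dStarOf
  exact (PT_subtype_iff _).mp (Cfsg.Agent.S3061.result hT)

theorem PT_comm_of_isPGroup [Finite G] {p : ℕ} [Fact p.Prime] {T A B : Subgroup G}
    (hT : IsPGroup p T) (hA : PT T A) (hB : PT T B) : ∀ a ∈ A, ∀ b ∈ B, a * b = b * a := by
  intro a ha b hb
  exact comm_of_isMulCommutative (PT_dStarOf hT).2.1 (le_dStarOf_of_PT hA ha)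
    (le_dStarOf_of_PT hB hb)

theorem dStarOf_map_le [Finite G] {p : ℕ} [Fact p.Prime] {T : Subgroup G} (hT : IsPGroup p T)
    (φ : G ≃* G) :
    (Cfsg.dStarOf T).map φ.toMonoidHom ≤ Cfsg.dStarOf (T.map φ.toMonoidHom) :=
  le_dStarOf_of_PT (PT_map (f := φ.toMonoidHom) φ.injective (PT_dStarOf hT))

theorem conj_mem_dStarOf [Finite G] {p : ℕ} [Fact p.Prime] {T : Subgroup G} (hT : IsPGroup p T)
    {s d : G} (hs : s ∈ T) (hd : d ∈ Cfsg.dStarOf T) : s * d * s⁻¹ ∈ Cfsg.dStarOf T := by
  have h1 := dStarOf_map_le hT (MulAut.conj s)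
  have h2 : T.map (MulAut.conj s).toMonoidHom = T := Subgroup.conj_smul_eq_self_of_mem hs
  rw [h2] at h1
  exact h1 ⟨d, hd, by simp⟩

/-- An abelian subgroup `A` normalized by `s`, with `s` acting quadratically: `⟨A, s⟩` has class
at most two. -/
theorem triple_comm_eq_bot_of_quadratic {A : Subgroup G} (hA : IsMulCommutative A) {s : G}
    (hn : ∀ a ∈ A, s * a * s⁻¹ ∈ A) (hq : ∀ a ∈ A, ⁅⁅a, s⁆, s⁆ = 1) :
    ⁅⁅A ⊔ zpowers s, A ⊔ zpowers s⁆, A ⊔ zpowers s⁆ = ⊥ := by
  set H := A ⊔ Subgroup.zpowers s with hH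
  have hHcl : H = Subgroup.closure ((A : Set G) ∪ {s}) := by
    rw [hH, Subgroup.closure_union, Subgroup.closure_eq, Subgroup.zpowers_eq_closure]
  have hmixed : ∀ u ∈ A, ⁅u, s⁆ ∈ Subgroup.centralizer (H : Set G) := by
    intro u hu
    have h1 : ⁅u, s⁆ ∈ A := by
      have : ⁅u, s⁆ = u * (s * u⁻¹ * s⁻¹) := by rw [commutatorElement_def]; group
      rw [this]
      exact A.mul_mem hu (hn _ (A.inv_mem hu))
    have hcA : A ≤ Subgroup.centralizer ({⁅u, s⁆} : Set G) := by
      intro d hd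
      rw [Subgroup.mem_centralizer_iff]
      intro y hy
      rw [Set.mem_singleton_iff] at hy; subst hy
      exact comm_of_isMulCommutative hA h1 hd
    have hcs : Subgroup.zpowers s ≤ Subgroup.centralizer ({⁅u, s⁆} : Set G) := by
      rw [Subgroup.zpowers_le, Subgroup.mem_centralizer_iff]
      intro y hy
      rw [Set.mem_singleton_iff] at hy; subst hy
      exact (commutatorElement_eq_one_iff_mul_comm.mp (hq u hu))
    have hHc : H ≤ Subgroup.centralizer ({⁅u, s⁆} : Set G) := sup_le hcA hcs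
    rw [Subgroup.mem_centralizer_iff]
    intro t ht
    have := hHc ht
    rw [Subgroup.mem_centralizer_iff] at this
    exact (this _ rfl).symm
  have hclass2 := class_two_of_generators ((A : Set G) ∪ {s}) (by
    rw [← hHcl]
    rintro u (hu | hu) v (hv | hv)
    · have : ⁅u, v⁆ = 1 := by
        rw [commutatorElement_eq_one_iff_mul_comm]
        exact comm_of_isMulCommutative hA hu hv
      rw [this]; exact Subgroup.one_mem _
    · rw [Set.mem_singleton_iff] at hv; subst hv
      exact hmixed u hu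
    · rw [Set.mem_singleton_iff] at hu; subst hu
      have : ⁅u, v⁆ = ⁅v, u⁆⁻¹ := (commutatorElement_inv v u).symm
      rw [this]
      exact Subgroup.inv_mem _ (hmixed v hv)
    · rw [Set.mem_singleton_iff] at hu hv; subst hu; subst hv
      rw [commutatorElement_self]; exact Subgroup.one_mem _)
  rw [← hHcl] at hclass2
  have h1 : ⁅H, H⁆ ≤ Subgroup.centralizer (H : Set G) := by
    rw [Subgroup.commutator_le]
    intro g₁ hg₁ g₂ hg₂
    exact hclass2 g₁ hg₁ g₂ hg₂
  exact Subgroup.commutator_eq_bot_iff_le_centralizer.mpr h1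

end maps

section pcore

variable {G : Type*} [Group G]

theorem pCore_normal (p : ℕ) : (Cfsg.pCore p G).Normal :=
  Subgroup.sSup_normal _ (fun _ hN => hN.1)

theorem pCore_isPGroup (p : ℕ) : IsPGroup p (Cfsg.pCore p G) :=
  Sylow.sSup_of_normal _ (fun _ hN => hN.2) (fun _ hN => hN.1)

theorem le_pCore {p : ℕ} {N : Subgroup G} (hN : N.Normal) (hp : IsPGroup p N) :
    N ≤ Cfsg.pCore p G :=
  le_sSup ⟨hN, hp⟩

theorem pCore_le_sylow {p : ℕ} (P : Sylow p G) : Cfsg.pCore p G ≤ P :=
  haveI := pCore_normal (G := G) p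
  (pCore_isPGroup p).le_sylow_of_normal P

variable [Finite G] {p : ℕ} [Fact p.Prime]

/-- If `x` acts quadratically on the normal subgroup `V` and the action on `V` is `p`-stable,
then every Sylow `p`-subgroup contains an element inducing the same action on `V`. -/
theorem exists_sylow_rep {V : Subgroup G} [V.Normal] (hst : Cfsg.IsPStableOn p V) (P : Sylow p G)
    {x : G} (hx : ⁅⁅V, zpowers x⁆, zpowers x⁆ = ⊥) :
    ∃ s ∈ (P : Subgroup G), s⁻¹ * x ∈ centralizer (V : Set G) := by
  have h1 := hst x hx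
  have h2 : Cfsg.pCore p (G ⧸ centralizer (V : Set G)) ≤
      (P : Subgroup G).map (QuotientGroup.mk' (centralizer (V : Set G))) := by
    rw [← Sylow.coe_mapSurjective (QuotientGroup.mk'_surjective _) P]
    exact pCore_le_sylow _
  obtain ⟨s, hs, hsx⟩ := h2 h1
  exact ⟨s, hs, QuotientGroup.eq.mp hsx⟩

theorem mem_pCore_of_quadratic [(Cfsg.pCore p G).Normal]
    (hc : centralizer (Cfsg.pCore p G : Set G) ≤ Cfsg.pCore p G)
    (hst : Cfsg.IsPStableOn p (Cfsg.pCore p G)) {x : G}
    (hx : ⁅⁅Cfsg.pCore p G, zpowers x⁆, zpowers x⁆ = ⊥) : x ∈ Cfsg.pCore p G := by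
  have h1 := hst x hx
  haveI : (Cfsg.pCore p (G ⧸ centralizer (Cfsg.pCore p G : Set G))).Normal := pCore_normal p
  have hL : IsPGroup p ((Cfsg.pCore p (G ⧸ centralizer (Cfsg.pCore p G : Set G))).comap
      (QuotientGroup.mk' (centralizer (Cfsg.pCore p G : Set G)))) := by
    apply (pCore_isPGroup p).comap_of_ker_isPGroup
    rw [QuotientGroup.ker_mk']
    exact (pCore_isPGroup p).to_le hc
  have hLn : ((Cfsg.pCore p (G ⧸ centralizer (Cfsg.pCore p G : Set G))).comap
      (QuotientGroup.mk' (centralizer (Cfsg.pCore p G : Set G)))).Normal := inferInstance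
  exact le_pCore hLn hL (by simpa using h1)

end pcore

end Cfsg.Agent.Lib.Helper58
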