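import Mathlib

set_option autoImplicit false

namespace Cfsg.Agent.Lib.Helper58.ESP3

open scoped commutatorElement

section Class2
variable {G : Type*} [Group G]

theorem pow_mul_comm_class2 (x y : G) (hcy : Commute ⁅y, x⁆ y) (k : ℕ) :
    y ^ k * x = ⁅y, x⁆ ^ k * x * y ^ k := by
  induction k with
  | zero => simp
  | succ k ih =>
    have h1 : y * x = ⁅y, x⁆ * x * y := by
      rw [commutatorElement_def]; group
    calc y ^ (k + 1) * x = y * (y ^ k * x) := by rw [pow_succ', mul_assoc]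
      _ = y * (⁅y, x⁆ ^ k * x * y ^ k) := by rw [ih]
      _ = ⁅y, x⁆ ^ k * (y * x) * y ^ k := by
          have := (hcy.pow_left k).eq
          rw [← mul_assoc, ← mul_assoc, ← this]; simp [mul_assoc]
      _ = ⁅y, x⁆ ^ k * (⁅y, x⁆ * x * y) * y ^ k := by rw [← h1]
      _ = ⁅y, x⁆ ^ (k + 1) * x * y ^ (k + 1) := by
          rw [pow_succ, pow_succ']; simp [mul_assoc]

theorem mul_pow_class2 (x y : G) (hcx : Commute ⁅y, x⁆ x) (hcy : Commute ⁅y, x⁆ y) (n : ℕ) :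
    (x * y) ^ n = ⁅y, x⁆ ^ (∑ i ∈ Finset.range n, i) * x ^ n * y ^ n := by
  induction n with
  | zero => simp
  | succ n ih =>
    have h2 := pow_mul_comm_class2 x y hcy n
    have hcxn : Commute (⁅y, x⁆ ^ n) (x ^ n) := (hcx.pow_left n).pow_right n
    calc (x * y) ^ (n + 1) = (x * y) ^ n * (x * y) := pow_succ _ _
      _ = ⁅y, x⁆ ^ (∑ i ∈ Finset.range n, i) * x ^ n * y ^ n * (x * y) := by rw [ih]
      _ = ⁅y, x⁆ ^ (∑ i ∈ Finset.range n, i) * x ^ n * (y ^ n * x) * y := by simp [mul_assoc]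
      _ = ⁅y, x⁆ ^ (∑ i ∈ Finset.range n, i) * x ^ n * (⁅y, x⁆ ^ n * x * y ^ n) * y := by rw [h2]
      _ = ⁅y, x⁆ ^ (∑ i ∈ Finset.range n, i) * (x ^ n * ⁅y, x⁆ ^ n) * x * y ^ n * y := by
          simp [mul_assoc]
      _ = ⁅y, x⁆ ^ (∑ i ∈ Finset.range n, i) * (⁅y, x⁆ ^ n * x ^ n) * x * y ^ n * y := by
          rw [hcxn.eq]
      _ = ⁅y, x⁆ ^ (∑ i ∈ Finset.range (n + 1), i) * x ^ (n + 1) * y ^ (n + 1) := by
          rw [Finset.sum_range_succ, pow_add, pow_succ, pow_succ]; simp [mul_assoc]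

theorem mul_pow_odd_prime_class2 {p : ℕ} (hp : p.Prime) (hp2 : p ≠ 2) (x y : G)
    (hcx : Commute ⁅y, x⁆ x) (hcy : Commute ⁅y, x⁆ y) (hc : ⁅y, x⁆ ^ p = 1) :
    (x * y) ^ p = x ^ p * y ^ p := by
  rw [mul_pow_class2 x y hcx hcy p]
  have hodd : Odd p := hp.odd_of_ne_two hp2
  have h2 : 2 ∣ p - 1 := by
    obtain ⟨k, hk⟩ := hodd
    omega
  have hsum : ∑ i ∈ Finset.range p, i = p * ((p - 1) / 2) := by
    rw [Finset.sum_range_id, Nat.mul_div_assoc _ h2]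
  rw [hsum, pow_mul, hc, one_pow, one_mul]

end Class2


section Ctx
variable {G : Type*} [Group G]

/-- Context: `P` behaves like an extraspecial group of order `p^3` and exponent `p^2` with centre `Z`. -/
structure Ctx (p : ℕ) (P Z : Subgroup G) : Prop where
  le : Z ≤ P
  central : ∀ z ∈ Z, ∀ a ∈ P, a * z = z * a
  mem_of_central : ∀ x ∈ P, (∀ a ∈ P, a * x = x * a) → x ∈ Z
  comm_mem : ∀ a ∈ P, ∀ b ∈ P, a * b * a⁻¹ * b⁻¹ ∈ Z
  pow_mem : ∀ a ∈ P, a ^ p ∈ Z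
  cardZ : Nat.card Z = p
  cardP : Nat.card P = p ^ 3
  exists_pow_ne : ∃ a ∈ P, a ^ p ≠ 1

variable {p : ℕ} {P Z : Subgroup G}

theorem Ctx.pow_eq_one (h : Ctx p P Z) {z : G} (hz : z ∈ Z) : z ^ p = 1 := by
  have h1 : (⟨z, hz⟩ : Z) ^ Nat.card Z = 1 := pow_card_eq_one'
  rw [h.cardZ] at h1
  exact congrArg Subtype.val h1

theorem Ctx.mul_pow (h : Ctx p P Z) (hp : p.Prime) (hp2 : p ≠ 2) {a b : G} (ha : a ∈ P) (hb : b ∈ P) :
    (a * b) ^ p = a ^ p * b ^ p := by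
  have hc : ⁅b, a⁆ ∈ Z := by
    rw [commutatorElement_def]; exact h.comm_mem b hb a ha
  apply mul_pow_odd_prime_class2 hp hp2
  · exact (h.central _ hc a ha).symm
  · exact (h.central _ hc b hb).symm
  · exact h.pow_eq_one hc

/-- `Ω₁(P)`: the elements of `P` of order dividing `p`. -/
def Ctx.E (h : Ctx p P Z) (hp : p.Prime) (hp2 : p ≠ 2) : Subgroup G where
  carrier := {x | x ∈ P ∧ x ^ p = 1}
  mul_mem' := by
    rintro a b ⟨ha, ha'⟩ ⟨hb, hb'⟩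
    exact ⟨P.mul_mem ha hb, by rw [h.mul_pow hp hp2 ha hb, ha', hb', one_mul]⟩
  one_mem' := ⟨P.one_mem, one_pow _⟩
  inv_mem' := by
    rintro a ⟨ha, ha'⟩
    exact ⟨P.inv_mem ha, by rw [inv_pow, ha', inv_one]⟩

theorem Ctx.mem_E (h : Ctx p P Z) (hp : p.Prime) (hp2 : p ≠ 2) {x : G} :
    x ∈ h.E hp hp2 ↔ x ∈ P ∧ x ^ p = 1 := Iff.rfl

theorem Ctx.E_le (h : Ctx p P Z) (hp : p.Prime) (hp2 : p ≠ 2) : h.E hp hp2 ≤ P := fun _ hx => hx.1

theorem Ctx.Z_le_E (h : Ctx p P Z) (hp : p.Prime) (hp2 : p ≠ 2) : Z ≤ h.E hp hp2 :=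
  fun _ hz => ⟨h.le hz, h.pow_eq_one hz⟩

theorem Ctx.conj_mem_E (h : Ctx p P Z) (hp : p.Prime) (hp2 : p ≠ 2) {u e : G} (hu : u ∈ P)
    (he : e ∈ h.E hp hp2) : u * e * u⁻¹ ∈ h.E hp hp2 := by
  refine ⟨P.mul_mem (P.mul_mem hu he.1) (P.inv_mem hu), ?_⟩
  rw [conj_pow, he.2, mul_one, mul_inv_cancel]

theorem Ctx.P_le_normalizer_E (h : Ctx p P Z) (hp : p.Prime) (hp2 : p ≠ 2) :
    P ≤ Subgroup.normalizer (h.E hp hp2 : Set G) := by
  intro u hu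
  rw [Subgroup.mem_normalizer_iff]
  intro e
  constructor
  · intro he; exact h.conj_mem_E hp hp2 hu he
  · intro he
    have := h.conj_mem_E hp hp2 (P.inv_mem hu) he
    simpa [mul_assoc] using this

end Ctx

end Cfsg.Agent.Lib.Helper58.ESP3
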