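import Mathlib
import Cfsg.Agent.Lib.Helper58.ESP3a

set_option autoImplicit false

namespace Cfsg.Agent.Lib.Helper58.ESP3

section Ctx2
variable {G : Type*} [Group G] [Finite G] {p : ℕ} {P Z : Subgroup G}

theorem card_lt_of_le_of_ne {H K : Subgroup G} (hle : H ≤ K) (hne : H ≠ K) :
    Nat.card H < Nat.card K := by
  by_contra hcon
  exact hne (Subgroup.eq_of_le_of_card_ge hle (not_lt.mp hcon))

theorem Ctx.E_ne_P (h : Ctx p P Z) (hp : p.Prime) (hp2 : p ≠ 2) : h.E hp hp2 ≠ P := by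
  obtain ⟨a, ha, ha'⟩ := h.exists_pow_ne
  intro heq
  have : a ∈ h.E hp hp2 := by rw [heq]; exact ha
  exact ha' this.2

theorem Ctx.card_E (h : Ctx p P Z) (hp : p.Prime) (hp2 : p ≠ 2) {y : G} (hy : y ∈ h.E hp hp2)
    (hyZ : y ∉ Z) : Nat.card (h.E hp hp2) = p ^ 2 := by
  have h1 : Nat.card (h.E hp hp2) < Nat.card P :=
    card_lt_of_le_of_ne (h.E_le hp hp2) (h.E_ne_P hp hp2)
  have h2 : Nat.card Z < Nat.card (h.E hp hp2) := by
    apply card_lt_of_le_of_ne (h.Z_le_E hp hp2)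
    intro heq
    apply hyZ; rw [heq]; exact hy
  have h3 : Nat.card (h.E hp hp2) ∣ p ^ 3 := by
    rw [← h.cardP]; exact Subgroup.card_dvd_of_le (h.E_le hp hp2)
  obtain ⟨k, hk, hk'⟩ := (Nat.dvd_prime_pow hp).mp h3
  rw [hk'] at h1 h2 ⊢
  rw [h.cardP] at h1
  rw [h.cardZ] at h2
  have hk3 : k < 3 := (Nat.pow_lt_pow_iff_right hp.one_lt).mp h1
  have hk1 : 1 < k := by
    have : p ^ 1 < p ^ k := by simpa using h2
    exact (Nat.pow_lt_pow_iff_right hp.one_lt).mp this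
  have : k = 2 := by omega
  rw [this]

theorem Ctx.E_comm (h : Ctx p P Z) (hp : p.Prime) (hp2 : p ≠ 2) {y : G} (hy : y ∈ h.E hp hp2)
    (hyZ : y ∉ Z) {a b : G} (ha : a ∈ h.E hp hp2) (hb : b ∈ h.E hp hp2) : a * b = b * a := by
  haveI : Fact p.Prime := ⟨hp⟩
  have hc := IsPGroup.isMulCommutative_of_card_eq_prime_sq (h.card_E hp hp2 hy hyZ)
  exact congrArg Subtype.val (hc.is_comm.comm ⟨a, ha⟩ ⟨b, hb⟩)

theorem Ctx.sup_zpowers_eq (h : Ctx p P Z) (hp : p.Prime) (hp2 : p ≠ 2) {y : G}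
    (hy : y ∈ h.E hp hp2) (hyZ : y ∉ Z) {a : G} (ha : a ∈ P) (haE : a ∉ h.E hp hp2) :
    h.E hp hp2 ⊔ Subgroup.zpowers a = P := by
  have hle : h.E hp hp2 ⊔ Subgroup.zpowers a ≤ P :=
    sup_le (h.E_le hp hp2) (by rw [Subgroup.zpowers_le]; exact ha)
  by_contra hne
  have h1 : Nat.card ↥(h.E hp hp2 ⊔ Subgroup.zpowers a) < Nat.card P := card_lt_of_le_of_ne hle hne
  have h2 : Nat.card (h.E hp hp2) < Nat.card ↥(h.E hp hp2 ⊔ Subgroup.zpowers a) := by
    apply card_lt_of_le_of_ne le_sup_left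
    intro heq
    apply haE; rw [heq]
    exact (le_sup_right : Subgroup.zpowers a ≤ _) (Subgroup.mem_zpowers a)
  have h3 : Nat.card ↥(h.E hp hp2 ⊔ Subgroup.zpowers a) ∣ p ^ 3 := by
    rw [← h.cardP]; exact Subgroup.card_dvd_of_le hle
  obtain ⟨k, hk, hk'⟩ := (Nat.dvd_prime_pow hp).mp h3
  rw [hk'] at h1 h2
  rw [h.cardP] at h1
  rw [h.card_E hp hp2 hy hyZ] at h2
  have hk3 : k < 3 := (Nat.pow_lt_pow_iff_right hp.one_lt).mp h1
  have hk2 : 2 < k := (Nat.pow_lt_pow_iff_right hp.one_lt).mp h2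
  omega

/-- Elements of `P` outside `E` do not commute with elements of `E` outside `Z`. -/
theorem Ctx.not_commute (h : Ctx p P Z) (hp : p.Prime) (hp2 : p ≠ 2) {y : G}
    (hy : y ∈ h.E hp hp2) (hyZ : y ∉ Z) {a : G} (ha : a ∈ P) (haE : a ∉ h.E hp hp2) :
    a * y ≠ y * a := by
  intro hcomm
  apply hyZ
  apply h.mem_of_central y hy.1
  have hP : P ≤ Subgroup.centralizer ({y} : Set G) := by
    rw [← h.sup_zpowers_eq hp hp2 hy hyZ ha haE]
    apply sup_le
    · intro e he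
      rw [Subgroup.mem_centralizer_iff]
      intro x hx
      rw [Set.mem_singleton_iff] at hx
      subst hx
      exact h.E_comm hp hp2 hy hyZ hy he
    · rw [Subgroup.zpowers_le, Subgroup.mem_centralizer_iff]
      intro x hx
      rw [Set.mem_singleton_iff] at hx
      subst hx
      exact hcomm.symm
  intro b hb
  have := hP hb
  rw [Subgroup.mem_centralizer_iff] at this
  exact (this y rfl).symm

end Ctx2

end Cfsg.Agent.Lib.Helper58.ESP3
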