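import Mathlib
import Cfsg.Agent.Lib.Helper58.ESP3b

set_option autoImplicit false

namespace Cfsg.Agent.Lib.Helper58.ESP3

section Gen
variable {G : Type*} [Group G]

theorem exists_pow_eq_of_prime_card [Finite G] {p : ℕ} (hp : p.Prime) {Z : Subgroup G}
    (hZ : Nat.card Z = p) {z w : G} (hz : z ∈ Z) (hz1 : z ≠ 1) (hw : w ∈ Z) :
    ∃ k : ℕ, z ^ k = w := by
  haveI : Fact p.Prime := ⟨hp⟩
  have h1 : Subgroup.zpowers (⟨z, hz⟩ : Z) = ⊤ := by
    apply zpowers_eq_top_of_prime_card hZ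
    intro h
    exact hz1 (congrArg Subtype.val h)
  have h2 : (⟨w, hw⟩ : Z) ∈ Subgroup.zpowers (⟨z, hz⟩ : Z) := by rw [h1]; trivial
  rw [← mem_powers_iff_mem_zpowers] at h2
  obtain ⟨k, hk⟩ := h2
  exact ⟨k, by simpa using congrArg Subtype.val hk⟩

theorem conj_pow_of_comm {a y c : G} (h1 : a * y * a⁻¹ = c * y) (h2 : a * c = c * a) (k : ℕ) :
    a ^ k * y * (a ^ k)⁻¹ = c ^ k * y := by
  induction k with
  | zero => simp
  | succ k ih =>
    have h3 : a * c ^ k * a⁻¹ = c ^ k := by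
      have : Commute a (c ^ k) := (show Commute a c from h2).pow_right k
      rw [this.eq]; simp
    calc a ^ (k + 1) * y * (a ^ (k + 1))⁻¹ = a * (a ^ k * y * (a ^ k)⁻¹) * a⁻¹ := by
          rw [pow_succ']; simp [mul_assoc]
      _ = a * (c ^ k * y) * a⁻¹ := by rw [ih]
      _ = (a * c ^ k * a⁻¹) * (a * y * a⁻¹) := by simp [mul_assoc]
      _ = c ^ k * (c * y) := by rw [h3, h1]
      _ = c ^ (k + 1) * y := by rw [pow_succ]; simp [mul_assoc]

theorem conj_pow_of_commute {a y : G} (h1 : a * y = y * a) (k : ℕ) :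
    a ^ k * y * (a ^ k)⁻¹ = y := by
  have : Commute (a ^ k) y := (show Commute a y from h1).pow_left k
  rw [this.eq]; simp

/-- If `t` inverts a subgroup `Z` of prime order and one more element `y ∉ Z` of an abelian group
`E` of order `p^2` containing `Z`, then `t` inverts `E`. -/
theorem inverts_of_gens [Finite G] {p : ℕ} (hp : p.Prime) {E Z : Subgroup G} (hZE : Z ≤ E)
    (hcomm : ∀ a ∈ E, ∀ b ∈ E, a * b = b * a) (hE : Nat.card E = p ^ 2) (hZ : Nat.card Z = p)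
    {t y : G} (hy : y ∈ E) (hyZ : y ∉ Z) (htZ : ∀ z ∈ Z, t * z * t⁻¹ = z⁻¹)
    (hty : t * y * t⁻¹ = y⁻¹) : ∀ e ∈ E, t * e * t⁻¹ = e⁻¹ := by
  let E' : Subgroup G :=
    { carrier := {e | e ∈ E ∧ t * e * t⁻¹ = e⁻¹}
      mul_mem' := by
        rintro a b ⟨ha, ha'⟩ ⟨hb, hb'⟩
        refine ⟨E.mul_mem ha hb, ?_⟩
        calc t * (a * b) * t⁻¹ = (t * a * t⁻¹) * (t * b * t⁻¹) := by simp [mul_assoc]
          _ = a⁻¹ * b⁻¹ := by rw [ha', hb']
          _ = (b * a)⁻¹ := by rw [mul_inv_rev]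
          _ = (a * b)⁻¹ := by rw [hcomm a ha b hb]
      one_mem' := ⟨E.one_mem, by simp⟩
      inv_mem' := by
        rintro a ⟨ha, ha'⟩
        refine ⟨E.inv_mem ha, ?_⟩
        calc t * a⁻¹ * t⁻¹ = (t * a * t⁻¹)⁻¹ := by simp [mul_assoc]
          _ = a⁻¹⁻¹ := by rw [ha'] }
  have hE'E : E' ≤ E := fun e he => he.1
  have hZE' : Z ≤ E' := fun z hz => ⟨hZE hz, htZ z hz⟩
  have hyE' : y ∈ E' := ⟨hy, hty⟩
  have h2 : Nat.card Z < Nat.card E' := by
    apply card_lt_of_le_of_ne hZE'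
    intro heq
    apply hyZ; rw [heq]; exact hyE'
  have h3 : Nat.card E' ∣ p ^ 2 := by
    rw [← hE]; exact Subgroup.card_dvd_of_le hE'E
  obtain ⟨k, hk, hk'⟩ := (Nat.dvd_prime_pow hp).mp h3
  rw [hk', hZ] at h2
  have hk1 : 1 < k := by
    have : p ^ 1 < p ^ k := by simpa using h2
    exact (Nat.pow_lt_pow_iff_right hp.one_lt).mp this
  have hk2 : k = 2 := by omega
  have heq : E' = E := by
    apply Subgroup.eq_of_le_of_card_ge hE'E
    rw [hE, hk', hk2]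
  intro e he
  have : e ∈ E' := by rw [heq]; exact he
  exact this.2

end Gen

end Cfsg.Agent.Lib.Helper58.ESP3
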