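import Mathlib
import Cfsg.Agent.Lib.Helper58.ESP3c

set_option autoImplicit false

namespace Cfsg.Agent.Lib.Helper58.ESP3

section Inv
variable {G : Type*} [Group G] [Finite G] {p : ℕ} {P Z : Subgroup G}

theorem mem_normalizer_conj {E : Subgroup G} {n e : G} (hn : n ∈ Subgroup.normalizer (E : Set G))
    (he : e ∈ E) : n * e * n⁻¹ ∈ E := (Subgroup.mem_normalizer_iff.mp hn e).mp he

theorem mem_normalizer_conj' {E : Subgroup G} {n e : G} (hn : n ∈ Subgroup.normalizer (E : Set G))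
    (he : e ∈ E) : n⁻¹ * e * n ∈ E := by
  have := mem_normalizer_conj (Subgroup.inv_mem _ hn) he
  simpa using this

theorem Ctx.exists_inverting (h : Ctx p P Z) (hp : p.Prime) (hp2 : p ≠ 2) {z y n : G}
    (hz : z ∈ Z) (hy : y ∈ h.E hp hp2) (hyZ : y ∉ Z)
    (hn : n ∈ Subgroup.normalizer (h.E hp hp2 : Set G)) (hnz : n * z * n⁻¹ = y) :
    ∃ t ∈ Subgroup.normalizer (h.E hp hp2 : Set G), ∀ e ∈ h.E hp hp2, t * e * t⁻¹ = e⁻¹ := by
  have hz1 : z ≠ 1 := by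
    rintro rfl
    apply hyZ
    rw [← hnz]; simp [Z.one_mem]
  have hzE : z ∈ h.E hp hp2 := h.Z_le_E hp hp2 hz
  have hEc : ∀ a ∈ h.E hp hp2, ∀ b ∈ h.E hp hp2, a * b = b * a :=
    fun a ha b hb => h.E_comm hp hp2 hy hyZ ha hb
  obtain ⟨a, haP, hap⟩ := h.exists_pow_ne
  have haE : a ∉ h.E hp hp2 := fun hc => hap hc.2
  have haN : a ∈ Subgroup.normalizer (h.E hp hp2 : Set G) := h.P_le_normalizer_E hp hp2 haP
  -- the element a'
  have hcZ : a * y * a⁻¹ * y⁻¹ ∈ Z := h.comm_mem a haP y hy.1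
  have hc1 : a * y * a⁻¹ * y⁻¹ ≠ 1 := by
    intro hc
    apply h.not_commute hp hp2 hy hyZ haP haE
    have : a * y * a⁻¹ = y := by
      have := congrArg (· * y) hc
      simpa using this
    calc a * y = a * y * a⁻¹ * a := by simp
      _ = y * a := by rw [this]
  obtain ⟨k, hk⟩ := exists_pow_eq_of_prime_card hp h.cardZ hcZ hc1 hz
  have hay : a * y * a⁻¹ = (a * y * a⁻¹ * y⁻¹) * y := by simp
  have hac : a * (a * y * a⁻¹ * y⁻¹) = (a * y * a⁻¹ * y⁻¹) * a := h.central _ hcZ a haP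
  have ha'y : a ^ k * y * (a ^ k)⁻¹ = z * y := by
    rw [conj_pow_of_comm hay hac k, hk]
  have ha'z : a ^ k * z * (a ^ k)⁻¹ = z := conj_pow_of_commute (h.central z hz a haP) k
  have ha'N : a ^ k ∈ Subgroup.normalizer (h.E hp hp2 : Set G) := Subgroup.pow_mem _ haN k
  -- the element b'
  set e := n⁻¹ * z * n with he
  have heE : e ∈ h.E hp hp2 := mem_normalizer_conj' hn hzE
  have hne : n * e * n⁻¹ = z := by rw [he]; simp [mul_assoc]
  have heZ : e ∉ Z := by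
    intro heZ
    have he1 : e ≠ 1 := by
      intro h1
      rw [h1] at hne
      apply hz1; rw [← hne]; simp
    obtain ⟨j, hj⟩ := exists_pow_eq_of_prime_card hp h.cardZ heZ he1 hz
    apply hyZ
    have : y = z ^ j := by
      calc y = n * z * n⁻¹ := hnz.symm
        _ = n * e ^ j * n⁻¹ := by rw [hj]
        _ = (n * e * n⁻¹) ^ j := conj_pow.symm
        _ = z ^ j := by rw [hne]
    rw [this]; exact Z.pow_mem hz j
  have hdZ : a * e * a⁻¹ * e⁻¹ ∈ Z := h.comm_mem a haP e heE.1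
  have hd1 : a * e * a⁻¹ * e⁻¹ ≠ 1 := by
    intro hc
    apply h.not_commute hp hp2 heE heZ haP haE
    have : a * e * a⁻¹ = e := by
      have := congrArg (· * e) hc
      simpa using this
    calc a * e = a * e * a⁻¹ * a := by simp
      _ = e * a := by rw [this]
  obtain ⟨k', hk'⟩ := exists_pow_eq_of_prime_card hp h.cardZ hdZ hd1 (Z.inv_mem hz)
  set b := n * a * n⁻¹ with hb
  set d := n * (a * e * a⁻¹ * e⁻¹) * n⁻¹ with hd
  have hbN : b ∈ Subgroup.normalizer (h.E hp hp2 : Set G) :=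
    Subgroup.mul_mem _ (Subgroup.mul_mem _ hn haN) (Subgroup.inv_mem _ hn)
  have hbz : b * z * b⁻¹ = d * z := by
    rw [hb, hd, ← hne]; simp [mul_assoc]
  have hbd : b * d = d * b := by
    have := hac
    have h1 : a * (a * e * a⁻¹ * e⁻¹) = (a * e * a⁻¹ * e⁻¹) * a := h.central _ hdZ a haP
    rw [hb, hd]
    calc n * a * n⁻¹ * (n * (a * e * a⁻¹ * e⁻¹) * n⁻¹)
        = n * (a * (a * e * a⁻¹ * e⁻¹)) * n⁻¹ := by simp [mul_assoc]
      _ = n * ((a * e * a⁻¹ * e⁻¹) * a) * n⁻¹ := by rw [h1]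
      _ = n * (a * e * a⁻¹ * e⁻¹) * n⁻¹ * (n * a * n⁻¹) := by simp [mul_assoc]
  have hby : b * y = y * b := by
    have h1 : a * z = z * a := h.central z hz a haP
    rw [hb, ← hnz]
    calc n * a * n⁻¹ * (n * z * n⁻¹) = n * (a * z) * n⁻¹ := by simp [mul_assoc]
      _ = n * (z * a) * n⁻¹ := by rw [h1]
      _ = n * z * n⁻¹ * (n * a * n⁻¹) := by simp [mul_assoc]
  have hdk : d ^ k' = y⁻¹ := by
    rw [hd, conj_pow, hk', ← hnz]; simp [mul_assoc]
  have hb'z : b ^ k' * z * (b ^ k')⁻¹ = y⁻¹ * z := by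
    rw [conj_pow_of_comm hbz hbd k', hdk]
  have hb'y : b ^ k' * y * (b ^ k')⁻¹ = y := conj_pow_of_commute hby k'
  have hb'N : b ^ k' ∈ Subgroup.normalizer (h.E hp hp2 : Set G) := Subgroup.pow_mem _ hbN k'
  -- the element w
  set a' := a ^ k with ha'
  set b' := b ^ k' with hb'
  have hwz : (a' * b' * a') * z * (a' * b' * a')⁻¹ = y⁻¹ := by
    calc (a' * b' * a') * z * (a' * b' * a')⁻¹
        = a' * (b' * (a' * z * a'⁻¹) * b'⁻¹) * a'⁻¹ := by simp [mul_assoc]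
      _ = a' * (y⁻¹ * z) * a'⁻¹ := by rw [ha'z, hb'z]
      _ = (a' * y * a'⁻¹)⁻¹ * (a' * z * a'⁻¹) := by simp [mul_assoc]
      _ = (z * y)⁻¹ * z := by rw [ha'y, ha'z]
      _ = y⁻¹ := by simp [mul_inv_rev, mul_assoc]
  have hwy : (a' * b' * a') * y * (a' * b' * a')⁻¹ = z := by
    calc (a' * b' * a') * y * (a' * b' * a')⁻¹
        = a' * (b' * (a' * y * a'⁻¹) * b'⁻¹) * a'⁻¹ := by simp [mul_assoc]
      _ = a' * (b' * (z * y) * b'⁻¹) * a'⁻¹ := by rw [ha'y]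
      _ = a' * ((b' * z * b'⁻¹) * (b' * y * b'⁻¹)) * a'⁻¹ := by simp [mul_assoc]
      _ = a' * ((y⁻¹ * z) * y) * a'⁻¹ := by rw [hb'z, hb'y]
      _ = a' * z * a'⁻¹ := by
          have : y⁻¹ * z * y = z := by
            rw [mul_assoc, hEc z hzE y hy]; simp
          rw [this]
      _ = z := ha'z
  set w := a' * b' * a' with hw
  have hwN : w ∈ Subgroup.normalizer (h.E hp hp2 : Set G) :=
    Subgroup.mul_mem _ (Subgroup.mul_mem _ ha'N hb'N) ha'N
  have htz : (w * w) * z * (w * w)⁻¹ = z⁻¹ := by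
    calc (w * w) * z * (w * w)⁻¹ = w * (w * z * w⁻¹) * w⁻¹ := by simp [mul_assoc]
      _ = w * y⁻¹ * w⁻¹ := by rw [hwz]
      _ = (w * y * w⁻¹)⁻¹ := by simp [mul_assoc]
      _ = z⁻¹ := by rw [hwy]
  have hty : (w * w) * y * (w * w)⁻¹ = y⁻¹ := by
    calc (w * w) * y * (w * w)⁻¹ = w * (w * y * w⁻¹) * w⁻¹ := by simp [mul_assoc]
      _ = y⁻¹ := by rw [hwy, hwz]
  refine ⟨w * w, Subgroup.mul_mem _ hwN hwN, ?_⟩
  apply inverts_of_gens hp (h.Z_le_E hp hp2) hEc (h.card_E hp hp2 hy hyZ) h.cardZ hy hyZ _ hty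
  intro z' hz'
  obtain ⟨j, hj⟩ := exists_pow_eq_of_prime_card hp h.cardZ hz hz1 hz'
  rw [← hj, ← conj_pow, htz, inv_pow]

end Inv

end Cfsg.Agent.Lib.Helper58.ESP3
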