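import Mathlib
import Cfsg.Agent.Lib.Helper58.ESP3d
import Cfsg.Agent.Lib.Helper58.SylowGraph

set_option autoImplicit false

namespace Cfsg.Agent.Lib.Helper58.ESP3

open Cfsg.Agent.Lib.Helper58

section Syl
variable {G : Type*} [Group G] [Finite G] {p : ℕ} [Fact p.Prime]

/-- Two Sylow subgroups of `G` contained in a subgroup `X` are conjugate by an element of `X`. -/
theorem exists_conj_sylow_in (P Q : Sylow p G) (X : Subgroup G) (hP : (P : Subgroup G) ≤ X)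
    (hQ : (Q : Subgroup G) ≤ X) : ∃ x ∈ X, x • Q = P := by
  obtain ⟨x, hx⟩ := MulAction.exists_smul_eq ↥X (Q.subtype hQ) (P.subtype hP)
  refine ⟨x.1, x.2, ?_⟩
  rw [Sylow.smul_subtype hQ x] at hx
  have h1 : ((x • Q : Sylow p G) : Subgroup G).subgroupOf X = (P : Subgroup G).subgroupOf X := by
    have := congrArg (fun S : Sylow p ↥X => (S : Subgroup ↥X)) hx
    simpa [Sylow.coe_subtype] using this
  rw [Subgroup.subgroupOf_inj, inf_eq_left.mpr (Sylow.smul_le hQ x), inf_eq_left.mpr hP] at h1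
  exact Sylow.ext h1


variable {Z : Subgroup G} {P : Sylow p G}

theorem Ctx.exists_inverting_normalizing (h : Ctx p (P : Subgroup G) Z) (hp : p.Prime)
    (hp2 : p ≠ 2) {t₀ : G} (ht₀ : ∀ e ∈ h.E hp hp2, t₀ * e * t₀⁻¹ = e⁻¹) :
    ∃ t : G, (∀ a ∈ (P : Subgroup G), t * a * t⁻¹ ∈ (P : Subgroup G)) ∧
      ∀ e ∈ h.E hp hp2, t * e * t⁻¹ = e⁻¹ := by
  set E := h.E hp hp2 with hE
  have ht₀' : ∀ e ∈ E, t₀⁻¹ * e * t₀ = e⁻¹ := by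
    intro e he
    have h1 := ht₀ e⁻¹ (E.inv_mem he)
    rw [inv_inv] at h1
    calc t₀⁻¹ * e * t₀ = t₀⁻¹ * (t₀ * e⁻¹ * t₀⁻¹) * t₀ := by rw [h1]
      _ = e⁻¹ := by simp [mul_assoc]
  let X : Subgroup G :=
    { carrier := {x | ∃ u ∈ (P : Subgroup G), ∀ e ∈ E, x * e * x⁻¹ = u * e * u⁻¹}
      one_mem' := ⟨1, Subgroup.one_mem _, fun e _ => rfl⟩
      mul_mem' := by
        rintro x₁ x₂ ⟨u₁, hu₁, h₁⟩ ⟨u₂, hu₂, h₂⟩
        refine ⟨u₁ * u₂, Subgroup.mul_mem _ hu₁ hu₂, ?_⟩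
        intro e he
        have he2 : u₂ * e * u₂⁻¹ ∈ E := h.conj_mem_E hp hp2 hu₂ he
        calc x₁ * x₂ * e * (x₁ * x₂)⁻¹ = x₁ * (x₂ * e * x₂⁻¹) * x₁⁻¹ := by simp [mul_assoc]
          _ = x₁ * (u₂ * e * u₂⁻¹) * x₁⁻¹ := by rw [h₂ e he]
          _ = u₁ * (u₂ * e * u₂⁻¹) * u₁⁻¹ := h₁ _ he2
          _ = u₁ * u₂ * e * (u₁ * u₂)⁻¹ := by simp [mul_assoc]
      inv_mem' := by
        rintro x ⟨u, hu, h₁⟩
        refine ⟨u⁻¹, Subgroup.inv_mem _ hu, ?_⟩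
        intro e he
        have he2 : u⁻¹ * e * u⁻¹⁻¹ ∈ E := h.conj_mem_E hp hp2 (Subgroup.inv_mem _ hu) he
        have h3 := h₁ _ he2
        have h4 : u * (u⁻¹ * e * u⁻¹⁻¹) * u⁻¹ = e := by simp [mul_assoc]
        rw [h4] at h3
        calc x⁻¹ * e * x⁻¹⁻¹ = x⁻¹ * (x * (u⁻¹ * e * u⁻¹⁻¹) * x⁻¹) * x⁻¹⁻¹ := by rw [h3]
          _ = u⁻¹ * e * u⁻¹⁻¹ := by simp [mul_assoc] }
  have hPX : (P : Subgroup G) ≤ X := fun x hx => ⟨x, hx, fun e _ => rfl⟩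
  have hQX : ((t₀ • P : Sylow p G) : Subgroup G) ≤ X := by
    intro x hx
    have hx' : t₀⁻¹ * x * t₀ ∈ (P : Subgroup G) := (mem_smul_sylow P t₀ x).mp hx
    refine ⟨t₀⁻¹ * x * t₀, hx', ?_⟩
    intro e he
    have he2 : (t₀⁻¹ * x * t₀) * e⁻¹ * (t₀⁻¹ * x * t₀)⁻¹ ∈ E :=
      h.conj_mem_E hp hp2 hx' (E.inv_mem he)
    have h3 := ht₀ _ he2
    calc x * e * x⁻¹
        = t₀ * ((t₀⁻¹ * x * t₀) * (t₀⁻¹ * e * t₀) * (t₀⁻¹ * x * t₀)⁻¹) * t₀⁻¹ := by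
          simp [mul_assoc]
      _ = t₀ * ((t₀⁻¹ * x * t₀) * e⁻¹ * (t₀⁻¹ * x * t₀)⁻¹) * t₀⁻¹ := by rw [ht₀' e he]
      _ = ((t₀⁻¹ * x * t₀) * e⁻¹ * (t₀⁻¹ * x * t₀)⁻¹)⁻¹ := h3
      _ = (t₀⁻¹ * x * t₀) * e * (t₀⁻¹ * x * t₀)⁻¹ := by simp [mul_assoc]
  obtain ⟨x, hxX, hx⟩ := exists_conj_sylow_in P (t₀ • P) X hPX hQX
  obtain ⟨u, hu, hxu⟩ := hxX
  set n := x * t₀ with hn
  have hnP : n • P = P := by rw [hn, mul_smul]; exact hx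
  have hnN : n ∈ Subgroup.normalizer ((P : Subgroup G) : Set G) :=
    Sylow.smul_eq_iff_mem_normalizer.mp hnP
  have hne : ∀ e ∈ E, n * e * n⁻¹ = u * e⁻¹ * u⁻¹ := by
    intro e he
    calc n * e * n⁻¹ = x * (t₀ * e * t₀⁻¹) * x⁻¹ := by rw [hn]; simp [mul_assoc]
      _ = x * e⁻¹ * x⁻¹ := by rw [ht₀ e he]
      _ = u * e⁻¹ * u⁻¹ := hxu _ (E.inv_mem he)
  have hind : ∀ k : ℕ, ∀ e ∈ E, n ^ k * e * (n ^ k)⁻¹ = u ^ k * e ^ ((-1 : ℤ) ^ k) * (u ^ k)⁻¹ := by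
    intro k
    induction k with
    | zero => intro e _; simp
    | succ k ih =>
      intro e he
      have hf : u ^ k * e ^ ((-1 : ℤ) ^ k) * (u ^ k)⁻¹ ∈ E :=
        h.conj_mem_E hp hp2 (Subgroup.pow_mem _ hu k) (E.zpow_mem he _)
      calc n ^ (k + 1) * e * (n ^ (k + 1))⁻¹ = n * (n ^ k * e * (n ^ k)⁻¹) * n⁻¹ := by
            rw [pow_succ']; simp [mul_assoc]
        _ = n * (u ^ k * e ^ ((-1 : ℤ) ^ k) * (u ^ k)⁻¹) * n⁻¹ := by rw [ih e he]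
        _ = u * (u ^ k * e ^ ((-1 : ℤ) ^ k) * (u ^ k)⁻¹)⁻¹ * u⁻¹ := hne _ hf
        _ = u ^ (k + 1) * e ^ ((-1 : ℤ) ^ (k + 1)) * (u ^ (k + 1))⁻¹ := by
            rw [pow_succ (-1 : ℤ) k, zpow_mul, zpow_neg_one, pow_succ' u k]
            simp [mul_assoc]
  refine ⟨n ^ p, ?_, ?_⟩
  · intro a ha
    have hnp : n ^ p ∈ Subgroup.normalizer ((P : Subgroup G) : Set G) := Subgroup.pow_mem _ hnN p
    exact (Subgroup.mem_normalizer_iff.mp hnp a).mp ha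
  · intro e he
    have hodd : Odd p := hp.odd_of_ne_two hp2
    rw [hind p e he, hodd.neg_one_pow, zpow_neg_one]
    have hupZ : u ^ p ∈ Z := h.pow_mem u hu
    have heP : e⁻¹ ∈ (P : Subgroup G) := h.E_le hp hp2 (E.inv_mem he)
    have := h.central _ hupZ _ heP
    rw [← this]; simp

theorem Ctx.false_of_inverting {P' : Subgroup G} (h : Ctx p P' Z) (hp : p.Prime) (hp2 : p ≠ 2)
    {t y : G} (htP : ∀ a ∈ P', t * a * t⁻¹ ∈ P') (ht : ∀ e ∈ h.E hp hp2, t * e * t⁻¹ = e⁻¹)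
    (hy : y ∈ h.E hp hp2) (hyZ : y ∉ Z) : False := by
  set E := h.E hp hp2 with hE
  have hEc : ∀ a ∈ E, ∀ b ∈ E, a * b = b * a := fun a ha b hb => h.E_comm hp hp2 hy hyZ ha hb
  obtain ⟨a, haP, hap⟩ := h.exists_pow_ne
  have haE : a ∉ E := fun hc => hap hc.2
  have ha2P : t * a * t⁻¹ ∈ P' := htP a haP
  have hapZ : a ^ p ∈ Z := h.pow_mem a haP
  have hapE : a ^ p ∈ E := h.Z_le_E hp hp2 hapZ
  have ha2p : (t * a * t⁻¹) ^ p = (a ^ p)⁻¹ := by rw [conj_pow, ht _ hapE]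
  have heE : t * a * t⁻¹ * a ∈ E := by
    refine ⟨Subgroup.mul_mem _ ha2P haP, ?_⟩
    rw [h.mul_pow hp hp2 ha2P haP, ha2p, inv_mul_cancel]
  set e := t * a * t⁻¹ * a with he
  have ha2 : t * a * t⁻¹ = e * a⁻¹ := by rw [he]; simp
  -- z₁
  have hz1Z : a * y * a⁻¹ * y⁻¹ ∈ Z := h.comm_mem a haP y hy.1
  set z₁ := a * y * a⁻¹ * y⁻¹ with hz₁
  have hz1E : z₁ ∈ E := h.Z_le_E hp hp2 hz1Z
  have hz1ne : z₁ ≠ 1 := by
    intro hc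
    apply h.not_commute hp hp2 hy hyZ haP haE
    have : a * y * a⁻¹ = y := by
      have := congrArg (· * y) hc
      simpa [hz₁] using this
    calc a * y = a * y * a⁻¹ * a := by simp
      _ = y * a := by rw [this]
  have hf : a⁻¹ * y⁻¹ * a⁻¹⁻¹ ∈ E := h.conj_mem_E hp hp2 (Subgroup.inv_mem _ haP) (E.inv_mem hy)
  rw [inv_inv] at hf
  have hfy : a⁻¹ * y⁻¹ * a * y = z₁ := by
    rw [hEc _ hf y hy]
    have h1 : a * z₁ = z₁ * a := h.central z₁ hz1Z a haP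
    calc y * (a⁻¹ * y⁻¹ * a) = a⁻¹ * (a * y * a⁻¹ * y⁻¹) * a := by simp [mul_assoc]
      _ = a⁻¹ * (z₁ * a) := by rw [← hz₁, mul_assoc]
      _ = a⁻¹ * (a * z₁) := by rw [h1]
      _ = z₁ := by simp
  have h1 : t * z₁ * t⁻¹ = z₁⁻¹ := ht _ hz1E
  have h2 : t * z₁ * t⁻¹ = z₁ := by
    calc t * z₁ * t⁻¹ = (t * a * t⁻¹) * (t * y * t⁻¹) * (t * a * t⁻¹)⁻¹ * (t * y * t⁻¹)⁻¹ := by
          rw [hz₁]; simp [mul_assoc]
      _ = (e * a⁻¹) * y⁻¹ * (e * a⁻¹)⁻¹ * y⁻¹⁻¹ := by rw [ha2, ht y hy]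
      _ = e * (a⁻¹ * y⁻¹ * a) * e⁻¹ * y := by simp [mul_assoc]
      _ = (a⁻¹ * y⁻¹ * a) * e * e⁻¹ * y := by rw [hEc e heE _ hf]
      _ = a⁻¹ * y⁻¹ * a * y := by simp [mul_assoc]
      _ = z₁ := hfy
  have h3 : z₁ * z₁ = 1 := by
    have : z₁⁻¹ = z₁ := h1.symm.trans h2
    calc z₁ * z₁ = z₁⁻¹ * z₁ := by rw [this]
      _ = 1 := inv_mul_cancel _
  have h4 : z₁ ^ p = 1 := h.pow_eq_one hz1Z
  obtain ⟨m, hm⟩ := hp.odd_of_ne_two hp2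
  apply hz1ne
  have h5 : z₁ ^ (2 * m) = 1 := by rw [pow_mul, pow_two, h3, one_pow]
  rw [hm, pow_succ, h5, one_mul] at h4
  exact h4

end Syl

end Cfsg.Agent.Lib.Helper58.ESP3
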