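import Mathlib
import Cfsg.Agent.Lib.Helper58.ESP3e

set_option autoImplicit false

namespace Cfsg.Agent.Lib.Helper58.ESP3

open Cfsg.Agent.Lib.Helper58

section Conj
variable {G : Type*} [Group G] [Finite G] {p : ℕ} [Fact p.Prime]

theorem mem_normalizer_of_conj_mem_finite {E : Subgroup G} {m : G}
    (hm : ∀ e ∈ E, m * e * m⁻¹ ∈ E) : m ∈ Subgroup.normalizer (E : Set G) := by
  rw [Subgroup.mem_normalizer_iff]
  intro x
  refine ⟨hm x, ?_⟩
  intro hx
  let φ : E → E := fun e => ⟨m * e * m⁻¹, hm e e.2⟩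
  have hinj : Function.Injective φ := by
    intro a b hab
    have := congrArg Subtype.val hab
    simp only [φ] at this
    apply Subtype.ext
    simpa using this
  have hsurj : Function.Surjective φ := Finite.injective_iff_surjective.mp hinj
  obtain ⟨e, he⟩ := hsurj ⟨m * x * m⁻¹, hx⟩
  have := congrArg Subtype.val he
  simp only [φ] at this
  have hxe : (e : G) = x := by simpa using this
  rw [← hxe]; exact e.2

/-- A `p`-subgroup of `H` lies in an `H`-conjugate of any Sylow subgroup of `G` inside `H`. -/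
theorem exists_smul_ge_of_le (Q : Sylow p G) (H : Subgroup G) (hQH : (Q : Subgroup G) ≤ H)
    {E : Subgroup G} (hE : IsPGroup p E) (hEH : E ≤ H) :
    ∃ c ∈ H, E ≤ ((c • Q : Sylow p G) : Subgroup G) := by
  have hE' : IsPGroup p ↥(E.subgroupOf H) := hE.comap_subtype
  obtain ⟨S, hS⟩ := hE'.exists_le_sylow
  obtain ⟨c, hc⟩ := MulAction.exists_smul_eq H (Q.subtype hQH) S
  refine ⟨c.1, c.2, ?_⟩
  intro q hq
  have hqH : q ∈ H := hEH hq
  have h1 : (⟨q, hqH⟩ : H) ∈ (S : Subgroup H) := hS (Subgroup.mem_subgroupOf.mpr hq)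
  rw [← hc, Sylow.smul_subtype hQH c] at h1
  have h2 : (⟨q, hqH⟩ : H) ∈
      (((c • Q : Sylow p G).subtype (Sylow.smul_le hQH c) : Sylow p H) : Subgroup H) := h1
  rw [Sylow.coe_subtype, Subgroup.mem_subgroupOf] at h2
  exact h2

variable {Z : Subgroup G} {P : Sylow p G}

theorem Ctx.exists_normalizer_conj (h : Ctx p (P : Subgroup G) Z) (hp : p.Prime) (hp2 : p ≠ 2)
    {z g y : G} (hz : z ∈ Z) (hgy : g * z * g⁻¹ = y) (hyP : y ∈ (P : Subgroup G)) (hyZ : y ∉ Z) :
    y ∈ h.E hp hp2 ∧ ∃ n ∈ Subgroup.normalizer (h.E hp hp2 : Set G), n * z * n⁻¹ = y := by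
  have hyE : y ∈ h.E hp hp2 := by
    refine ⟨hyP, ?_⟩
    rw [← hgy, conj_pow, h.pow_eq_one hz]; simp
  refine ⟨hyE, ?_⟩
  set E := h.E hp hp2 with hE
  have hEc : ∀ a ∈ E, ∀ b ∈ E, a * b = b * a := fun a ha b hb => h.E_comm hp hp2 hyE hyZ ha hb
  have hEH : E ≤ Subgroup.centralizer ({y} : Set G) := by
    intro e he
    rw [Subgroup.mem_centralizer_iff]
    intro x hx
    rw [Set.mem_singleton_iff] at hx
    subst hx
    exact hEc _ hyE e he
  have hQH : ((g • P : Sylow p G) : Subgroup G) ≤ Subgroup.centralizer ({y} : Set G) := by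
    intro x hx
    have hx' : g⁻¹ * x * g ∈ (P : Subgroup G) := (mem_smul_sylow P g x).mp hx
    have h1 := h.central z hz _ hx'
    rw [Subgroup.mem_centralizer_iff]
    intro w hw
    rw [Set.mem_singleton_iff] at hw
    subst hw
    rw [← hgy]
    calc g * z * g⁻¹ * x = g * (z * (g⁻¹ * x * g)) * g⁻¹ := by simp [mul_assoc]
      _ = g * ((g⁻¹ * x * g) * z) * g⁻¹ := by rw [h1]
      _ = x * (g * z * g⁻¹) := by simp [mul_assoc]
  have hEp : IsPGroup p E := P.isPGroup'.to_le (h.E_le hp hp2)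
  obtain ⟨c, hcH, hcE⟩ := exists_smul_ge_of_le (g • P) _ hQH hEp hEH
  have hcy : c * y * c⁻¹ = y := by
    rw [Subgroup.mem_centralizer_iff] at hcH
    have := hcH y rfl
    rw [← this]; simp
  refine ⟨c * g, ?_, ?_⟩
  · have hinv : (c * g)⁻¹ ∈ Subgroup.normalizer (E : Set G) := by
      apply mem_normalizer_of_conj_mem_finite
      intro e he
      have h1 : e ∈ ((c • (g • P) : Sylow p G) : Subgroup G) := hcE he
      rw [← mul_smul] at h1
      have h2 : (c * g)⁻¹ * e * (c * g) ∈ (P : Subgroup G) := (mem_smul_sylow P (c * g) e).mp h1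
      rw [inv_inv]
      refine ⟨h2, ?_⟩
      have : (c * g)⁻¹ * e * (c * g) = (c * g)⁻¹ * e * (c * g)⁻¹⁻¹ := by rw [inv_inv]
      rw [this, conj_pow, he.2]; simp
    have := Subgroup.inv_mem _ hinv
    rwa [inv_inv] at this
  · calc c * g * z * (c * g)⁻¹ = c * (g * z * g⁻¹) * c⁻¹ := by simp [mul_assoc]
      _ = y := by rw [hgy, hcy]

end Conj

end Cfsg.Agent.Lib.Helper58.ESP3
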