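import Mathlib
import Cfsg.Prelude.Def_Solvable
import Cfsg.Agent.Lib.Helper72.G42Defs

/-!
# K-G42 pack (S2553), leaf L10 (keystone 255314): `GL_4(2)` has no simple subgroup of order 1344
-/

set_option autoImplicit false

namespace Cfsg.Agent.Lib.Helper58.G42

open Cfsg.Agent.Lib.Helper72.G42
open scoped Nat

/-- the vector space `F_2^4` -/
abbrev V4 : Type := Fin 4 → ZMod 2

/-- the action of a subgroup of `GL_4(2)` on vectors -/
@[reducible] def l10Act (H : Subgroup (GL (Fin 4) (ZMod 2))) : MulAction ↥H V4 where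
  smul g v := ((g : GL (Fin 4) (ZMod 2)) : Matrix (Fin 4) (Fin 4) (ZMod 2)).mulVec v
  one_smul v := by
    show (((1 : ↥H) : GL (Fin 4) (ZMod 2)) : Matrix (Fin 4) (Fin 4) (ZMod 2)).mulVec v = v
    simp
  mul_smul g h v := by
    show (((g * h : ↥H) : GL (Fin 4) (ZMod 2)) : Matrix (Fin 4) (Fin 4) (ZMod 2)).mulVec v =
      ((g : GL (Fin 4) (ZMod 2)) : Matrix (Fin 4) (Fin 4) (ZMod 2)).mulVec
        (((h : GL (Fin 4) (ZMod 2)) : Matrix (Fin 4) (Fin 4) (ZMod 2)).mulVec v)
    simp [Matrix.mulVec_mulVec]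

attribute [local instance] l10Act

variable {H : Subgroup (GL (Fin 4) (ZMod 2))}

theorem l10_smul_def (g : ↥H) (v : V4) :
    g • v = ((g : GL (Fin 4) (ZMod 2)) : Matrix (Fin 4) (Fin 4) (ZMod 2)).mulVec v := rfl

theorem l10_smul_add (g : ↥H) (a b : V4) : g • (a + b) = g • a + g • b :=
  Matrix.mulVec_add _ _ _

theorem l10_smul_zero (g : ↥H) : g • (0 : V4) = 0 := Matrix.mulVec_zero _

/-- the additive map of `g` -/
def l10Hom (g : ↥H) : V4 →+ V4 := AddMonoidHom.mk' (fun v => g • v) (l10_smul_add g)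

theorem l10Hom_apply (g : ↥H) (v : V4) : l10Hom g v = g • v := rfl

theorem l10_smul_ne_zero (g : ↥H) {v : V4} (hv : v ≠ 0) : g • v ≠ 0 := by
  intro h
  apply hv
  have h2 : g⁻¹ • (g • v) = g⁻¹ • (0 : V4) := by rw [h]
  rwa [inv_smul_smul, l10_smul_zero] at h2

theorem l10_faithful (g : ↥H) (h : ∀ w : V4, g • w = w) : g = 1 := by
  apply Subtype.ext
  apply Units.ext
  ext i j
  have h1 := congrFun (h (Pi.single j 1)) i
  rw [l10_smul_def, Matrix.mulVec_single_one] at h1
  simpa [Matrix.one_apply, Pi.single_apply, eq_comm] using h1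

/-- no proper subgroup of index at most 7 -/
theorem l10_index (hs : IsSimpleGroup ↥H) (hc : Nat.card ↥H = 1344) (S : Subgroup ↥H)
    (hS : S.index ≤ 7) : S = ⊤ := by
  have : Finite ↥H := Nat.finite_of_card_ne_zero (by rw [hc]; norm_num)
  by_contra hne
  have hker := Subgroup.normalCore_eq_ker S
  have hnorm : (S.normalCore).Normal := inferInstance
  rcases hs.eq_bot_or_eq_top_of_normal S.normalCore hnorm with h | h
  · have hinj : Function.Injective (MulAction.toPermHom ↥H (↥H ⧸ S)) := by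
      rw [← MonoidHom.ker_eq_bot_iff, ← hker, h]
    have hdvd := Subgroup.card_dvd_of_injective _ hinj
    rw [hc, Nat.card_perm] at hdvd
    have h8 : Nat.card (↥H ⧸ S) = S.index := rfl
    rw [h8] at hdvd
    have h7 : (S.index)! ∣ 7! := Nat.factorial_dvd_factorial hS
    have h9 := dvd_trans hdvd h7
    norm_num [Nat.factorial] at h9
  · apply hne
    exact top_le_iff.1 (h ▸ Subgroup.normalCore_le S)

/-- a point with a small orbit is fixed -/
theorem l10_fixed_of_small {X : Type*} [MulAction ↥H X] (hs : IsSimpleGroup ↥H)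
    (hc : Nat.card ↥H = 1344) (x : X) (hx : (MulAction.orbit ↥H x).ncard ≤ 7) (g : ↥H) :
    g • x = x := by
  have h1 := l10_index hs hc (MulAction.stabilizer ↥H x)
    (by rw [MulAction.index_stabilizer]; exact hx)
  have : g ∈ MulAction.stabilizer ↥H x := by rw [h1]; exact Subgroup.mem_top g
  exact MulAction.mem_stabilizer_iff.1 this

theorem l10_card_nz : ({w : V4 | w ≠ 0} : Set V4).ncard = 15 := by
  rw [Set.ncard_eq_toFinset_card']
  decide

/-- a nonzero fixed vector -/
theorem l10_exists_fixed (hs : IsSimpleGroup ↥H) (hc : Nat.card ↥H = 1344) :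
    ∃ v : V4, v ≠ 0 ∧ ∀ g : ↥H, g • v = v := by
  classical
  have : Finite ↥H := Nat.finite_of_card_ne_zero (by rw [hc]; norm_num)
  have horb : ∀ w : V4, w ≠ 0 → MulAction.orbit ↥H w ⊆ {w : V4 | w ≠ 0} := by
    rintro w hw _ ⟨g, rfl⟩
    exact l10_smul_ne_zero g hw
  set v0 : V4 := Pi.single 0 1 with hv0
  have hv0ne : v0 ≠ 0 := by
    intro h
    have := congrFun h 0
    simp [hv0] at this
  by_cases hfix : ∀ g : ↥H, g • v0 = v0
  · exact ⟨v0, hv0ne, hfix⟩
  obtain ⟨O, hO⟩ : ∃ O : Set V4, O = MulAction.orbit ↥H v0 := ⟨_, rfl⟩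
  have hO15 : O.ncard ≤ 15 := by
    rw [hO]
    rw [← l10_card_nz]
    exact Set.ncard_le_ncard (horb v0 hv0ne) (Set.toFinite _)
  have hO8 : 8 ≤ O.ncard := by
    by_contra hlt
    push Not at hlt
    exact hfix (fun g => l10_fixed_of_small hs hc v0 (by rw [← hO]; omega) g)
  have hOdvd : O.ncard ∣ 1344 := by
    rw [hO, ← MulAction.index_stabilizer, ← hc]
    exact Subgroup.index_dvd_card _
  have hO14 : O.ncard ≤ 14 := by
    rcases Nat.lt_or_ge O.ncard 15 with h | h
    · omega
    · have h15 : O.ncard = 15 := le_antisymm hO15 h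
      rw [h15] at hOdvd
      norm_num at hOdvd
  obtain ⟨w, hw0, hwO⟩ : ∃ w : V4, w ≠ 0 ∧ w ∉ O := by
    by_contra hcon
    push Not at hcon
    have hsub : ({w : V4 | w ≠ 0} : Set V4) ⊆ O := fun w hw => hcon w hw
    have := Set.ncard_le_ncard hsub (Set.toFinite _)
    rw [l10_card_nz] at this
    omega
  refine ⟨w, hw0, fun g => l10_fixed_of_small hs hc w ?_ g⟩
  have hdisj : Disjoint (MulAction.orbit ↥H w) O := by
    rw [Set.disjoint_left]
    intro x hx1 hx2
    apply hwO
    have e1 : MulAction.orbit ↥H x = MulAction.orbit ↥H w := MulAction.orbit_eq_iff.2 hx1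
    have e2 : MulAction.orbit ↥H x = O := by rw [hO]; exact MulAction.orbit_eq_iff.2 (hO ▸ hx2)
    rw [← e2, e1]
    exact MulAction.mem_orbit_self w
  have hun : (MulAction.orbit ↥H w ∪ O).ncard = (MulAction.orbit ↥H w).ncard + O.ncard :=
    Set.ncard_union_eq hdisj (Set.toFinite _) (Set.toFinite _)
  have hsub : MulAction.orbit ↥H w ∪ O ⊆ {w : V4 | w ≠ 0} :=
    Set.union_subset (horb w hw0) (hO ▸ horb v0 hv0ne)
  have := Set.ncard_le_ncard hsub (Set.toFinite _)
  rw [l10_card_nz, hun] at this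
  omega

theorem l10_add_self (v : V4) : v + v = 0 := by
  funext i
  exact CharTwo.add_self_eq_zero (v i)

theorem l10_card_zmultiples {v : V4} (hv : v ≠ 0) : Nat.card (AddSubgroup.zmultiples v) = 2 := by
  rw [Nat.card_zmultiples]
  haveI : Fact (Nat.Prime 2) := ⟨Nat.prime_two⟩
  exact addOrderOf_eq_prime (by rw [two_nsmul]; exact l10_add_self v) hv

theorem l10_card_quot {v : V4} (hv : v ≠ 0) : Nat.card (V4 ⧸ AddSubgroup.zmultiples v) = 8 := by
  have h := AddSubgroup.card_eq_card_quotient_mul_card_addSubgroup (AddSubgroup.zmultiples v)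
  rw [l10_card_zmultiples hv] at h
  have h16 : Nat.card V4 = 16 := by
    rw [Nat.card_eq_fintype_card]
    rfl
  omega

theorem l10_map_le {v : V4} (hv : ∀ g : ↥H, g • v = v) (g : ↥H) :
    AddSubgroup.zmultiples v ≤ (AddSubgroup.zmultiples v).comap (l10Hom g) := by
  intro a ha
  rw [AddSubgroup.mem_comap]
  obtain ⟨k, rfl⟩ := AddSubgroup.mem_zmultiples_iff.1 ha
  rw [map_zsmul, l10Hom_apply, hv g]
  exact AddSubgroup.zsmul_mem _ (AddSubgroup.mem_zmultiples v) k

/-- the action on the quotient by a fixed vector -/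
@[reducible] def l10QAct {v : V4} (hv : ∀ g : ↥H, g • v = v) :
    MulAction ↥H (V4 ⧸ AddSubgroup.zmultiples v) where
  smul g q := QuotientAddGroup.map _ _ (l10Hom g) (l10_map_le hv g) q
  one_smul q := by
    induction q using QuotientAddGroup.induction_on with
    | H x =>
      show QuotientAddGroup.map _ _ (l10Hom 1) (l10_map_le hv 1) (x : V4 ⧸ _) = x
      rw [QuotientAddGroup.map_mk, l10Hom_apply, one_smul]
  mul_smul g h q := by
    induction q using QuotientAddGroup.induction_on with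
    | H x =>
      show QuotientAddGroup.map _ _ (l10Hom (g * h)) (l10_map_le hv (g * h)) (x : V4 ⧸ _) =
        QuotientAddGroup.map _ _ (l10Hom g) (l10_map_le hv g)
          (QuotientAddGroup.map _ _ (l10Hom h) (l10_map_le hv h) (x : V4 ⧸ _))
      simp only [QuotientAddGroup.map_mk, l10Hom_apply, mul_smul]

theorem l10_sq (hs : IsSimpleGroup ↥H) (hc : Nat.card ↥H = 1344) {v : V4} (hv0 : v ≠ 0)
    (hv : ∀ g : ↥H, g • v = v) (g : ↥H) (w : V4) : g • (g • w) = w := by
  classical
  letI := l10QAct hv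
  have hsmul_mk : ∀ (a : ↥H) (x : V4),
      a • (QuotientAddGroup.mk x : V4 ⧸ AddSubgroup.zmultiples v) = QuotientAddGroup.mk (a • x) :=
    fun a x => rfl
  have hsmul_zero : ∀ a : ↥H, a • (0 : V4 ⧸ AddSubgroup.zmultiples v) = 0 := fun a =>
    map_zero (QuotientAddGroup.map _ _ (l10Hom a) (l10_map_le hv a))
  have hq : g • (QuotientAddGroup.mk w : V4 ⧸ AddSubgroup.zmultiples v) = QuotientAddGroup.mk w := by
    by_cases hw : (QuotientAddGroup.mk w : V4 ⧸ AddSubgroup.zmultiples v) = 0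
    · rw [hw]
      exact hsmul_zero g
    · apply l10_fixed_of_small hs hc
      have hsub : MulAction.orbit ↥H (QuotientAddGroup.mk w : V4 ⧸ AddSubgroup.zmultiples v) ⊆
          ({0} : Set (V4 ⧸ AddSubgroup.zmultiples v))ᶜ := by
        rintro _ ⟨a, rfl⟩
        intro h0
        apply hw
        have h1 : a • (QuotientAddGroup.mk w : V4 ⧸ AddSubgroup.zmultiples v) = 0 := h0
        have h2 : a⁻¹ • (a • (QuotientAddGroup.mk w : V4 ⧸ AddSubgroup.zmultiples v)) =
            a⁻¹ • (0 : V4 ⧸ AddSubgroup.zmultiples v) := by rw [h1]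
        rwa [inv_smul_smul, hsmul_zero] at h2
      have hfin : Finite (V4 ⧸ AddSubgroup.zmultiples v) :=
        Nat.finite_of_card_ne_zero (by rw [l10_card_quot hv0]; norm_num)
      have hle := Set.ncard_le_ncard hsub (Set.toFinite _)
      have hc8 := Set.ncard_add_ncard_compl ({0} : Set (V4 ⧸ AddSubgroup.zmultiples v))
      rw [Set.ncard_singleton, l10_card_quot hv0] at hc8
      omega
  rw [hsmul_mk, QuotientAddGroup.eq] at hq
  obtain ⟨k, hk⟩ := AddSubgroup.mem_zmultiples_iff.1 hq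
  have e1 : g • w = w - k • v := by
    rw [hk]
    abel
  have e2 : k • v + k • v = 0 := by
    rw [← zsmul_add, l10_add_self, zsmul_zero]
  have e3 : g • (w - k • v) = g • w - k • v := by
    have := map_sub (l10Hom g) w (k • v)
    rw [map_zsmul] at this
    simp only [l10Hom_apply] at this
    rw [this, hv g]
  rw [e1, e3, e1, sub_sub, e2, sub_zero]

/-- L10 -/
theorem no_simple_1344 (H : Subgroup (GL (Fin 4) (ZMod 2))) (hs : IsSimpleGroup ↥H) (hc : Nat.card ↥H = 1344) :
    False := by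
  have hfin : Finite ↥H := Nat.finite_of_card_ne_zero (by rw [hc]; norm_num)
  obtain ⟨v, hv0, hv⟩ := l10_exists_fixed hs hc
  have hsq : ∀ g : ↥H, g * g = 1 := fun g =>
    l10_faithful (g * g) (fun w => by rw [mul_smul]; exact l10_sq hs hc hv0 hv g w)
  haveI : Fact (Nat.Prime 3) := ⟨by norm_num⟩
  obtain ⟨g, hg⟩ := exists_prime_orderOf_dvd_card' 3 (by rw [hc]; norm_num : 3 ∣ Nat.card ↥H)
  have h2 : orderOf g ∣ 2 := orderOf_dvd_of_pow_eq_one (by rw [pow_two]; exact hsq g)
  rw [hg] at h2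
  norm_num at h2

end Cfsg.Agent.Lib.Helper58.G42
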