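import Mathlib
import Cfsg.Prelude.Def_Solvable
import Cfsg.Agent.S0034
import Cfsg.Agent.S0039

/-!
# K-GAG-G12b (keystone 483915, pack K-GAG / S4839): a complement acting fixed-point-freely on the
normal subgroup `N` is a Frobenius complement with Frobenius kernel `N`.
-/

set_option autoImplicit false

namespace Cfsg.Agent.Lib.Helper58.Gag

open Pointwise

variable {G : Type*} [Group G] [Finite G]

/-- G12b. -/
theorem frobenius_of_fpf (N : Subgroup G) [N.Normal] (hN1 : N ≠ ⊥)
    (H : Subgroup G) (hc : N.IsComplement' H) (hH1 : H ≠ ⊥)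
    (hcomm : ∀ a ∈ N, ∀ b ∈ N, a * b = b * a)
    (hfpf : ∀ h ∈ H, h ≠ 1 → ∀ n ∈ N, h * n = n * h → n = 1) :
    Cfsg.IsFrobeniusComplement H ∧ Cfsg.frobeniusKernel H = (N : Set G) := by
  classical
  have hFC : Cfsg.IsFrobeniusComplement H := by
    rw [Cfsg.Agent.S0039.result N H hc hN1 hH1]
    intro h hh h1
    rw [eq_bot_iff]
    intro n hn
    rw [Subgroup.mem_inf, Subgroup.mem_centralizer_iff] at hn
    rw [Subgroup.mem_bot]
    exact hfpf h hh h1 n hn.1 (hn.2 h (Set.mem_singleton h))
  refine ⟨hFC, ?_⟩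
  have hdisj : N ⊓ H = ⊥ := hc.disjoint.eq_bot
  -- `N ⊆ kernel`
  have hsub : (N : Set G) ⊆ Cfsg.frobeniusKernel H := by
    intro x hx
    by_cases hx1 : x = 1
    · exact Or.inl hx1
    · right
      intro g hg
      rw [Subgroup.mem_pointwise_smul_iff_inv_smul_mem] at hg
      have hxN : (MulAut.conj g)⁻¹ • x ∈ N := by
        rw [MulAut.smul_def, ← map_inv, MulAut.conj_apply]
        have := ‹N.Normal›.conj_mem x hx g⁻¹
        simpa using this
      have hmem : (MulAut.conj g)⁻¹ • x ∈ N ⊓ H := ⟨hxN, hg⟩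
      rw [hdisj, Subgroup.mem_bot] at hmem
      apply hx1
      have : x = (MulAut.conj g) • ((MulAut.conj g)⁻¹ • x) := by rw [smul_inv_smul]
      rw [this, hmem, smul_one]
  -- cardinalities
  have hcardK : Nat.card (Cfsg.frobeniusKernel H) = H.index := (Cfsg.Agent.S0034.result H hFC).1
  have hidx : H.index = Nat.card N := by
    have h1 := hc.card_mul
    have h2 := H.card_mul_index
    have hHpos : 0 < Nat.card H := Nat.card_pos
    have : Nat.card H * H.index = Nat.card H * Nat.card N := by rw [h2, ← h1, mul_comm]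
    exact Nat.eq_of_mul_eq_mul_left hHpos this
  have hfin : (Cfsg.frobeniusKernel H).Finite := Set.toFinite _
  symm
  apply Set.eq_of_subset_of_ncard_le hsub _ hfin
  rw [← Nat.card_coe_set_eq, ← Nat.card_coe_set_eq, hcardK, hidx]
  rfl

end Cfsg.Agent.Lib.Helper58.Gag
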