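import Mathlib
import Cfsg.Agent.S4207

set_option autoImplicit false

namespace Cfsg.Agent.Lib.Helper58.HSub

open Subgroup

/-- An automorphism of a group of prime order `p` whose order is prime to `p - 1` is trivial. -/
theorem mulAut_eq_one_of_card_prime {A : Type*} [Group A] [Finite A] {p : ℕ} [hp : Fact p.Prime]
    (hA : Nat.card A = p) (α : MulAut A) (hα : (orderOf α).Coprime (p - 1)) : α = 1 := by
  haveI : IsCyclic A := isCyclic_of_prime_card hA
  have h1 : Nat.card (MulAut A) = p - 1 := by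
    rw [IsCyclic.card_mulAut A, hA, Nat.totient_prime hp.out]
  have h2 : orderOf α ∣ p - 1 := h1 ▸ orderOf_dvd_natCard α
  have h3 : orderOf α = 1 := Nat.eq_one_of_dvd_coprimes hα dvd_rfl h2
  exact orderOf_eq_one_iff.mp h3

/-- An automorphism of a cyclic `p`-group whose order is prime to `p` and to `p - 1` is trivial. -/
theorem mulAut_eq_one_of_cyclic {A : Type*} [Group A] [Finite A] [IsCyclic A] {p : ℕ}
    [hp : Fact p.Prime] (hA : IsPGroup p A) (α : MulAut A) (hα : (orderOf α).Coprime p)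
    (hα' : (orderOf α).Coprime (p - 1)) : α = 1 := by
  obtain ⟨k, hk⟩ := hA.exists_card_eq
  have h2 : orderOf α ∣ Nat.card (MulAut A) := orderOf_dvd_natCard α
  rw [IsCyclic.card_mulAut A, hk] at h2
  have h3 : (orderOf α).Coprime (Nat.totient (p ^ k)) := by
    rcases Nat.eq_zero_or_pos k with h0 | h0
    · rw [h0, pow_zero, Nat.totient_one]; exact Nat.coprime_one_right _
    · rw [Nat.totient_prime_pow hp.out h0]
      exact (Nat.Coprime.pow_right _ hα).mul_right hα'
  have h4 : orderOf α = 1 := Nat.eq_one_of_dvd_coprimes h3 dvd_rfl h2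
  exact orderOf_eq_one_iff.mp h4

variable {G : Type*} [Group G]

/-- If `p` is the smallest prime dividing `|G|` then element orders are prime to `p - 1`. -/
theorem coprime_pred_of_min [Finite G] {p : ℕ} (hp : p.Prime)
    (hmin : ∀ q : ℕ, q.Prime → q ∣ Nat.card G → p ≤ q) (g : G) : (orderOf g).Coprime (p - 1) := by
  rw [Nat.coprime_iff_gcd_eq_one]
  by_contra hne
  obtain ⟨q, hq, hqd⟩ := Nat.exists_prime_and_dvd hne
  have h1 : q ∣ orderOf g := hqd.trans (Nat.gcd_dvd_left _ _)
  have h2 : q ∣ p - 1 := hqd.trans (Nat.gcd_dvd_right _ _)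
  have h3 : p ≤ q := hmin q hq (h1.trans (orderOf_dvd_natCard g))
  have h4 : q ≤ p - 1 := Nat.le_of_dvd (Nat.sub_pos_of_lt hp.one_lt) h2
  have := hp.one_lt
  omega

/-- A cyclic `p`-subgroup normalized by an element of order prime to `p (p - 1)` is centralized
by it. -/
theorem mem_centralizer_of_cyclic {p : ℕ} [hp : Fact p.Prime] {E : Subgroup G} [Finite E]
    (hEc : IsCyclic E) (hE : IsPGroup p E) {y : G} (hy : y ∈ normalizer (E : Set G))
    (hy1 : (orderOf y).Coprime p) (hy2 : (orderOf y).Coprime (p - 1)) :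
    y ∈ centralizer (E : Set G) := by
  set α := E.normalizerMonoidHom ⟨y, hy⟩ with hα
  have hord : orderOf α ∣ orderOf y := by
    have := orderOf_map_dvd E.normalizerMonoidHom (⟨y, hy⟩ : normalizer (E : Set G))
    rwa [Subgroup.orderOf_mk] at this
  have h1 : α = 1 := mulAut_eq_one_of_cyclic hE α (Nat.Coprime.coprime_dvd_left hord hy1)
    (Nat.Coprime.coprime_dvd_left hord hy2)
  have hker : (⟨y, hy⟩ : normalizer (E : Set G)) ∈ E.normalizerMonoidHom.ker := h1
  rw [Subgroup.normalizerMonoidHom_ker, Subgroup.mem_subgroupOf] at hker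
  exact hker





/-- `M ⊴ R` of index `p`, both normalized by `y` whose order is prime to `p - 1`:
then `y` acts trivially on `R / M`. -/
theorem comm_mem_of_index_prime {p : ℕ} [hp : Fact p.Prime] [Finite G] {R M : Subgroup G}
    (hMR : M ≤ R) (hRM : R ≤ normalizer (M : Set G)) (hidx : Nat.card R = p * Nat.card M)
    {y : G} (hyR : y ∈ normalizer (R : Set G)) (hyM : y ∈ normalizer (M : Set G))
    (hy : (orderOf y).Coprime (p - 1)) : ∀ r ∈ R, y * r * y⁻¹ * r⁻¹ ∈ M := by
  set Nn : Subgroup G := normalizer (R : Set G) ⊓ normalizer (M : Set G) with hNn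
  have hRN : R ≤ Nn := le_inf le_normalizer hRM
  have hMN : M ≤ Nn := hMR.trans hRN
  have hyN : y ∈ Nn := ⟨hyR, hyM⟩
  haveI hKn : (M.subgroupOf Nn).Normal := normal_subgroupOf_of_le_normalizer inf_le_right
  have hRn : (R.subgroupOf Nn).Normal := normal_subgroupOf_of_le_normalizer inf_le_left
  set K := M.subgroupOf Nn with hK
  set R' := R.subgroupOf Nn with hR'
  set f := QuotientGroup.mk' K with hf
  have hfs : Function.Surjective f := QuotientGroup.mk'_surjective K
  set H := R'.map f with hH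
  haveI : H.Normal := Subgroup.Normal.map hRn f hfs
  have hKR' : K ≤ R' := by
    intro x hx
    exact hMR hx
  have hcardH : Nat.card H = p := by
    have h1 : H.index = R'.index := Subgroup.index_map_eq R' hfs (by rw [QuotientGroup.ker_mk']; exact hKR')
    have h2 : Nat.card H * H.index = Nat.card (↥Nn ⧸ K) := Subgroup.card_mul_index H
    have h3 : Nat.card R' * R'.index = Nat.card ↥Nn := Subgroup.card_mul_index R'
    have h4 : Nat.card ↥Nn = Nat.card (↥Nn ⧸ K) * Nat.card K :=
      Subgroup.card_eq_card_quotient_mul_card_subgroup K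
    have h5 : Nat.card R' = Nat.card R := Nat.card_congr (subgroupOfEquivOfLe hRN).toEquiv
    have h6 : Nat.card K = Nat.card M := Nat.card_congr (subgroupOfEquivOfLe hMN).toEquiv
    have hpos : 0 < R'.index := Nat.pos_of_ne_zero (Subgroup.index_ne_zero_of_finite)
    have hMpos : 0 < Nat.card M := Nat.card_pos
    have h7 : Nat.card H * Nat.card M * R'.index = p * Nat.card M * R'.index := by
      calc Nat.card H * Nat.card M * R'.index = (Nat.card H * H.index) * Nat.card K := by
            rw [h1, h6]; ring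
        _ = Nat.card ↥Nn := by rw [h2, h4]
        _ = p * Nat.card M * R'.index := by rw [← h3, h5, hidx]
    have h8 := Nat.eq_of_mul_eq_mul_right hpos h7
    exact Nat.eq_of_mul_eq_mul_right hMpos h8
  set yq : ↥Nn ⧸ K := f ⟨y, hyN⟩ with hyq
  set α := MulAut.conjNormal (H := H) yq with hα
  have hord : orderOf α ∣ orderOf y := by
    have h1 : orderOf α ∣ orderOf yq := orderOf_map_dvd (MulAut.conjNormal (H := H)) yq
    have h2 : orderOf yq ∣ orderOf (⟨y, hyN⟩ : ↥Nn) := orderOf_map_dvd f _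
    rw [Subgroup.orderOf_mk] at h2
    exact h1.trans h2
  have hα1 : α = 1 := mulAut_eq_one_of_card_prime hcardH α (Nat.Coprime.coprime_dvd_left hord hy)
  intro r hr
  have hrH : f ⟨r, hRN hr⟩ ∈ H := ⟨⟨r, hRN hr⟩, hr, rfl⟩
  have h1 : α ⟨f ⟨r, hRN hr⟩, hrH⟩ = ⟨f ⟨r, hRN hr⟩, hrH⟩ := by rw [hα1]; rfl
  have h2 := congrArg Subtype.val h1
  rw [hα, MulAut.conjNormal_apply] at h2
  have h3 : f (⟨y, hyN⟩ * ⟨r, hRN hr⟩ * ⟨y, hyN⟩⁻¹ * ⟨r, hRN hr⟩⁻¹) = 1 := by
    rw [map_mul, map_mul, map_mul, map_inv, map_inv]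
    rw [h2]
    exact mul_inv_cancel _
  have h4 : (⟨y, hyN⟩ * ⟨r, hRN hr⟩ * ⟨y, hyN⟩⁻¹ * ⟨r, hRN hr⟩⁻¹ : ↥Nn) ∈ K :=
    (QuotientGroup.eq_one_iff _).mp h3
  exact h4




/-- Burnside: a `p'`-element normalizing the `p`-group `R` and acting trivially on `R/Φ(R)`
centralizes `R`. -/
theorem mem_centralizer_of_frattini [Finite G] {p : ℕ} [Fact p.Prime] {R : Subgroup G}
    (hR : IsPGroup p R) {y : G} (hy : y ∈ normalizer (R : Set G)) (hy1 : (orderOf y).Coprime p)
    (h : ∀ r ∈ R, y * r * y⁻¹ * r⁻¹ ∈ (frattini ↥R).map R.subtype) :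
    y ∈ centralizer (R : Set G) := by
  set α := R.normalizerMonoidHom ⟨y, hy⟩ with hα
  have hord : orderOf α ∣ orderOf y := by
    have := orderOf_map_dvd R.normalizerMonoidHom (⟨y, hy⟩ : normalizer (R : Set G))
    rwa [Subgroup.orderOf_mk] at this
  haveI hchar : (frattini ↥R).Characteristic := frattini_characteristic
  -- the subgroup of automorphisms trivial on the Frattini quotient
  let S : Subgroup (MulAut ↥R) :=
    { carrier := {β | ∀ x : ↥R, β x * x⁻¹ ∈ frattini ↥R}
      one_mem' := by intro x; simp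
      mul_mem' := by
        intro β γ hβ hγ x
        have : (β * γ) x * x⁻¹ = (β (γ x) * (γ x)⁻¹) * (γ x * x⁻¹) := by
          simp [MulAut.mul_apply]
        rw [this]
        exact mul_mem (hβ _) (hγ _)
      inv_mem' := by
        intro β hβ x
        have h1 := hβ (β⁻¹ x)
        have h2 : β (β⁻¹ x) = x := by simp
        rw [h2] at h1
        have h3 : β⁻¹ x * x⁻¹ = (x * (β⁻¹ x)⁻¹)⁻¹ := by group
        rw [h3]
        exact inv_mem h1 }
  have hαS : α ∈ S := by
    intro x
    obtain ⟨z, hz, hzx⟩ := h x x.2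
    have : α x * x⁻¹ = z := by
      apply Subtype.ext
      have hzx' : (z : G) = y * ↑x * y⁻¹ * (↑x)⁻¹ := hzx
      rw [hzx']
      simp [hα]
    rw [this]; exact hz
  have hAS : Subgroup.zpowers α ≤ S := by
    rw [Subgroup.zpowers_le]; exact hαS
  obtain ⟨n, hn⟩ := hR.exists_card_eq
  obtain ⟨r, hr⟩ := hR.index (frattini ↥R)
  have hdvd := Cfsg.Agent.S4207.result hn hr (Subgroup.zpowers α) (fun β hβ x => hAS hβ x)
  rw [Nat.card_zpowers] at hdvd
  have hcop : (orderOf α).Coprime (p ^ (r * (n - r))) :=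
    Nat.Coprime.pow_right _ (Nat.Coprime.coprime_dvd_left hord hy1)
  have h1 : orderOf α = 1 := Nat.eq_one_of_dvd_coprimes hcop dvd_rfl hdvd
  have h2 : α = 1 := orderOf_eq_one_iff.mp h1
  have hker : (⟨y, hy⟩ : normalizer (R : Set G)) ∈ R.normalizerMonoidHom.ker := h2
  rw [Subgroup.normalizerMonoidHom_ker, Subgroup.mem_subgroupOf] at hker
  exact hker

end Cfsg.Agent.Lib.Helper58.HSub
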