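import Mathlib
import Cfsg.Agent.Lib.Helper58.HSub1
import Cfsg.Agent.Lib.Helper40.OmegaLemma
import Cfsg.Agent.Lib.Helper03.PGroupFrattini
import Cfsg.Agent.Lib.Helper41.Alperin

set_option autoImplicit false

namespace Cfsg.Agent.Lib.Helper58.HSub

open Subgroup

variable {G : Type*} [Group G]

/-- In a finite group, `g E g⁻¹ ≤ E` forces `g ∈ N(E)`. -/
theorem mem_normalizer_of_conj_le' [Finite G] (R : Subgroup G) (g : G)
    (h : ∀ r ∈ R, g * r * g⁻¹ ∈ R) : g ∈ normalizer (R : Set G) := by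
  have hle : R.map (MulAut.conj g).toMonoidHom ≤ R := by
    rintro _ ⟨r, hr, rfl⟩
    exact h r hr
  have hcard : Nat.card (R.map (MulAut.conj g).toMonoidHom) = Nat.card R :=
    Subgroup.card_map_of_injective (MulAut.conj g).injective
  have heq : R.map (MulAut.conj g).toMonoidHom = R :=
    Subgroup.eq_of_le_of_card_ge hle hcard.ge
  rw [Subgroup.mem_normalizer_iff]
  intro x
  constructor
  · exact h x
  · intro hx
    have : g * x * g⁻¹ ∈ R.map (MulAut.conj g).toMonoidHom := by rw [heq]; exact hx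
    obtain ⟨r, hr, hrx⟩ := this
    have : r = x := by
      have h1 : g * r * g⁻¹ = g * x * g⁻¹ := hrx
      have h2 : g * r = g * x := mul_right_cancel h1
      exact mul_left_cancel h2
    rwa [← this]

/-- Subgroups of prescribed `p`-power order between `A` and `T`. -/
theorem exists_between [Finite G] {p : ℕ} [hp : Fact p.Prime] {A T : Subgroup G}
    (hT : IsPGroup p T) (hAT : A ≤ T) {m : ℕ} (hAd : Nat.card A ≤ p ^ m)
    (hdT : p ^ m ≤ Nat.card T) : ∃ E : Subgroup G, A ≤ E ∧ E ≤ T ∧ Nat.card E = p ^ m := by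
  obtain ⟨k, hk⟩ := hT.exists_card_eq
  obtain ⟨n, hn⟩ := (hT.to_le hAT).exists_card_eq
  have hmk : m ≤ k := by
    rw [hk] at hdT
    exact (Nat.pow_le_pow_iff_right hp.out.one_lt).mp hdT
  have hnm : n ≤ m := by
    rw [hn] at hAd
    exact (Nat.pow_le_pow_iff_right hp.out.one_lt).mp hAd
  have hdvd : p ^ m ∣ Nat.card ↥T := by rw [hk]; exact pow_dvd_pow p hmk
  have hH : Nat.card (A.subgroupOf T) = p ^ n := by
    rw [← hn]; exact Nat.card_congr (subgroupOfEquivOfLe hAT).toEquiv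
  obtain ⟨K, hK, hAK⟩ := Sylow.exists_subgroup_card_pow_prime_le p hdvd (A.subgroupOf T) hH hnm
  refine ⟨K.map T.subtype, ?_, ?_, ?_⟩
  · intro a ha
    exact ⟨⟨a, hAT ha⟩, hAK (by rw [Subgroup.mem_subgroupOf]; exact ha), rfl⟩
  · exact Subgroup.map_subtype_le K
  · rw [Subgroup.card_map_of_injective T.subtype_injective, hK]

/-- `E` is an `ℋ`-subgroup of `G`. -/
def IsH (E : Subgroup G) : Prop :=
  ∀ g : G, E.map (MulAut.conj g).toMonoidHom ⊓ normalizer (E : Set G) ≤ E

/-- `E` is strongly closed in `P` with respect to `G` (elementwise form). -/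
def SC (P E : Subgroup G) : Prop :=
  ∀ x ∈ E, ∀ g : G, g * x * g⁻¹ ∈ P → g * x * g⁻¹ ∈ E

/-- An `ℋ`-subgroup of a finite `p`-group `P` is normal in `P`. -/
theorem le_normalizer_of_isH [Finite G] {p : ℕ} [Fact p.Prime] {P E : Subgroup G}
    (hP : IsPGroup p P) (hEP : E ≤ P) (hE : IsH E) : P ≤ normalizer (E : Set G) := by
  by_contra hcon
  set N₁ := P ⊓ normalizer (E : Set G) with hN₁
  have hne : N₁ ≠ P := by
    intro h
    apply hcon
    rw [← h]; exact inf_le_right
  have hEN : E ≤ N₁ := le_inf hEP le_normalizer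
  -- normalizers grow
  have hgrow : ∃ t ∈ P, t ∈ normalizer (N₁ : Set G) ∧ t ∉ N₁ := by
    have hlt := Cfsg.Agent.Lib.Helper41.lt_inf_normalizer_of_ne hP (inf_le_left : N₁ ≤ P) hne
    obtain ⟨t, ht, htn⟩ := SetLike.exists_of_lt hlt
    exact ⟨t, ht.1, ht.2, htn⟩
  obtain ⟨t, htP, htN, htn⟩ := hgrow
  apply htn
  refine ⟨htP, ?_⟩
  apply mem_normalizer_of_conj_le'
  intro e he
  apply hE t
  refine ⟨⟨e, he, rfl⟩, ?_⟩
  have : t * e * t⁻¹ ∈ N₁ := (Subgroup.mem_normalizer_iff.mp htN e).mp (hEN he)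
  exact this.2

theorem sc_of_isH [Finite G] {p : ℕ} [Fact p.Prime] {P E : Subgroup G}
    (hP : IsPGroup p P) (hEP : E ≤ P) (hE : IsH E) : SC P E := by
  intro x hx g hg
  apply hE g
  exact ⟨⟨x, hx, rfl⟩, le_normalizer_of_isH hP hEP hE hg⟩

/-- A strongly closed subgroup inside `T ≤ P` is normalized by `N_G(T)`. -/
theorem mem_normalizer_of_sc [Finite G] {P E T : Subgroup G} (hsc : SC P E) (hET : E ≤ T)
    (hTP : T ≤ P) {y : G} (hy : y ∈ normalizer (T : Set G)) : y ∈ normalizer (E : Set G) := by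
  apply mem_normalizer_of_conj_le'
  intro e he
  apply hsc e he y
  exact hTP ((Subgroup.mem_normalizer_iff.mp hy e).mp (hET he))

end Cfsg.Agent.Lib.Helper58.HSub
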