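import Mathlib
import Cfsg.Agent.Lib.Helper58.HSub2

set_option autoImplicit false

namespace Cfsg.Agent.Lib.Helper58.HSub

open Subgroup

variable {G : Type*} [Group G]

/-- The working hypothesis: all subgroups of `P` of order `p ^ m` (and of order `4` when
`p ^ m = 2`) are strongly closed in `P`, and element orders are prime to `p - 1`. -/
structure Hyp (p : ℕ) (P : Subgroup G) (m : ℕ) : Prop where
  hm : 0 < m
  hsc : ∀ E : Subgroup G, E ≤ P → (Nat.card E = p ^ m ∨ (p ^ m = 2 ∧ Nat.card E = 4)) → SC P E
  hcop : ∀ g : G, (orderOf g).Coprime (p - 1)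

/-- a non-cyclic `p`-group `R` of order `p * p ^ m` all of whose maximal subgroups are
normalized by the `p'`-element `y` is centralized by `y`. -/
theorem centralizes_of_maximal [Finite G] {p : ℕ} [hp : Fact p.Prime] {R : Subgroup G}
    (hR : IsPGroup p R) (hnc : ¬ IsCyclic ↥R) {y : G} (hyp : (orderOf y).Coprime p)
    (hy2 : (orderOf y).Coprime (p - 1))
    (hmax : ∀ M' : Subgroup ↥R, IsCoatom M' → y ∈ normalizer ((M'.map R.subtype : Subgroup G) : Set G)) :
    y ∈ centralizer (R : Set G) := by
  have hR' : IsPGroup p ↥R := hR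
  -- y normalizes R
  have hyR : y ∈ normalizer (R : Set G) := by
    apply mem_normalizer_of_conj_le'
    intro r hr
    have hne : Subgroup.zpowers (⟨r, hr⟩ : ↥R) ≠ ⊤ := by
      intro htop
      apply hnc
      exact ⟨⟨⟨r, hr⟩, fun x => by
        have : x ∈ Subgroup.zpowers (⟨r, hr⟩ : ↥R) := by rw [htop]; exact Subgroup.mem_top _
        exact this⟩⟩
    obtain ⟨M', hM', hle⟩ := (IsCoatomic.eq_top_or_exists_le_coatom
      (Subgroup.zpowers (⟨r, hr⟩ : ↥R))).resolve_left hne
    have hrM : r ∈ M'.map R.subtype := ⟨⟨r, hr⟩, hle (Subgroup.mem_zpowers _), rfl⟩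
    have := (Subgroup.mem_normalizer_iff.mp (hmax M' hM') r).mp hrM
    exact Subgroup.map_subtype_le M' this
  apply mem_centralizer_of_frattini hR hyR hyp
  intro r hr
  have hc : y * r * y⁻¹ * r⁻¹ ∈ R :=
    R.mul_mem ((Subgroup.mem_normalizer_iff.mp hyR r).mp hr) (R.inv_mem hr)
  refine ⟨⟨_, hc⟩, ?_, rfl⟩
  show (⟨_, hc⟩ : ↥R) ∈ frattini ↥R
  unfold frattini Order.radical
  simp only [Subgroup.mem_iInf]
  intro M' hM'
  have hidx : M'.index = p := Cfsg.Agent.Lib.Helper03.index_of_isCoatom_of_isPGroup hR' hM'
  have hnorm : M'.Normal := Cfsg.Agent.Lib.Helper03.normal_of_isCoatom_of_isPGroup hR' hM'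
  set M := M'.map R.subtype with hM
  have hMR : M ≤ R := Subgroup.map_subtype_le M'
  have hRM : R ≤ normalizer (M : Set G) := by
    intro s hs
    apply mem_normalizer_of_conj_le'
    rintro _ ⟨m', hm', rfl⟩
    exact ⟨⟨s, hs⟩ * m' * ⟨s, hs⟩⁻¹, hnorm.conj_mem m' hm' ⟨s, hs⟩, by simp⟩
  have hcard : Nat.card R = p * Nat.card M := by
    rw [hM, Subgroup.card_map_of_injective R.subtype_injective, ← hidx, mul_comm]
    exact (Subgroup.card_mul_index M').symm
  have := comm_mem_of_index_prime hMR hRM hcard hyR (hmax M' hM') hy2 r hr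
  obtain ⟨m', hm', hmeq⟩ := this
  have : m' = ⟨_, hc⟩ := Subtype.ext hmeq
  rw [← this]; exact hm'

theorem Hyp.centralizes [Finite G] {p : ℕ} [hp : Fact p.Prime] {P : Subgroup G}
    (hP : IsPGroup p P) {m : ℕ} (h : Hyp p P m) {T : Subgroup G} (hTP : T ≤ P)
    (hT : p ^ m < Nat.card T) {y : G} (hy : y ∈ normalizer (T : Set G))
    (hyp : (orderOf y).Coprime p) : y ∈ centralizer (T : Set G) := by
  have hTp : IsPGroup p T := hP.to_le hTP
  have hy2 := h.hcop y
  have key : ∀ a ∈ T, (a ^ p = 1 ∨ (p = 2 ∧ a ^ 4 = 1)) → y * a = a * y := by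
    intro a ha hap
    -- it suffices to find a `y`-invariant subgroup containing `a` that is centralized by `y`
    suffices hsuff : ∃ E : Subgroup G, a ∈ E ∧ y ∈ centralizer (E : Set G) by
      obtain ⟨E, haE, hyE⟩ := hsuff
      exact (Subgroup.mem_centralizer_iff.mp hyE a haE).symm
    set A := Subgroup.zpowers a with hA
    have hAT : A ≤ T := by rw [hA, Subgroup.zpowers_le]; exact ha
    have hAcyc : IsCyclic ↥A := by rw [hA]; infer_instance
    have hAcard : Nat.card A = orderOf a := Nat.card_zpowers a
    by_cases hle : Nat.card A ≤ p ^ m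
    · obtain ⟨E, hAE, hET, hEcard⟩ := exists_between hTp hAT hle hT.le
      have hEsc : SC P E := h.hsc E (hET.trans hTP) (Or.inl hEcard)
      have hyE : y ∈ normalizer (E : Set G) := mem_normalizer_of_sc hEsc hET hTP hy
      have haE : a ∈ E := hAE (Subgroup.mem_zpowers a)
      by_cases hEc : IsCyclic ↥E
      · exact ⟨E, haE, mem_centralizer_of_cyclic hEc (hTp.to_le hET) hyE hyp hy2⟩
      · -- a subgroup R of order p * p^m
        have hpm1 : p ^ (m + 1) ≤ Nat.card T := by
          obtain ⟨k, hk⟩ := hTp.exists_card_eq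
          rw [hk] at hT ⊢
          have : m < k := (Nat.pow_lt_pow_iff_right hp.out.one_lt).mp hT
          exact Nat.pow_le_pow_right hp.out.pos this
        have hEle : Nat.card E ≤ p ^ (m + 1) := by
          rw [hEcard]; exact Nat.pow_le_pow_right hp.out.pos (Nat.le_succ m)
        obtain ⟨R, hER, hRT, hRcard⟩ := exists_between hTp hET hEle hpm1
        have hRp : IsPGroup p R := hTp.to_le hRT
        have hRnc : ¬ IsCyclic ↥R := by
          intro hc
          apply hEc
          haveI := hc
          have : IsCyclic ↥(E.subgroupOf R) := inferInstance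
          exact isCyclic_of_surjective (subgroupOfEquivOfLe hER).toMonoidHom
            (subgroupOfEquivOfLe hER).surjective
        refine ⟨R, hER haE, centralizes_of_maximal hRp hRnc hyp hy2 ?_⟩
        intro M' hM'
        have hidx : M'.index = p :=
          Cfsg.Agent.Lib.Helper03.index_of_isCoatom_of_isPGroup (show IsPGroup p ↥R from hRp) hM'
        have hMcard : Nat.card (M'.map R.subtype) = p ^ m := by
          rw [Subgroup.card_map_of_injective R.subtype_injective]
          have h1 : Nat.card M' * M'.index = Nat.card ↥R := Subgroup.card_mul_index M'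
          rw [hidx, hRcard, pow_succ] at h1
          exact Nat.eq_of_mul_eq_mul_right hp.out.pos h1
        have hMR : M'.map R.subtype ≤ R := Subgroup.map_subtype_le M'
        have hMsc : SC P (M'.map R.subtype) :=
          h.hsc _ (hMR.trans (hRT.trans hTP)) (Or.inl hMcard)
        exact mem_normalizer_of_sc hMsc (hMR.trans hRT) hTP hy
    · -- then `p = 2`, `a` has order 4 and `p ^ m = 2`
      push Not at hle
      have hpm : p ≤ p ^ m := by
        calc p = p ^ 1 := (pow_one p).symm
          _ ≤ p ^ m := Nat.pow_le_pow_right hp.out.pos h.hm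
      rcases hap with hap | ⟨hp2, hap⟩
      · exfalso
        have : orderOf a ∣ p := orderOf_dvd_of_pow_eq_one hap
        have := Nat.le_of_dvd hp.out.pos this
        omega
      · have h4 : orderOf a ∣ 4 := orderOf_dvd_of_pow_eq_one hap
        have h4' : orderOf a ≤ 4 := Nat.le_of_dvd (by norm_num) h4
        subst hp2
        have hm1 : m = 1 := by
          by_contra hne
          have : 2 ≤ m := by have := h.hm; omega
          have : 2 ^ 2 ≤ 2 ^ m := Nat.pow_le_pow_right (by norm_num) this
          omega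
        subst hm1
        have hA4 : Nat.card A = 4 := by
          rw [hAcard] at hle ⊢
          have h3 : orderOf a ≠ 3 := by
            intro h3; rw [h3] at h4; omega
          simp at hle
          omega
        have hAsc : SC P A := h.hsc A (hAT.trans hTP) (Or.inr ⟨by norm_num, hA4⟩)
        have hyA : y ∈ normalizer (A : Set G) := mem_normalizer_of_sc hAsc hAT hTP hy
        exact ⟨A, Subgroup.mem_zpowers a, mem_centralizer_of_cyclic hAcyc (hTp.to_le hAT) hyA hyp hy2⟩
  have := Cfsg.Agent.Lib.Helper40.omega_lemma y hyp (Nat.card T) T rfl hTp hy key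
  rw [Subgroup.mem_centralizer_iff]
  intro t ht
  exact (this t ht).symm

end Cfsg.Agent.Lib.Helper58.HSub
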