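import Mathlib
import Cfsg.Agent.Lib.Helper58.HSub3
import Cfsg.Agent.Lib.Helper58.ProductFormula
import Cfsg.Agent.Lib.Helper41.AG

set_option autoImplicit false

namespace Cfsg.Agent.Lib.Helper58.HSub

open Subgroup Cfsg.Agent.Lib.Helper41

variable {G : Type*} [Group G]

/-- index `p` from non-containment in a normal subgroup of index `p`. -/
theorem card_eq_mul_card_inf [Finite G] {p : ℕ} [hp : Fact p.Prime] {P M T : Subgroup G}
    (hMP : M ≤ P) (hMn : P ≤ normalizer (M : Set G)) (hcard : Nat.card P = p * Nat.card M)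
    (hTP : T ≤ P) (hTM : ¬ T ≤ M) : Nat.card T = p * Nat.card ↥(T ⊓ M) := by
  have hprod := Cfsg.Agent.Lib.Helper58.card_sup_mul_card_inf T M (hTP.trans hMn)
  have hle : T ⊔ M ≤ P := sup_le hTP hMP
  have h1 : Nat.card M ∣ Nat.card ↥(T ⊔ M) := Subgroup.card_dvd_of_le le_sup_right
  have h2 : Nat.card ↥(T ⊔ M) ∣ Nat.card P := Subgroup.card_dvd_of_le hle
  obtain ⟨k, hk⟩ := h1
  have hMpos : 0 < Nat.card M := Nat.card_pos
  have hkp : k ∣ p := by
    rw [hk, hcard, mul_comm p] at h2
    exact Nat.dvd_of_mul_dvd_mul_left hMpos h2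
  rcases (Nat.dvd_prime hp.out).mp hkp with h | h
  · exfalso
    apply hTM
    have : T ⊔ M = M := by
      symm
      apply Subgroup.eq_of_le_of_card_ge le_sup_right
      rw [hk, h, mul_one]
    rw [← this]; exact le_sup_left
  · rw [hk, h] at hprod
    have : Nat.card M * (p * Nat.card ↥(T ⊓ M)) = Nat.card M * Nat.card T := by
      rw [mul_comm (Nat.card ↥M) (Nat.card ↥T), ← hprod]; ring
    exact (Nat.eq_of_mul_eq_mul_left hMpos this).symm

variable [Finite G] {p : ℕ} [hp : Fact p.Prime]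

/-- One step of a chain changes an element only by an element of `M`. -/
theorem Hyp.step {P : Sylow p G} {m : ℕ} (h : Hyp p (P : Subgroup G) m)
    (hmP : p ^ m < Nat.card (P : Subgroup G)) {T : Subgroup G} (hT : T ∈ agFamily p P) {x : G}
    (hx : x ∈ normalizer (T : Set G)) {a : G} (ha : a ∈ T) {M : Subgroup G}
    (hMP : M ≤ (P : Subgroup G)) (hMn : (P : Subgroup G) ≤ normalizer (M : Set G))
    (hMcard : Nat.card (P : Subgroup G) = p * Nat.card M) : a⁻¹ * (x⁻¹ * a * x) ∈ M := by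
  obtain ⟨hTP, hidx, -, -⟩ := hT
  have hPp : IsPGroup p (P : Subgroup G) := P.2
  have haP : a ∈ (P : Subgroup G) := hTP ha
  by_cases hbig : p ^ m < Nat.card T
  · have hcent : ∀ g ∈ normalizer (T : Set G), (orderOf g).Coprime p →
        g ∈ centralizer (T : Set G) := fun g hg hgp => h.centralizes hPp hTP hbig hg hgp
    obtain ⟨s, hs, hsx⟩ := exists_mem_conj_eq_of_centralize hidx hcent hx
    rw [← hsx a ha]
    have hsP : s ∈ (P : Subgroup G) := hs.1
    have hainv : a⁻¹ ∈ normalizer ((P : Subgroup G) : Set G) := le_normalizer (inv_mem haP)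
    have := comm_mem_of_index_prime hMP hMn hMcard hainv (hMn (inv_mem haP)) (h.hcop a⁻¹)
      s⁻¹ (inv_mem hsP)
    simpa [mul_assoc] using this
  · push Not at hbig
    by_cases hTM : T ≤ M
    · have h1 : x⁻¹ * a * x ∈ T := by
        have := (Subgroup.mem_normalizer_iff.mp (inv_mem hx) a).mp ha
        simpa using this
      exact M.mul_mem (M.inv_mem (hTM ha)) (hTM h1)
    · have hcardT := card_eq_mul_card_inf hMP hMn hMcard hTP hTM
      -- a strongly closed subgroup of order p^m between T ⊓ M and M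
      have hMge : p ^ m ≤ Nat.card M := by
        obtain ⟨k, hk⟩ := hPp.exists_card_eq
        rw [hk] at hmP hMcard
        have hmk : m < k := (Nat.pow_lt_pow_iff_right hp.out.one_lt).mp hmP
        obtain ⟨k', rfl⟩ : ∃ k', k = k' + 1 := ⟨k - 1, by omega⟩
        rw [pow_succ, mul_comm] at hMcard
        have : Nat.card M = p ^ k' := (Nat.eq_of_mul_eq_mul_left hp.out.pos hMcard).symm
        rw [this]
        exact Nat.pow_le_pow_right hp.out.pos (by omega)
      have hinfle : Nat.card ↥(T ⊓ M) ≤ p ^ m :=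
        (Subgroup.card_le_of_le inf_le_left).trans hbig
      obtain ⟨E, hE1, hE2, hE3⟩ := exists_between (hPp.to_le hMP) (inf_le_right : T ⊓ M ≤ M)
        hinfle hMge
      have hEsc : SC (P : Subgroup G) E := h.hsc E (hE2.trans hMP) (Or.inl hE3)
      have hxinf : ∀ z ∈ normalizer (T : Set G), z ∈ normalizer ((T ⊓ M : Subgroup G) : Set G) := by
        intro z hz
        apply mem_normalizer_of_conj_le'
        intro b hb
        have hbT : z * b * z⁻¹ ∈ T := (Subgroup.mem_normalizer_iff.mp hz b).mp hb.1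
        exact ⟨hbT, hE2 (hEsc b (hE1 hb) z (hTP hbT))⟩
      have hTn : T ≤ normalizer ((T ⊓ M : Subgroup G) : Set G) := fun t ht => hxinf t (le_normalizer ht)
      have := comm_mem_of_index_prime (inf_le_left : T ⊓ M ≤ T) hTn hcardT (inv_mem hx)
        (hxinf _ (inv_mem hx)) (h.hcop x⁻¹) a ha
      -- x⁻¹ a x a⁻¹ ∈ M, conjugate by a⁻¹
      have h2 : x⁻¹ * a * x⁻¹⁻¹ * a⁻¹ ∈ M := this.2
      have h3 := (Subgroup.mem_normalizer_iff.mp (hMn (inv_mem haP)) _).mp h2
      simpa [mul_assoc] using h3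

theorem Hyp.chain {P : Sylow p G} {m : ℕ} (h : Hyp p (P : Subgroup G) m)
    (hmP : p ^ m < Nat.card (P : Subgroup G)) {M : Subgroup G}
    (hMP : M ≤ (P : Subgroup G)) (hMn : (P : Subgroup G) ≤ normalizer (M : Set G))
    (hMcard : Nat.card (P : Subgroup G) = p * Nat.card M) :
    ∀ (L : List (Subgroup G × G)) (A : Set G), Chain (agFamily p P) A L →
      ∀ a ∈ A, a⁻¹ * (((L.map Prod.snd).prod)⁻¹ * a * (L.map Prod.snd).prod) ∈ M := by
  intro L
  induction L with
  | nil =>
    intro A _ a _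
    simp
  | cons hd L ih =>
    obtain ⟨T, x⟩ := hd
    rintro A ⟨hT, hx, hAT, hrest⟩ a ha
    have h1 := h.step hmP hT hx (hAT ha) hMP hMn hMcard
    have hmem : x⁻¹ * a * x ∈ rconj x A := ⟨a, ha, rfl⟩
    have h2 := ih (rconj x A) hrest (x⁻¹ * a * x) hmem
    have := M.mul_mem h1 h2
    simp only [List.map_cons, List.prod_cons]
    convert this using 1
    group

theorem Hyp.fusion {P : Sylow p G} {m : ℕ} (h : Hyp p (P : Subgroup G) m)
    (hmP : p ^ m < Nat.card (P : Subgroup G)) {M : Subgroup G}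
    (hMP : M ≤ (P : Subgroup G)) (hMn : (P : Subgroup G) ≤ normalizer (M : Set G))
    (hMcard : Nat.card (P : Subgroup G) = p * Nat.card M) {a g : G} (ha : a ∈ (P : Subgroup G))
    (hag : g⁻¹ * a * g ∈ (P : Subgroup G)) : a⁻¹ * (g⁻¹ * a * g) ∈ M := by
  have hA : ({a} : Set G) ⊆ (P : Subgroup G) := by
    intro z hz; rw [Set.mem_singleton_iff] at hz; rw [hz]; exact ha
  have hgA : rconj g ({a} : Set G) ⊆ (P : Subgroup G) := by
    rintro _ ⟨z, hz, rfl⟩
    rw [Set.mem_singleton_iff] at hz; rw [hz]; exact hag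
  obtain ⟨g', ⟨L, hL, hprod⟩, hg'⟩ := ag_reach P hA hgA
  have := h.chain hmP hMP hMn hMcard L {a} hL a rfl
  rw [hprod, hg' a rfl] at this
  exact this

end Cfsg.Agent.Lib.Helper58.HSub
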