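import Mathlib
import Cfsg.Prelude.Def_Blocks
import Cfsg.Agent.Lib.Helper70.IPDefs
import Cfsg.Agent.Lib.Helper83.CharMisc
import Cfsg.Agent.Lib.Helper83.Quotient
import Cfsg.Agent.Lib.Helper05.CharOrtho

/-!
# K-IPA-RAM (keystone 446323, pack K-IP / S4463 case A): a fully ramified character of a
nonabelian `p`-group whose nontrivial normal subgroups all contain the commutator subgroup.
-/

set_option autoImplicit false

namespace Cfsg.Agent.Lib.Helper58.IPA

open Cfsg Cfsg.Agent.Lib.Helper70.IP
open Cfsg.Agent.Lib.Helper83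
open scoped ComplexConjugate commutatorElement

universe u

/-- sum of squared norms of an irreducible character -/
theorem ipa_sum_norm_sq_irr {G : Type u} [Group G] [Fintype G] {φ : G → ℂ}
    (hφ : IsIrrCharacter G φ) : ∑ g : G, ‖φ g‖ ^ 2 = (Nat.card G : ℝ) := by
  have h1 := Cfsg.Agent.Lib.Helper05.classInner_irr_self hφ
  unfold classInner at h1
  have hG : (Nat.card G : ℂ) ≠ 0 := by exact_mod_cast Nat.card_pos.ne'
  have h2 : ∑ g : G, φ g * conj (φ g) = (Nat.card G : ℂ) := by
    field_simp at h1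
    exact h1
  have h3 : ∀ g : G, φ g * conj (φ g) = ((‖φ g‖ ^ 2 : ℝ) : ℂ) := by
    intro g
    rw [Complex.mul_conj, Complex.normSq_eq_norm_sq]
  rw [Finset.sum_congr rfl (fun g _ => h3 g), ← Complex.ofReal_sum] at h2
  exact_mod_cast h2

/-- 446323 IPA-RAM. -/
theorem exists_ramified {X : Type u} [Group X] [Finite X] {p : ℕ} [Fact p.Prime] (hp : IsPGroup p X)
    (hnab : ∃ a c : X, a * c ≠ c * a) (hmono : MonoQ X) :
    ∃ θ : X → ℂ, IsIrrCharacter X θ ∧ 1 < charDegree θ ∧
      (∀ g : X, g ∉ Subgroup.center X → θ g = 0) ∧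
      (∀ z : X, z ∈ Subgroup.center X → ‖θ z‖ = (charDegree θ : ℝ)) ∧
      (charDegree θ) ^ 2 = (Subgroup.center X).index := by
  classical
  haveI := Fintype.ofFinite X
  obtain ⟨a, c, hac⟩ := hnab
  haveI : Nontrivial X := ⟨⟨a, c, fun h => hac (by rw [h])⟩⟩
  -- the centre is nontrivial, hence contains the commutator subgroup
  have hZ : Subgroup.center X ≠ ⊥ := by
    haveI := hp.center_nontrivial
    exact (Subgroup.nontrivial_iff_ne_bot _).mp inferInstance
  have hXZ : commutator X ≤ Subgroup.center X := hmono _ inferInstance hZ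
  obtain ⟨χ, hχ1⟩ := exists_nonlinear_of_not_comm (G := X) (fun h => hac (h a c))
  have hχc := IrrCharacter_isCharacter χ
  -- `χ` is faithful
  have hker : charKer hχc = ⊥ := by
    by_contra hne
    have hle := hmono _ inferInstance hne
    exact hχ1 (irr_linear_of_commutator_le χ (fun x hx => (mem_charKer hχc x).mp (hle hx)))
  have hdpos := irr_charDegree_pos χ
  have hdcast := charDegree_cast hχc
  have hd1 : 1 < charDegree (χ : X → ℂ) := by
    rcases Nat.lt_or_ge 1 (charDegree (χ : X → ℂ)) with h | h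
    · exact h
    · exfalso
      have h1 : charDegree (χ : X → ℂ) = 1 := le_antisymm h hdpos
      apply hχ1
      rw [← hdcast, h1]; simp
  have hvan : ∀ g : X, g ∉ Subgroup.center X → (χ : X → ℂ) g = 0 := by
    intro g hg
    rw [Subgroup.mem_center_iff] at hg
    push_neg at hg
    obtain ⟨x, hx⟩ := hg
    set z := g⁻¹ * x⁻¹ * g * x with hzdef
    have hzc : z ∈ commutator X := by
      rw [commutator_def]
      have : z = ⁅g⁻¹, x⁻¹⁆ := by rw [commutatorElement_def, hzdef]; group
      rw [this]
      exact Subgroup.commutator_mem_commutator (Subgroup.mem_top _) (Subgroup.mem_top _)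
    have hz1 : z ≠ 1 := by
      intro h
      apply hx
      have : x * g = x * g * z := by rw [h, mul_one]
      rw [this, hzdef]; group
    have hconj : x⁻¹ * g * x = g * z := by rw [hzdef]; group
    refine irr_eq_zero_of_conj_eq_mul_central χ (hXZ hzc) hconj ?_
    intro h
    apply hz1
    have hzk : z ∈ charKer hχc := h
    rw [hker] at hzk
    exact Subgroup.mem_bot.mp hzk
  have hnorm : ∀ z : X, z ∈ Subgroup.center X →
      ‖(χ : X → ℂ) z‖ = (charDegree (χ : X → ℂ) : ℝ) := by
    intro z hz
    have h := irr_central_normSq χ hz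
    rw [Complex.normSq_eq_norm_sq] at h
    exact (sq_eq_sq₀ (norm_nonneg _) (Nat.cast_nonneg _)).mp h
  refine ⟨χ, χ.2, hd1, hvan, hnorm, ?_⟩
  -- counting: `|X| = ∑ ‖χ g‖² = |Z| d²`
  have hsum := ipa_sum_norm_sq_irr χ.2
  have hsplit : ∑ g : X, ‖(χ : X → ℂ) g‖ ^ 2 =
      ∑ g : X, if g ∈ Subgroup.center X then ((charDegree (χ : X → ℂ) : ℝ)) ^ 2 else 0 := by
    apply Finset.sum_congr rfl
    intro g _
    by_cases hg : g ∈ Subgroup.center X
    · rw [if_pos hg, hnorm g hg]
    · rw [if_neg hg, hvan g hg]; simp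
  rw [hsplit, Finset.sum_ite, Finset.sum_const, Finset.sum_const_zero, add_zero, nsmul_eq_mul] at hsum
  have hcardZ : (Finset.univ.filter (fun g : X => g ∈ Subgroup.center X)).card =
      Nat.card (Subgroup.center X) := by
    rw [Nat.card_eq_fintype_card, Fintype.card_subtype]
  rw [hcardZ] at hsum
  have hnat : Nat.card (Subgroup.center X) * (charDegree (χ : X → ℂ)) ^ 2 = Nat.card X := by
    exact_mod_cast hsum
  have hidx := Subgroup.card_mul_index (Subgroup.center X)
  have hZpos : 0 < Nat.card (Subgroup.center X) := Nat.card_pos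
  have : Nat.card (Subgroup.center X) * (charDegree (χ : X → ℂ)) ^ 2 =
      Nat.card (Subgroup.center X) * (Subgroup.center X).index := by
    rw [hnat, hidx]
  exact Nat.eq_of_mul_eq_mul_left hZpos this

end Cfsg.Agent.Lib.Helper58.IPA
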