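import Mathlib
import Cfsg.Prelude.Def_IsolatedElements
import Cfsg.Prelude.Def_CaseTheorems
import Cfsg.Prelude.Def_Transfer
import Cfsg.Agent.Lib.Helper57.Isolated
import Cfsg.Agent.Lib.Helper40.OmegaLemma
import Cfsg.Agent.Lib.Helper41.Frobenius

set_option autoImplicit false

/-! Isolated elements of order `p` in groups of `p`-rank at most two: generic tools. -/

namespace Cfsg.Agent.Lib.Helper58.Iso

open Cfsg

variable {G : Type*} [Group G]

/-- conjugates of isolated elements are isolated -/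
theorem isIsolated_conj {x : G} (h : IsIsolated x) (g : G) : IsIsolated (g * x * g⁻¹) := by
  intro k hk
  have h1 : Commute x ((g⁻¹ * k * g) * x * (g⁻¹ * k * g)⁻¹) := by
    have h2 : (g⁻¹ * k * g) * x * (g⁻¹ * k * g)⁻¹ = g⁻¹ * (k * (g * x * g⁻¹) * k⁻¹) * g := by group
    have h3 : x = g⁻¹ * (g * x * g⁻¹) * g := by group
    rw [h2]
    nth_rewrite 1 [h3]
    unfold Commute SemiconjBy
    have := hk.eq
    calc g⁻¹ * (g * x * g⁻¹) * g * (g⁻¹ * (k * (g * x * g⁻¹) * k⁻¹) * g)
        = g⁻¹ * ((g * x * g⁻¹) * (k * (g * x * g⁻¹) * k⁻¹)) * g := by group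
      _ = g⁻¹ * ((k * (g * x * g⁻¹) * k⁻¹) * (g * x * g⁻¹)) * g := by rw [this]
      _ = _ := by group
  have h4 := h _ h1
  calc k * (g * x * g⁻¹) * k⁻¹ = g * ((g⁻¹ * k * g) * x * (g⁻¹ * k * g)⁻¹) * g⁻¹ := by group
    _ = g * x * g⁻¹ := by rw [h4]

/-- a subgroup generated by pairwise commuting elements of exponent `p` is elementary abelian -/
theorem closure_isElementaryAbelian {p : ℕ} (X : Set G) (hcomm : ∀ u ∈ X, ∀ v ∈ X, u * v = v * u)
    (hexp : ∀ u ∈ X, u ^ p = 1) : IsElementaryAbelian p (Subgroup.closure X) := by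
  have h1 : ∀ u ∈ X, Subgroup.closure X ≤ Subgroup.centralizer ({u} : Set G) := by
    intro u hu
    rw [Subgroup.closure_le]
    intro v hv
    rw [SetLike.mem_coe, Subgroup.mem_centralizer_iff]
    intro m hm
    rw [Set.mem_singleton_iff] at hm
    subst hm
    exact hcomm m hu v hv
  have h2 : ∀ w ∈ Subgroup.closure X, Subgroup.closure X ≤ Subgroup.centralizer ({w} : Set G) := by
    intro w hw
    rw [Subgroup.closure_le]
    intro v hv
    rw [SetLike.mem_coe, Subgroup.mem_centralizer_iff]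
    intro m hm
    rw [Set.mem_singleton_iff] at hm
    subst hm
    have := h1 v hv hw
    rw [Subgroup.mem_centralizer_iff] at this
    exact (this v rfl).symm
  have h3 : ∀ w ∈ Subgroup.closure X, ∀ w' ∈ Subgroup.closure X, w * w' = w' * w := by
    intro w hw w' hw'
    have := h2 w hw hw'
    rw [Subgroup.mem_centralizer_iff] at this
    exact this w rfl
  refine ⟨⟨⟨fun a b => Subtype.ext (h3 a a.2 b b.2)⟩⟩, ?_⟩
  intro a ha
  induction ha using Subgroup.closure_induction with
  | mem u hu => exact hexp u hu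
  | one => exact one_pow p
  | mul u v hu hv ihu ihv =>
    have hc : Commute u v := h3 u hu v hv
    rw [hc.mul_pow, ihu, ihv, one_mul]
  | inv u hu ihu => rw [inv_pow, ihu, inv_one]

/-- in a group of `p`-rank at most two, an element of exponent `p` commuting with two independent
elements of order `p` is a product of powers of these -/
theorem exists_pow_mul_pow [Finite G] {p : ℕ} [Fact p.Prime] (hrank : PRankLE p 2 G) {a b c : G}
    (ha : orderOf a = p) (hb : orderOf b = p) (hc : c ^ p = 1)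
    (hab : Commute a b) (hac : Commute a c) (hbc : Commute b c)
    (hdisj : Subgroup.zpowers a ⊓ Subgroup.zpowers b = ⊥) :
    ∃ i j : ℕ, c = a ^ i * b ^ j := by
  classical
  set X : Set G := {a, b, c} with hX
  have hcomm : ∀ u ∈ X, ∀ v ∈ X, u * v = v * u := by
    intro u hu v hv
    simp only [hX, Set.mem_insert_iff, Set.mem_singleton_iff] at hu hv
    rcases hu with rfl | rfl | rfl <;> rcases hv with rfl | rfl | rfl
    · rfl
    · exact hab.eq
    · exact hac.eq
    · exact hab.eq.symm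
    · rfl
    · exact hbc.eq
    · exact hac.eq.symm
    · exact hbc.eq.symm
    · rfl
  have hexp : ∀ u ∈ X, u ^ p = 1 := by
    intro u hu
    simp only [hX, Set.mem_insert_iff, Set.mem_singleton_iff] at hu
    rcases hu with rfl | rfl | rfl
    · rw [← ha]; exact pow_orderOf_eq_one _
    · rw [← hb]; exact pow_orderOf_eq_one _
    · exact hc
  have hE := closure_isElementaryAbelian (p := p) X hcomm hexp
  set A := Subgroup.closure X with hA
  have hcard : Nat.card A ≤ p ^ 2 := hrank A hE.1 hE.2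
  have haA : a ∈ A := Subgroup.subset_closure (by simp [hX])
  have hbA : b ∈ A := Subgroup.subset_closure (by simp [hX])
  have hcA : c ∈ A := Subgroup.subset_closure (by simp [hX])
  let φ : Fin p × Fin p → A := fun ij =>
    ⟨a ^ (ij.1 : ℕ) * b ^ (ij.2 : ℕ), A.mul_mem (A.pow_mem haA _) (A.pow_mem hbA _)⟩
  have hφ : Function.Injective φ := by
    rintro ⟨i, j⟩ ⟨i', j'⟩ h
    have h1 : a ^ (i : ℕ) * b ^ (j : ℕ) = a ^ (i' : ℕ) * b ^ (j' : ℕ) := congrArg Subtype.val h
    have h2 : (a ^ (i' : ℕ))⁻¹ * a ^ (i : ℕ) = b ^ (j' : ℕ) * (b ^ (j : ℕ))⁻¹ := by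
      calc (a ^ (i' : ℕ))⁻¹ * a ^ (i : ℕ) = (a ^ (i' : ℕ))⁻¹ * (a ^ (i : ℕ) * b ^ (j : ℕ)) * (b ^ (j : ℕ))⁻¹ := by group
        _ = (a ^ (i' : ℕ))⁻¹ * (a ^ (i' : ℕ) * b ^ (j' : ℕ)) * (b ^ (j : ℕ))⁻¹ := by rw [h1]
        _ = _ := by group
    have h3 : (a ^ (i' : ℕ))⁻¹ * a ^ (i : ℕ) ∈ Subgroup.zpowers a ⊓ Subgroup.zpowers b := by
      refine Subgroup.mem_inf.mpr ⟨?_, ?_⟩
      · exact Subgroup.mul_mem _ (Subgroup.inv_mem _ (Subgroup.pow_mem _ (Subgroup.mem_zpowers a) _))
          (Subgroup.pow_mem _ (Subgroup.mem_zpowers a) _)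
      · rw [h2]
        exact Subgroup.mul_mem _ (Subgroup.pow_mem _ (Subgroup.mem_zpowers b) _)
          (Subgroup.inv_mem _ (Subgroup.pow_mem _ (Subgroup.mem_zpowers b) _))
    rw [hdisj, Subgroup.mem_bot] at h3
    have h4 : a ^ (i : ℕ) = a ^ (i' : ℕ) := by
      have := congrArg (fun t => a ^ (i' : ℕ) * t) h3
      simpa using this
    have h5 : b ^ (j : ℕ) = b ^ (j' : ℕ) := by
      rw [h4] at h1
      exact mul_left_cancel h1
    have hi : (i : ℕ) = (i' : ℕ) := by
      have := pow_injOn_Iio_orderOf (x := a) (by rw [ha]; exact i.2) (by rw [ha]; exact i'.2) h4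
      exact this
    have hj : (j : ℕ) = (j' : ℕ) := by
      have := pow_injOn_Iio_orderOf (x := b) (by rw [hb]; exact j.2) (by rw [hb]; exact j'.2) h5
      exact this
    exact Prod.ext (Fin.ext hi) (Fin.ext hj)
  have hbij : Function.Bijective φ := by
    apply hφ.bijective_of_nat_card_le
    rw [Nat.card_prod, Nat.card_fin]
    calc Nat.card A ≤ p ^ 2 := hcard
      _ = p * p := by ring
  obtain ⟨⟨i, j⟩, hij⟩ := hbij.2 ⟨c, hcA⟩
  exact ⟨i, j, (congrArg Subtype.val hij).symm⟩

/-- relative form of a normal `p`-complement criterion: Frobenius' criterion plus the `Ω₁`-lemma -/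
theorem npc_of_isolated_family [Finite G] {p : ℕ} [hp : Fact p.Prime] (hp2 : p ≠ 2) (H : Subgroup G)
    (hyp : ∀ Q : Subgroup G, Q ≤ H → IsPGroup p Q → ∃ x' : G, x' ∈ H ∧ x' ^ p = 1 ∧
      (∀ g ∈ H, Commute x' (g * x' * g⁻¹) → g * x' * g⁻¹ = x') ∧
      ∀ a ∈ Q, a ^ p = 1 → ∃ (i : ℕ) (z : G), (∀ h ∈ H, h * z = z * h) ∧ a = x' ^ i * z) :
    HasNormalPComplement p ↥H := by
  apply Cfsg.Agent.Lib.Helper41.hasNormalPComplement_of_frobCond
  intro Q' hQ' g' hg' hcop
  set Q : Subgroup G := Q'.map H.subtype with hQ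
  have hQp : IsPGroup p Q := hQ'.map _
  have hQH : Q ≤ H := Subgroup.map_subtype_le _
  have hgH : (g' : G) ∈ H := g'.2
  have hcop' : (orderOf (g' : G)).Coprime p := by rwa [Subgroup.orderOf_coe]
  have hconj : ∀ q ∈ Q, (g' : G) * q * (g' : G)⁻¹ ∈ Q := by
    rintro q ⟨q', hq', rfl⟩
    exact ⟨g' * q' * g'⁻¹, (Subgroup.mem_normalizer_iff.mp hg' q').mp hq', by simp⟩
  have hgN : (g' : G) ∈ Subgroup.normalizer (Q : Set G) := by
    rw [Subgroup.mem_normalizer_iff]
    intro q
    constructor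
    · exact hconj q
    · rintro ⟨q', hq', hqq⟩
      have h1 : g'⁻¹ * q' * g'⁻¹⁻¹ ∈ Q' :=
        (Subgroup.mem_normalizer_iff.mp (Subgroup.inv_mem _ hg') q').mp hq'
      refine ⟨g'⁻¹ * q' * g'⁻¹⁻¹, h1, ?_⟩
      have : (H.subtype q' : G) = (g' : G) * q * (g' : G)⁻¹ := hqq
      simp only [Subgroup.subtype_apply, Subgroup.coe_mul, Subgroup.coe_inv, inv_inv] at this ⊢
      rw [this]; group
  obtain ⟨x', hx'H, hx'p, hiso', hform⟩ := hyp Q hQH hQp
  have key : ∀ q ∈ Q, (g' : G) * q = q * (g' : G) := by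
    refine Cfsg.Agent.Lib.Helper40.omega_lemma (g' : G) hcop' (Nat.card Q) Q rfl hQp hgN ?_
    intro a ha hap
    have hap' : a ^ p = 1 := by
      rcases hap with h | ⟨h, -⟩
      · exact h
      · exact absurd h hp2
    set g : G := (g' : G) with hg
    have hbQ : g * a * g⁻¹ ∈ Q := hconj a ha
    have hbp : (g * a * g⁻¹) ^ p = 1 := by rw [conj_pow, hap']; group
    obtain ⟨i, z, hz, hai⟩ := hform a ha hap'
    obtain ⟨k, z', hz', hbk⟩ := hform _ hbQ hbp
    have hgz : g * z = z * g := hz g hgH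
    by_cases hi : p ∣ i
    · have hxi : x' ^ i = 1 := by
        obtain ⟨m, rfl⟩ := hi
        rw [pow_mul, hx'p, one_pow]
      rw [hai, hxi, one_mul]
      exact hgz
    · have hcopi : Nat.Coprime i p := by
        rw [Nat.coprime_comm, Nat.Prime.coprime_iff_not_dvd hp.out]; exact hi
      set y : G := g * x' * g⁻¹ with hy
      have hyp' : y ^ p = 1 := by rw [hy, conj_pow, hx'p]; group
      have hgz' : g * z * g⁻¹ = z := by rw [hgz]; group
      have h1 : g * a * g⁻¹ = y ^ i * z := by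
        rw [hai, hy, conj_pow]
        calc g * (x' ^ i * z) * g⁻¹ = (g * x' ^ i * g⁻¹) * (g * z * g⁻¹) := by group
          _ = _ := by rw [hgz']
      have hyi : y ^ i = x' ^ k * z' * z⁻¹ := by
        have h2 : y ^ i * z = x' ^ k * z' := h1.symm.trans hbk
        calc y ^ i = y ^ i * z * z⁻¹ := by group
          _ = x' ^ k * z' * z⁻¹ := by rw [h2]
      have hcz : Commute x' z := hz x' hx'H
      have hcz' : Commute x' z' := hz' x' hx'H
      have hcyi : Commute x' (y ^ i) := by
        rw [hyi]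
        exact (((Commute.refl x').pow_right k).mul_right hcz').mul_right hcz.inv_right
      obtain ⟨t, -, ht⟩ := Nat.exists_mul_mod_eq_one_of_coprime hcopi hp.out.one_lt
      have hyt : y ^ (i * t) = y := by
        conv_lhs => rw [← Nat.div_add_mod (i * t) p, ht, pow_add, pow_mul, hyp', one_pow, one_mul,
          pow_one]
      have hcy : Commute x' y := by
        rw [← hyt, pow_mul]
        exact hcyi.pow_right t
      have hyx : y = x' := hiso' g hgH hcy
      have hgx : Commute g x' := by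
        unfold Commute SemiconjBy
        calc g * x' = (g * x' * g⁻¹) * g := by group
          _ = x' * g := by rw [← hy, hyx]
      rw [hai]
      exact ((hgx.pow_right i).mul_right hgz).eq
  rw [Subgroup.mem_centralizer_iff]
  intro q hq
  apply Subtype.ext
  have := key (q : G) ⟨q, hq, rfl⟩
  simp only [Subgroup.coe_mul]
  exact this.symm

end Cfsg.Agent.Lib.Helper58.Iso
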