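import Cfsg.Agent.Lib.Helper58.Iso1
import Cfsg.Agent.Lib.Helper97.ThompsonPN
import Cfsg.Agent.Lib.Helper01.PCore
import Cfsg.Agent.Lib.Helper28.Layer

set_option autoImplicit false

/-! Isolated elements of order `p`, `p`-rank at most two: `O_p(G) = 1`. -/

namespace Cfsg.Agent.Lib.Helper58.Iso

open Cfsg

variable {G : Type*} [Group G]

/-- a power of an element of prime order `p` lying in a subgroup not containing the element is trivial -/
theorem pow_eq_one_of_pow_mem {p : ℕ} [hp : Fact p.Prime] {x : G} (hx : orderOf x = p) {N : Subgroup G}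
    (hxN : x ∉ N) {i : ℕ} (h : x ^ i ∈ N) : x ^ i = 1 := by
  by_cases hi : p ∣ i
  · obtain ⟨m, rfl⟩ := hi
    rw [pow_mul, ← hx, pow_orderOf_eq_one, one_pow]
  · exfalso
    have hcopi : Nat.Coprime i p := by
      rw [Nat.coprime_comm, Nat.Prime.coprime_iff_not_dvd hp.out]; exact hi
    obtain ⟨t, -, ht⟩ := Nat.exists_mul_mod_eq_one_of_coprime hcopi hp.out.one_lt
    have h1 : (x ^ i) ^ t ∈ N := N.pow_mem h t
    rw [← pow_mul, ← pow_mod_orderOf, hx, ht, pow_one] at h1
    exact hxN h1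

/-- `⟨x⟩ ∩ N = 1` if `x` has prime order and is not in `N` -/
theorem zpowers_inf_eq_bot {p : ℕ} [hp : Fact p.Prime] {x : G} (hx : orderOf x = p) {N : Subgroup G}
    (hxN : x ∉ N) : Subgroup.zpowers x ⊓ N = ⊥ := by
  rw [eq_bot_iff]
  intro u hu
  obtain ⟨hu1, hu2⟩ := Subgroup.mem_inf.mp hu
  have hfin : IsOfFinOrder x := by
    rw [← orderOf_pos_iff, hx]; exact hp.out.pos
  rw [← hfin.mem_powers_iff_mem_zpowers] at hu1
  obtain ⟨n, rfl⟩ := hu1
  rw [Subgroup.mem_bot]
  exact pow_eq_one_of_pow_mem hx hxN hu2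

/-- an isolated non-central element of order `p` does not lie in `O_p(G)` -/
theorem not_mem_pCore [Finite G] {p : ℕ} [hp : Fact p.Prime] {x : G} (hiso : IsIsolated x)
    (hnc : x ∉ Subgroup.center G) : x ∉ pCore p G := by
  intro hxP
  apply hnc
  rw [Subgroup.mem_center_iff]
  intro g
  have hn : (pCore p G).Normal := Cfsg.Agent.Lib.Helper01.pCore_normal p
  have h1 : g * x * g⁻¹ ∈ pCore p G := hn.conj_mem x hxP g
  have hP : IsPGroup p ↥(pCore p G) := Cfsg.Agent.Lib.Helper28.pCore_isPGroup p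
  have h2 : Commute x (g * x * g⁻¹) := Cfsg.Agent.Lib.Helper57.isolated_commute hiso hP hxP h1
  have h3 := hiso g h2
  calc g * x = (g * x * g⁻¹) * g := by group
    _ = x * g := by rw [h3]

/-- **Claim A**: `O_p(G) = 1`. -/
theorem pCore_eq_bot [Finite G] {p : ℕ} [hp : Fact p.Prime] (hp2 : p ≠ 2)
    (hcore : pPrimeCore p G = ⊥) (hrank : PRankLE p 2 G) (x : G) (hx : orderOf x = p)
    (hiso : IsIsolated x) (hnc : x ∉ Subgroup.center G) : pCore p G = ⊥ := by
  by_contra hPne
  set P := pCore p G with hPdef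
  have hPn : P.Normal := Cfsg.Agent.Lib.Helper01.pCore_normal p
  have hPp : IsPGroup p ↥P := Cfsg.Agent.Lib.Helper28.pCore_isPGroup p
  have hxP : x ∉ P := not_mem_pCore hiso hnc
  have hxp : x ^ p = 1 := by rw [← hx]; exact pow_orderOf_eq_one x
  -- every conjugate of `x` is isolated, of order `p`, outside `P`
  have hconj : ∀ g : G, IsIsolated (g * x * g⁻¹) ∧ orderOf (g * x * g⁻¹) = p ∧ g * x * g⁻¹ ∉ P := by
    intro g
    refine ⟨isIsolated_conj hiso g, ?_, ?_⟩
    · have := (MulAut.conj g).orderOf_eq x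
      rw [MulAut.conj_apply] at this
      rw [this, hx]
    · intro h
      apply hxP
      have := hPn.conj_mem _ h g⁻¹
      have h2 : g⁻¹ * (g * x * g⁻¹) * g⁻¹⁻¹ = x := by group
      rwa [h2] at this
  -- a central element `z` of `P` of order `p`
  obtain ⟨z, hzP, hzo, hzc⟩ : ∃ z ∈ P, orderOf z = p ∧ ∀ y ∈ P, y * z = z * y := by
    have : Nontrivial ↥P := by
      rw [Subgroup.nontrivial_iff_ne_bot]; exact hPne
    have : Nontrivial ↥(Subgroup.center ↥P) := hPp.center_nontrivial
    have hZp : IsPGroup p ↥(Subgroup.center ↥P) := hPp.to_subgroup _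
    have hdvd : p ∣ Nat.card ↥(Subgroup.center ↥P) := by
      obtain ⟨n, hn⟩ := hZp.exists_card_eq
      have hn0 : n ≠ 0 := by
        rintro rfl
        rw [pow_zero] at hn
        have : 1 < Nat.card ↥(Subgroup.center ↥P) := Finite.one_lt_card
        omega
      rw [hn]
      exact dvd_pow_self p hn0
    obtain ⟨z', hz'⟩ := exists_prime_orderOf_dvd_card' p hdvd
    refine ⟨((z' : ↥P) : G), (z' : ↥P).2, ?_, ?_⟩
    · rw [Subgroup.orderOf_coe, Subgroup.orderOf_coe]; exact hz'
    · intro y hy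
      have := Subgroup.mem_center_iff.mp z'.2 ⟨y, hy⟩
      exact congrArg Subtype.val this
  have hzp : z ^ p = 1 := by rw [← hzo]; exact pow_orderOf_eq_one z
  -- `x'` conjugate of `x` commutes with `P`
  have hcommP : ∀ g : G, ∀ y ∈ P, Commute (g * x * g⁻¹) y := by
    intro g y hy
    have hR : IsPGroup p ↥(Subgroup.zpowers (g * x * g⁻¹) ⊔ P) := by
      have h1 : IsPGroup p ↥(Subgroup.zpowers (g * x * g⁻¹)) := by
        apply IsPGroup.of_card (n := 1)
        rw [Nat.card_zpowers, (hconj g).2.1, pow_one]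
      exact h1.to_sup_of_normal_right hPp
    exact Cfsg.Agent.Lib.Helper57.isolated_commute (hconj g).1 hR
      (Subgroup.mem_sup_left (Subgroup.mem_zpowers _)) (Subgroup.mem_sup_right hy)
  have hdisj : ∀ g : G, Subgroup.zpowers (g * x * g⁻¹) ⊓ Subgroup.zpowers z = ⊥ := by
    intro g
    have h1 := zpowers_inf_eq_bot (hconj g).2.1 (hconj g).2.2
    rw [eq_bot_iff] at h1 ⊢
    refine le_trans (inf_le_inf_left _ ?_) h1
    rw [Subgroup.zpowers_le]; exact hzP
  -- elements of order `p` in `P` lie in `⟨z⟩`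
  have hΩ : ∀ y ∈ P, y ^ p = 1 → y ∈ Subgroup.zpowers z := by
    intro y hy hyp
    have h1 : Commute x y := by
      have := hcommP 1 y hy
      simpa using this
    have h2 : Commute x z := by
      have := hcommP 1 z hzP
      simpa using this
    have h3 : Commute z y := (hzc y hy).symm
    have h4 : Subgroup.zpowers x ⊓ Subgroup.zpowers z = ⊥ := by
      have := hdisj 1
      simpa using this
    obtain ⟨i, j, hij⟩ := exists_pow_mul_pow hrank hx hzo hyp h2 h1 h3 h4
    have h5 : x ^ i ∈ P := by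
      have : x ^ i = y * (z ^ j)⁻¹ := by rw [hij]; group
      rw [this]
      exact P.mul_mem hy (P.inv_mem (P.pow_mem hzP j))
    have h6 := pow_eq_one_of_pow_mem hx hxP h5
    rw [hij, h6, one_mul]
    exact Subgroup.pow_mem _ (Subgroup.mem_zpowers z) j
  -- `⟨z⟩` is normal
  have hZn : (Subgroup.zpowers z).Normal := by
    refine ⟨fun n hn g => ?_⟩
    obtain ⟨k, rfl⟩ := Subgroup.mem_zpowers_iff.mp hn
    rw [← conj_zpow]
    apply Subgroup.zpow_mem
    apply hΩ _ (hPn.conj_mem z hzP g)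
    rw [conj_pow, hzp]; group
  set G₀ : Subgroup G := Subgroup.centralizer ((Subgroup.zpowers z : Subgroup G) : Set G) with hG₀
  have hG₀n : G₀.Normal := Subgroup.normal_centralizer
  have hmemG₀ : ∀ u : G, Commute u z → u ∈ G₀ := by
    intro u hu
    rw [hG₀, Subgroup.mem_centralizer_iff]
    intro w hw
    obtain ⟨k, rfl⟩ := Subgroup.mem_zpowers_iff.mp hw
    exact ((hu.zpow_right k).eq).symm
  have hcommG₀ : ∀ u ∈ G₀, ∀ k : ℕ, u * z ^ k = z ^ k * u := by
    intro u hu k
    rw [hG₀, Subgroup.mem_centralizer_iff] at hu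
    exact (hu (z ^ k) (Subgroup.pow_mem _ (Subgroup.mem_zpowers z) k)).symm
  -- normal `p`-complement in `G₀`
  have hnpc : HasNormalPComplement p ↥G₀ := by
    apply npc_of_isolated_family hp2 G₀
    intro Q hQG₀ hQp
    obtain ⟨S', hS'⟩ := hQp.exists_le_sylow
    have hxS : IsPGroup p ↥(Subgroup.zpowers x) := by
      apply IsPGroup.of_card (n := 1)
      rw [Nat.card_zpowers, hx, pow_one]
    obtain ⟨S, hS⟩ := hxS.exists_le_sylow
    obtain ⟨g, hg⟩ := MulAction.exists_smul_eq G S S'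
    set x' := g * x * g⁻¹ with hx'
    have hx'S' : x' ∈ (S' : Subgroup G) := by
      rw [← hg, Sylow.coe_subgroup_smul]
      have h1 : x ∈ (S : Subgroup G) := hS (Subgroup.mem_zpowers x)
      have h2 := Subgroup.smul_mem_pointwise_smul x (MulAut.conj g) (S : Subgroup G) h1
      rwa [MulAut.smul_def, MulAut.conj_apply] at h2
    refine ⟨x', ?_, ?_, ?_, ?_⟩
    · exact hmemG₀ x' (hcommP g z hzP)
    · rw [hx', conj_pow, hxp]; group
    · intro k _ hk
      exact (hconj g).1 k hk
    · intro a ha hap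
      have h1 : Commute x' a :=
        Cfsg.Agent.Lib.Helper57.isolated_commute (hconj g).1 S'.isPGroup' hx'S' (hS' ha)
      have h2 : Commute x' z := hcommP g z hzP
      have h3 : Commute z a := by
        have := hcommG₀ a (hQG₀ ha) 1
        rw [pow_one] at this
        exact this.symm
      obtain ⟨i, j, hij⟩ := exists_pow_mul_pow hrank (hconj g).2.1 hzo hap h2 h1 h3 (hdisj g)
      exact ⟨i, z ^ j, fun h hh => hcommG₀ h hh j, hij⟩
  have hG₀p : IsPGroup p ↥G₀ :=
    Cfsg.Agent.Lib.Helper97.isPGroup_of_pn_of_normal G₀ hnpc hcore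
  have hG₀P : G₀ ≤ P := Cfsg.Agent.Lib.Helper01.le_pCore hG₀n hG₀p
  apply hxP
  apply hG₀P
  apply hmemG₀
  have := hcommP 1 z hzP
  simpa using this

end Cfsg.Agent.Lib.Helper58.Iso
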