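import Cfsg.Agent.Lib.Helper58.Iso2
import Cfsg.Agent.Lib.Helper58.Basic
import Cfsg.Agent.S2971
import Cfsg.Agent.Lib.Helper30.Layer
import Cfsg.Agent.Lib.Helper29.LocalBalance
import Cfsg.Agent.Lib.Helper29.LocalCore
import Cfsg.Agent.Lib.Helper29.PComponent
import Cfsg.Agent.Lib.Helper29.PCore

set_option autoImplicit false

/-! Isolated elements of order `p`, `p`-rank at most two: there is only one component. -/

namespace Cfsg.Agent.Lib.Helper58.Iso

open Cfsg

variable {G : Type*} [Group G]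

/-- if `O_{p'}(G) = O_p(G) = 1` then components have trivial centre -/
theorem component_center_eq_bot [Finite G] {p : ℕ} [hp : Fact p.Prime] (hcore : pPrimeCore p G = ⊥)
    (hP : pCore p G = ⊥) {L : Subgroup G} (hL : IsComponent L) :
    L ⊓ Subgroup.centralizer (L : Set G) = ⊥ := by
  rw [eq_bot_iff]
  refine (Cfsg.Agent.Lib.Helper29.component_center_le_fitting L hL).trans ?_
  refine (Cfsg.Agent.Lib.Helper29.fitting_le_pCore_of_pPrimeCore_eq_bot p hcore).trans ?_
  rw [hP]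

/-- distinct components commute elementwise -/
theorem components_commute {L₁ L₂ : Subgroup G} (h₁ : IsComponent L₁) (h₂ : IsComponent L₂)
    (hne : L₁ ≠ L₂) : ∀ a ∈ L₁, ∀ b ∈ L₂, a * b = b * a := by
  have h := Cfsg.Agent.Lib.Helper30.component_commute h₁ h₂ hne
  rw [Subgroup.commutator_eq_bot_iff_le_centralizer] at h
  intro a ha b hb
  have := h ha
  rw [Subgroup.mem_centralizer_iff] at this
  exact (this b hb).symm

/-- distinct components meet trivially when their centres are trivial -/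
theorem components_inf_eq_bot [Finite G] {p : ℕ} [hp : Fact p.Prime] (hcore : pPrimeCore p G = ⊥)
    (hP : pCore p G = ⊥) {L₁ L₂ : Subgroup G} (h₁ : IsComponent L₁) (h₂ : IsComponent L₂)
    (hne : L₁ ≠ L₂) : L₁ ⊓ L₂ = ⊥ := by
  rw [eq_bot_iff, ← component_center_eq_bot hcore hP h₁]
  refine le_inf inf_le_left ?_
  intro u hu
  rw [Subgroup.mem_centralizer_iff]
  intro a ha
  exact components_commute h₁ h₂ hne a ha u (Subgroup.mem_inf.mp hu).2

/-- an element of order `p` in a component -/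
theorem exists_orderOf_eq_in_component [Finite G] {p : ℕ} [hp : Fact p.Prime]
    (hcore : pPrimeCore p G = ⊥) {L : Subgroup G} (hL : IsComponent L) :
    ∃ y ∈ L, orderOf y = p := by
  have hdvd := Cfsg.Agent.Lib.Helper29.component_dvd_card p hcore L hL
  obtain ⟨y, hy⟩ := exists_prime_orderOf_dvd_card' p hdvd
  exact ⟨(y : G), y.2, by rw [Subgroup.orderOf_coe]; exact hy⟩

theorem two_components_aux [Finite G] {p : ℕ} [hp : Fact p.Prime] (hp2 : p ≠ 2)
    (hcore : pPrimeCore p G = ⊥) (hrank : PRankLE p 2 G) (hP : pCore p G = ⊥)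
    {L₁ L₂ : Subgroup G} (h₁ : IsComponent L₁) (h₂ : IsComponent L₂) (hne : L₁ ≠ L₂)
    (x' u₁ u₂ : G) (hx' : orderOf x' = p) (hiso : IsIsolated x') (hu₁ : u₁ ∈ L₁) (hu₂ : u₂ ∈ L₂)
    (hu₁1 : u₁ ≠ 1) (hxu : x' = u₁ * u₂) : False := by
  have hcomm := components_commute h₁ h₂ hne
  have hinf := components_inf_eq_bot hcore hP h₁ h₂ hne
  have hZ1 := component_center_eq_bot hcore hP h₁
  have hc12 : Commute u₁ u₂ := hcomm u₁ hu₁ u₂ hu₂
  -- `u₁` has order `p`
  have hu₁p : u₁ ^ p = 1 := by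
    have h1 : u₁ ^ p * u₂ ^ p = 1 := by
      rw [← hc12.mul_pow, ← hxu, ← hx']; exact pow_orderOf_eq_one x'
    have h2 : u₁ ^ p = (u₂ ^ p)⁻¹ := eq_inv_of_mul_eq_one_left h1
    have h3 : u₁ ^ p ∈ L₁ ⊓ L₂ := by
      refine Subgroup.mem_inf.mpr ⟨L₁.pow_mem hu₁ p, ?_⟩
      rw [h2]; exact L₂.inv_mem (L₂.pow_mem hu₂ p)
    rw [hinf, Subgroup.mem_bot] at h3
    exact h3
  have hu₁o : orderOf u₁ = p := orderOf_eq_prime hu₁p hu₁1
  obtain ⟨y₂, hy₂L, hy₂o⟩ := exists_orderOf_eq_in_component hcore h₂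
  have hy₂p : y₂ ^ p = 1 := by rw [← hy₂o]; exact pow_orderOf_eq_one y₂
  -- the element `v` of `L₁`
  set v : ↥L₁ := ⟨u₁, hu₁⟩ with hv
  have hvo : orderOf v = p := by rw [← Subgroup.orderOf_coe]; exact hu₁o
  have hviso : IsIsolated v := by
    intro m hm
    have hm' : Commute u₁ ((m : G) * u₁ * (m : G)⁻¹) := by
      have := congrArg Subtype.val hm.eq
      unfold Commute SemiconjBy
      simpa [hv] using this
    have hmu₂ : (m : G) * u₂ * (m : G)⁻¹ = u₂ := by
      rw [hcomm m m.2 u₂ hu₂]; group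
    have hconj : (m : G) * x' * (m : G)⁻¹ = ((m : G) * u₁ * (m : G)⁻¹) * u₂ := by
      calc (m : G) * x' * (m : G)⁻¹ = ((m : G) * u₁ * (m : G)⁻¹) * ((m : G) * u₂ * (m : G)⁻¹) := by
            rw [hxu]; group
        _ = _ := by rw [hmu₂]
    have hmem : (m : G) * u₁ * (m : G)⁻¹ ∈ L₁ := L₁.mul_mem (L₁.mul_mem m.2 hu₁) (L₁.inv_mem m.2)
    have hc2 : Commute u₂ ((m : G) * u₁ * (m : G)⁻¹) := (hcomm _ hmem u₂ hu₂).symm
    have hcx : Commute x' ((m : G) * x' * (m : G)⁻¹) := by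
      rw [hconj]
      nth_rewrite 1 [hxu]
      exact (hm'.mul_right hc12).mul_left (hc2.mul_right (Commute.refl u₂))
    have h3 := hiso (m : G) hcx
    rw [hconj, hxu] at h3
    have h4 : (m : G) * u₁ * (m : G)⁻¹ = u₁ := mul_right_cancel h3
    apply Subtype.ext
    simpa [hv] using h4
  -- `L₁` has `p`-rank one
  have hrk : PRankLE p 1 ↥L₁ := by
    intro A hA hAexp
    set B : Subgroup G := A.map L₁.subtype with hB
    have hBL : B ≤ L₁ := Subgroup.map_subtype_le _
    set X : Set G := (B : Set G) ∪ {y₂} with hX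
    have hXcomm : ∀ u ∈ X, ∀ w ∈ X, u * w = w * u := by
      intro u hu w hw
      rcases hu with hu | hu <;> rcases hw with hw | hw
      · obtain ⟨u', hu', rfl⟩ := hu
        obtain ⟨w', hw', rfl⟩ := hw
        haveI := hA
        have := setLike_mul_comm (s := A) hu' hw'
        exact congrArg Subtype.val this
      · rw [Set.mem_singleton_iff] at hw; subst hw
        exact hcomm u (hBL hu) w hy₂L
      · rw [Set.mem_singleton_iff] at hu; subst hu
        exact (hcomm w (hBL hw) u hy₂L).symm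
      · rw [Set.mem_singleton_iff] at hu hw; subst hu; subst hw; rfl
    have hXexp : ∀ u ∈ X, u ^ p = 1 := by
      intro u hu
      rcases hu with hu | hu
      · obtain ⟨u', hu', rfl⟩ := hu
        have := hAexp u' hu'
        have h2 := congrArg Subtype.val this
        simpa using h2
      · rw [Set.mem_singleton_iff] at hu; subst hu; exact hy₂p
    have hE := closure_isElementaryAbelian (p := p) X hXcomm hXexp
    have hcardK : Nat.card ↥(Subgroup.closure X) ≤ p ^ 2 := hrank _ hE.1 hE.2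
    have hle : B ⊔ Subgroup.zpowers y₂ ≤ Subgroup.closure X := by
      refine sup_le ?_ ?_
      · intro u hu; exact Subgroup.subset_closure (Or.inl hu)
      · rw [Subgroup.zpowers_le]; exact Subgroup.subset_closure (Or.inr rfl)
    have hinf' : B ⊓ Subgroup.zpowers y₂ = ⊥ := by
      rw [eq_bot_iff, ← hinf]
      refine inf_le_inf hBL ?_
      rw [Subgroup.zpowers_le]; exact hy₂L
    have h1 := Cfsg.Agent.Lib.Helper58.card_mul_card_le_sup_mul_inf B (Subgroup.zpowers y₂)
    rw [hinf', Subgroup.card_bot, mul_one, Nat.card_zpowers, hy₂o] at h1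
    have h2 : Nat.card ↥(B ⊔ Subgroup.zpowers y₂) ≤ Nat.card ↥(Subgroup.closure X) :=
      Subgroup.card_le_of_le hle
    have h3 : Nat.card ↥B = Nat.card ↥A :=
      Subgroup.card_map_of_injective (Subgroup.subtype_injective L₁)
    rw [h3] at h1
    have h4 : Nat.card ↥A * p ≤ p * p := by
      calc Nat.card ↥A * p ≤ Nat.card ↥(Subgroup.closure X) := h1.trans h2
        _ ≤ p ^ 2 := hcardK
        _ = p * p := by ring
    rw [pow_one]
    exact Nat.le_of_mul_le_mul_right h4 hp.out.pos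
  have hZ := Cfsg.Agent.S2971.result hp2 hrk v hvo hviso
  have hcoreL : pPrimeCore p ↥L₁ = ⊥ := by
    rw [Cfsg.Agent.Lib.Helper29.pPrimeCore_eq_subgroupOf_of_subnormal p L₁ h₁.1, hcore,
      Subgroup.bot_subgroupOf]
  have hu₁c : u₁ ∈ Subgroup.centralizer (L₁ : Set G) := by
    rw [Subgroup.mem_centralizer_iff]
    intro m hm
    have h1 := hZ ⟨m, hm⟩
    rw [hcoreL, Subgroup.mem_bot] at h1
    have h2 : (⟨m, hm⟩ : ↥L₁) * v = v * ⟨m, hm⟩ := by
      calc (⟨m, hm⟩ : ↥L₁) * v = (⟨m, hm⟩ * v * (⟨m, hm⟩ : ↥L₁)⁻¹ * v⁻¹) * v * ⟨m, hm⟩ := by group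
        _ = v * ⟨m, hm⟩ := by rw [h1, one_mul]
    have h3 := congrArg Subtype.val h2
    simpa [hv] using h3
  have : u₁ ∈ L₁ ⊓ Subgroup.centralizer (L₁ : Set G) := Subgroup.mem_inf.mpr ⟨hu₁, hu₁c⟩
  rw [hZ1, Subgroup.mem_bot] at this
  exact hu₁1 this

/-- **Claim B**: there is at most one component. -/
theorem component_unique [Finite G] {p : ℕ} [hp : Fact p.Prime] (hp2 : p ≠ 2)
    (hcore : pPrimeCore p G = ⊥) (hrank : PRankLE p 2 G) (hP : pCore p G = ⊥)
    (x : G) (hx : orderOf x = p) (hiso : IsIsolated x)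
    {L₁ L₂ : Subgroup G} (h₁ : IsComponent L₁) (h₂ : IsComponent L₂) : L₁ = L₂ := by
  by_contra hne
  have hcomm := components_commute h₁ h₂ hne
  have hinf := components_inf_eq_bot hcore hP h₁ h₂ hne
  obtain ⟨y₁, hy₁L, hy₁o⟩ := exists_orderOf_eq_in_component hcore h₁
  obtain ⟨y₂, hy₂L, hy₂o⟩ := exists_orderOf_eq_in_component hcore h₂
  have hc12 : Commute y₁ y₂ := hcomm y₁ hy₁L y₂ hy₂L
  set X : Set G := {y₁, y₂} with hX
  have hXcomm : ∀ u ∈ X, ∀ w ∈ X, u * w = w * u := by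
    intro u hu w hw
    simp only [hX, Set.mem_insert_iff, Set.mem_singleton_iff] at hu hw
    rcases hu with rfl | rfl <;> rcases hw with rfl | rfl
    · rfl
    · exact hc12.eq
    · exact hc12.eq.symm
    · rfl
  have hXexp : ∀ u ∈ X, u ^ p = 1 := by
    intro u hu
    simp only [hX, Set.mem_insert_iff, Set.mem_singleton_iff] at hu
    rcases hu with rfl | rfl
    · rw [← hy₁o]; exact pow_orderOf_eq_one _
    · rw [← hy₂o]; exact pow_orderOf_eq_one _
  have hE := closure_isElementaryAbelian (p := p) X hXcomm hXexp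
  have hRp : IsPGroup p ↥(Subgroup.closure X) := by
    intro u
    exact ⟨1, by rw [pow_one]; exact Subtype.ext (hE.2 u u.2)⟩
  obtain ⟨S', hS'⟩ := hRp.exists_le_sylow
  have hxS : IsPGroup p ↥(Subgroup.zpowers x) := by
    apply IsPGroup.of_card (n := 1)
    rw [Nat.card_zpowers, hx, pow_one]
  obtain ⟨S, hS⟩ := hxS.exists_le_sylow
  obtain ⟨g, hg⟩ := MulAction.exists_smul_eq G S S'
  set x' := g * x * g⁻¹ with hx'
  have hx'S' : x' ∈ (S' : Subgroup G) := by
    rw [← hg, Sylow.coe_subgroup_smul]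
    have h1 : x ∈ (S : Subgroup G) := hS (Subgroup.mem_zpowers x)
    have h2 := Subgroup.smul_mem_pointwise_smul x (MulAut.conj g) (S : Subgroup G) h1
    rwa [MulAut.smul_def, MulAut.conj_apply] at h2
  have hx'iso : IsIsolated x' := isIsolated_conj hiso g
  have hx'o : orderOf x' = p := by
    have := (MulAut.conj g).orderOf_eq x
    rw [MulAut.conj_apply] at this
    rw [hx', this, hx]
  have hy₁S' : y₁ ∈ (S' : Subgroup G) := hS' (Subgroup.subset_closure (by simp [hX]))
  have hy₂S' : y₂ ∈ (S' : Subgroup G) := hS' (Subgroup.subset_closure (by simp [hX]))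
  have hc1 : Commute x' y₁ :=
    Cfsg.Agent.Lib.Helper57.isolated_commute hx'iso S'.isPGroup' hx'S' hy₁S'
  have hc2 : Commute x' y₂ :=
    Cfsg.Agent.Lib.Helper57.isolated_commute hx'iso S'.isPGroup' hx'S' hy₂S'
  have hdisj : Subgroup.zpowers y₁ ⊓ Subgroup.zpowers y₂ = ⊥ := by
    rw [eq_bot_iff, ← hinf]
    refine inf_le_inf ?_ ?_
    · rw [Subgroup.zpowers_le]; exact hy₁L
    · rw [Subgroup.zpowers_le]; exact hy₂L
  have hx'p : x' ^ p = 1 := by rw [← hx'o]; exact pow_orderOf_eq_one x'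
  obtain ⟨i, j, hij⟩ := exists_pow_mul_pow hrank hy₁o hy₂o hx'p hc12 hc1.symm hc2.symm hdisj
  have hx'1 : x' ≠ 1 := by
    intro h
    rw [h, orderOf_one] at hx'o
    exact hp.out.one_lt.ne hx'o
  by_cases h : y₁ ^ i = 1
  · rw [h, one_mul] at hij
    refine two_components_aux hp2 hcore hrank hP h₂ h₁ (Ne.symm hne) x' (y₂ ^ j) 1 hx'o hx'iso
      (L₂.pow_mem hy₂L j) L₁.one_mem ?_ ?_
    · rw [← hij]; exact hx'1
    · rw [mul_one]; exact hij
  · exact two_components_aux hp2 hcore hrank hP h₁ h₂ hne x' (y₁ ^ i) (y₂ ^ j) hx'o hx'iso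
      (L₁.pow_mem hy₁L i) (L₂.pow_mem hy₂L j) h hij

end Cfsg.Agent.Lib.Helper58.Iso
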