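import Mathlib
import Cfsg.Agent.Lib.Helper58.KChar4

set_option autoImplicit false
open Cfsg
open Cfsg.Agent.Lib.Helper16 Cfsg.Agent.Lib.Helper97 Cfsg.Agent.Lib.Helper57
open scoped commutatorElement

universe u

namespace Cfsg.Agent.Lib.Helper58.KChar

section Main
variable {p : ℕ} [Fact p.Prime]

/-- existence of a characteristic self-centralizing subgroup deciding normal `p`-complements -/
theorem exists_K (hp : p ≠ 2) : ∀ (n : ℕ) (S : Type u) [Group S] [Finite S], IsPGroup p S →
    Nat.card S ≤ n →
    ∃ K : Subgroup S, K.Characteristic ∧ Subgroup.centralizer (K : Set S) ≤ K ∧ Works p S K := by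
  intro n
  induction n with
  | zero =>
    intro S _ _ _ hcard
    have := Nat.card_pos (α := S)
    omega
  | succ n ih =>
    intro S _ _ hS hcard
    by_cases htriv : Subsingleton S
    · exact ⟨⊤, inferInstance, le_top, works_of_subsingleton S ⊤⟩
    · have hnt : Nontrivial S := not_subsingleton_iff_nontrivial.mp htriv
      have hZne : ZA S ≠ ⊥ := ZA_ne_bot (p := p) S hS hnt
      have hGT := ZA_gtprop (p := p) S hp
      by_cases hc : Subgroup.centralizer (ZA S : Set S) = ⊤
      · -- second case: `ZA S` is central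
        have hZc : ZA S ≤ Subgroup.center S := by
          intro z hz
          exact (Subgroup.centralizer_eq_top_iff_subset.mp hc) hz
        have hlt : Nat.card (S ⧸ ZA S) < Nat.card S := by
          have h1 := Subgroup.card_eq_card_quotient_mul_card_subgroup (ZA S)
          have h2 : 1 < Nat.card (ZA S) := (Subgroup.one_lt_card_iff_ne_bot _).mpr hZne
          have h3 : 0 < Nat.card (S ⧸ ZA S) := Nat.card_pos
          nlinarith
        obtain ⟨Kb, hKbchar, hKbc, hKbw⟩ := ih (S ⧸ ZA S) (hS.to_quotient _) (by omega)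
        exact ⟨Kb.comap (QuotientGroup.mk' (ZA S)), case2_char S (ZA S) Kb,
          case2_cent S (ZA S) Kb hKbc, case2_works S (ZA S) hZc hGT Kb hKbw⟩
      · -- first case
        have hlt : Nat.card ↥(Subgroup.centralizer (ZA S : Set S)) < Nat.card S :=
          lt_of_le_of_ne (Subgroup.card_le_card_group _)
            (fun h => hc ((Subgroup.card_eq_iff_eq_top _).mp h))
        obtain ⟨K₁, hK₁char, hK₁c, hK₁w⟩ :=
          ih ↥(Subgroup.centralizer (ZA S : Set S)) (hS.to_subgroup _) (by omega)
        exact ⟨K₁.map (Subgroup.centralizer (ZA S : Set S)).subtype, inferInstance,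
          case1_cent S (ZA S) _ rfl (ZA_le_centralizer S) K₁ hK₁c,
          case1_works S (ZA S) _ rfl (ZA_le_centralizer S) hGT K₁ hK₁c hK₁w⟩

/-- the statement of S3073 -/
theorem kchar_main (p : ℕ) [Fact p.Prime] (hp : p ≠ 2)
    (S : Type u) [Group S] [Finite S] (hS : IsPGroup p S) :
    ∃ K : Subgroup S, K.Characteristic ∧ Subgroup.centralizer (K : Set S) ≤ K ∧
      ∀ (G : Type u) [Group G] [Finite G] (P : Sylow p G) (e : ↥(P : Subgroup G) ≃* S),
        Cfsg.HasNormalPComplement p G ↔
          ∀ g ∈ Subgroup.normalizer (((K.comap (e : ↥(P : Subgroup G) →* S)).map (P : Subgroup G).subtype : Subgroup G) : Set G),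
            (orderOf g).Coprime p →
              g ∈ Subgroup.centralizer (((K.comap (e : ↥(P : Subgroup G) →* S)).map (P : Subgroup G).subtype : Subgroup G) : Set G) := by
  obtain ⟨K, hKchar, hKc, hKw⟩ := exists_K hp (Nat.card S) S hS le_rfl
  refine ⟨K, hKchar, hKc, ?_⟩
  intro G _ _ P e
  set ι : S →* G := (P : Subgroup G).subtype.comp e.symm.toMonoidHom with hι
  have hinj : Function.Injective ι := Subtype.val_injective.comp e.symm.injective
  have hrange : ι.range = (P : Subgroup G) := by
    ext x
    constructor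
    · rintro ⟨s, rfl⟩
      exact (e.symm s).2
    · intro hx
      refine ⟨e ⟨x, hx⟩, ?_⟩
      simp [hι]
  have hmap : (K.comap (e : ↥(P : Subgroup G) →* S)).map (P : Subgroup G).subtype = K.map ι := by
    ext x
    constructor
    · rintro ⟨y, hy, rfl⟩
      refine ⟨e y, hy, ?_⟩
      simp [hι]
    · rintro ⟨s, hs, rfl⟩
      refine ⟨e.symm s, ?_, rfl⟩
      change e.symm s ∈ K.comap (e : ↥(P : Subgroup G) →* S)
      rw [Subgroup.mem_comap]
      simpa using hs
  rw [hmap]
  constructor
  · intro h g hg hgo
    refine centralizes_of_npc h (K.map ι) (P.2.to_le ?_) g hg hgo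
    rw [← hrange]
    exact Subgroup.map_le_range ι K
  · intro h
    exact hKw G P ι hinj hrange h

end Main

end Cfsg.Agent.Lib.Helper58.KChar
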