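import Mathlib
import Cfsg.Agent.S0261
import Cfsg.Agent.Lib.Helper48.PSL2Basic

set_option autoImplicit false
set_option linter.unusedSectionVars false
set_option linter.unusedVariables false

/-! K-NQ leaf P1 (S2787): in a 2-subgroup of `PSL₂(F)`, `|F|` odd, two elements commute or one of
them squares to `1`. -/

namespace Cfsg.Agent.Lib.Helper58.NQ

open Matrix Cfsg.Agent.Lib.Helper48

/-- the only involution of a generalized quaternion group is `a n` -/
theorem nq_quat_invol {n : ℕ} [NeZero n] (g : QuaternionGroup n) (h2 : g * g = 1) (h1 : g ≠ 1) :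
    g = QuaternionGroup.a (n : ZMod (2 * n)) := by
  have hn : 0 < n := Nat.pos_of_ne_zero (NeZero.ne n)
  haveI : NeZero (2 * n) := ⟨by omega⟩
  have hnne : (n : ZMod (2 * n)) ≠ 0 := by
    intro h
    have := (ZMod.natCast_eq_zero_iff n (2 * n)).mp h
    have := Nat.le_of_dvd hn this
    omega
  cases g with
  | a i =>
    rw [QuaternionGroup.a_mul_a, QuaternionGroup.one_def] at h2
    have hi : i + i = 0 := by
      injection h2
    have hval : ((2 * i.val : ℕ) : ZMod (2 * n)) = 0 := by
      push_cast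
      rw [ZMod.natCast_zmod_val]
      linear_combination hi
    have hdvd := (ZMod.natCast_eq_zero_iff _ _).mp hval
    have hlt : i.val < 2 * n := ZMod.val_lt i
    obtain ⟨c, hc⟩ := hdvd
    have hc' : i.val = n * c := by
      have : 2 * i.val = 2 * (n * c) := by rw [hc]; ring
      omega
    have hc2 : c < 2 := by
      by_contra hge
      push Not at hge
      have : n * 2 ≤ n * c := Nat.mul_le_mul_left n hge
      omega
    have hieq : i = ((i.val : ℕ) : ZMod (2 * n)) := (ZMod.natCast_zmod_val i).symm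
    interval_cases c
    · exfalso
      apply h1
      rw [QuaternionGroup.one_def, hieq, hc']
      simp
    · rw [hieq, hc']
      simp
  | xa i =>
    exfalso
    rw [QuaternionGroup.xa_mul_xa, QuaternionGroup.one_def] at h2
    have hi : (n : ZMod (2 * n)) + i - i = 0 := by
      injection h2
    apply hnne
    rw [← hi]
    ring

theorem psl2_two_subgroup_pair {F : Type*} [Field F] [Fintype F] (hF : Odd (Fintype.card F))
    (T : Subgroup (Matrix.ProjectiveSpecialLinearGroup (Fin 2) F)) (hT : IsPGroup 2 T)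
    (x y : Matrix.ProjectiveSpecialLinearGroup (Fin 2) F) (hx : x ∈ T) (hy : y ∈ T) :
    x * x = 1 ∨ y * y = 1 ∨ x * y = y * x := by
  classical
  haveI : Fact (Nat.Prime 2) := ⟨Nat.prime_two⟩
  set Z := Subgroup.center (Matrix.SpecialLinearGroup (Fin 2) F) with hZ
  set π : Matrix.SpecialLinearGroup (Fin 2) F →* Matrix.ProjectiveSpecialLinearGroup (Fin 2) F :=
    QuotientGroup.mk' Z with hπ
  -- the centre is a 2-group
  have hZsq : ∀ z ∈ Z, z * z = 1 := by
    intro z hz
    obtain ⟨r, hr⟩ := (sl2_mem_center_iff z).mp hz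
    have hdet : (z : Matrix (Fin 2) (Fin 2) F).det = 1 := z.2
    have hr2 : r * r = 1 := by
      rw [hr] at hdet
      simpa [Matrix.det_smul, Fintype.card_fin, pow_two] using hdet
    apply Subtype.ext
    rw [Matrix.SpecialLinearGroup.coe_mul, hr, Matrix.SpecialLinearGroup.coe_one,
      Matrix.smul_mul, Matrix.mul_smul, Matrix.mul_one, smul_smul, hr2, one_smul]
  have hZp : IsPGroup 2 Z := by
    intro z
    refine ⟨1, ?_⟩
    apply Subtype.ext
    rw [pow_one, pow_two]
    exact hZsq z.1 z.2
  have hker : IsPGroup 2 π.ker := by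
    rw [hπ, QuotientGroup.ker_mk']
    exact hZp
  have hTc : IsPGroup 2 (T.comap π) := hT.comap_of_ker_isPGroup π hker
  obtain ⟨P, hP⟩ := hTc.exists_le_sylow
  obtain ⟨k, hk1, ⟨e⟩⟩ := Cfsg.Agent.S0261.result hF P
  haveI : NeZero (2 ^ k) := ⟨by positivity⟩
  -- the centre lies in P
  have hZP : Z ≤ (P : Subgroup (Matrix.SpecialLinearGroup (Fin 2) F)) := by
    have h1 : IsPGroup 2 ((P : Subgroup (Matrix.SpecialLinearGroup (Fin 2) F)) ⊔ Z : Subgroup _) :=
      P.2.to_sup_of_normal_right hZp
    have h2 := P.is_maximal' h1 le_sup_left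
    rw [← h2]
    exact le_sup_right
  -- the central involution
  have h2ne : (2 : F) ≠ 0 := by
    intro h2
    have hchar : ringChar F ∣ 2 := (ringChar.spec F 2).mp (by exact_mod_cast h2)
    have hdvd : ringChar F ∣ Fintype.card F := by
      obtain ⟨p, hp⟩ := CharP.exists F
      haveI := hp
      rw [ringChar.eq F p]
      obtain ⟨n, hpp, hcard⟩ := FiniteField.card F p
      rw [hcard]
      exact dvd_pow_self p n.ne_zero
    have hrc : ringChar F = 2 := by
      rcases (Nat.dvd_prime Nat.prime_two).mp hchar with h | h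
      · exfalso
        have := CharP.ringChar_ne_one (R := F)
        exact this h
      · exact h
    rw [hrc] at hdvd
    exact (Nat.not_even_iff_odd.mpr hF) (even_iff_two_dvd.mpr hdvd)
  let c : Matrix.SpecialLinearGroup (Fin 2) F := ⟨!![-1, 0; 0, -1], by simp [Matrix.det_fin_two]⟩
  have hcZ : c ∈ Z := by
    rw [hZ, sl2_mem_center_iff]
    refine ⟨-1, ?_⟩
    ext i j
    fin_cases i <;> fin_cases j <;> simp [c]
  have hc1 : c ≠ 1 := by
    intro h
    have h00 := congrFun (congrFun (congrArg Subtype.val h) 0) 0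
    simp [c] at h00
    apply h2ne
    linear_combination -h00
  have hcP : c ∈ (P : Subgroup (Matrix.SpecialLinearGroup (Fin 2) F)) := hZP hcZ
  have hec : e ⟨c, hcP⟩ = QuaternionGroup.a ((2 ^ k : ℕ) : ZMod (2 * 2 ^ k)) := by
    apply nq_quat_invol
    · rw [← map_mul]
      have : (⟨c, hcP⟩ : (P : Subgroup (Matrix.SpecialLinearGroup (Fin 2) F))) * ⟨c, hcP⟩ = 1 :=
        Subtype.ext (hZsq c hcZ)
      rw [this, map_one]
    · intro h
      apply hc1
      have := e.injective (h.trans (map_one e).symm)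
      exact congrArg Subtype.val this
  have hπc : π c = 1 := by
    rw [hπ, QuotientGroup.mk'_apply, QuotientGroup.eq_one_iff]
    exact hcZ
  -- lifts
  obtain ⟨x', rfl⟩ := QuotientGroup.mk'_surjective Z x
  obtain ⟨y', rfl⟩ := QuotientGroup.mk'_surjective Z y
  have hx'P : x' ∈ (P : Subgroup (Matrix.SpecialLinearGroup (Fin 2) F)) := hP hx
  have hy'P : y' ∈ (P : Subgroup (Matrix.SpecialLinearGroup (Fin 2) F)) := hP hy
  -- key: an element of P mapping to `xa i` squares to c
  have hsq : ∀ (u : Matrix.SpecialLinearGroup (Fin 2) F)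
      (hu : u ∈ (P : Subgroup (Matrix.SpecialLinearGroup (Fin 2) F))) (i : ZMod (2 * 2 ^ k)),
      e ⟨u, hu⟩ = QuaternionGroup.xa i → π u * π u = 1 := by
    intro u hu i hi
    have h1 : e (⟨u, hu⟩ * ⟨u, hu⟩) = e ⟨c, hcP⟩ := by
      rw [map_mul, hi, QuaternionGroup.xa_mul_xa, hec]
      congr 1
      push_cast
      ring
    have h2 := e.injective h1
    have h3 : u * u = c := congrArg Subtype.val h2
    rw [← map_mul, h3, hπc]
  rcases hgx : e ⟨x', hx'P⟩ with i | i
  · rcases hgy : e ⟨y', hy'P⟩ with j | j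
    · right; right
      have h1 : e (⟨x', hx'P⟩ * ⟨y', hy'P⟩) = e (⟨y', hy'P⟩ * ⟨x', hx'P⟩) := by
        rw [map_mul, map_mul, hgx, hgy, QuaternionGroup.a_mul_a, QuaternionGroup.a_mul_a, add_comm]
      have h2 := e.injective h1
      have h3 : x' * y' = y' * x' := congrArg Subtype.val h2
      change π x' * π y' = π y' * π x'
      rw [← map_mul, ← map_mul, h3]
    · right; left
      exact hsq y' hy'P j hgy
  · left
    exact hsq x' hx'P i hgx

end Cfsg.Agent.Lib.Helper58.NQ
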