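import Mathlib
import Cfsg.Agent.Lib.Helper48.PSL2Basic

set_option autoImplicit false
set_option linter.unusedSectionVars false
set_option linter.unusedVariables false

/-! K-NQ leaf P2 (S2787): `O_p(PSL₂(F)) = 1` for `|F| = p^n` odd. -/

namespace Cfsg.Agent.Lib.Helper58.NQ

open Matrix Cfsg.Agent.Lib.Helper48

/-- every lift of an element of a `p`-subgroup of `PSL₂(F)` (char `p` odd) has trace `± 2` -/
theorem nq_trace_sq_of_pow {F : Type*} [Field F] {p : ℕ} [Fact p.Prime] [CharP F p] (hp2 : p ≠ 2)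
    (g : Matrix.SpecialLinearGroup (Fin 2) F) (k : ℕ)
    (h : (QuotientGroup.mk g : Matrix.ProjectiveSpecialLinearGroup (Fin 2) F) ^ (p ^ k) = 1) :
    (g : Matrix (Fin 2) (Fin 2) F).trace ^ 2 = 4 := by
  have hpp : p.Prime := Fact.out
  obtain ⟨r, hr⟩ := (psl2_mk_pow_eq_one_iff g (p ^ k)).mp h
  set M : Matrix (Fin 2) (Fin 2) F := (g : Matrix (Fin 2) (Fin 2) F) with hM
  have hdet : M.det = 1 := g.2
  have hr2 : r * r = 1 := by
    have h1 := congrArg Matrix.det hr
    rw [Matrix.det_pow, hdet, one_pow] at h1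
    simpa [Matrix.det_smul, Fintype.card_fin, pow_two] using h1.symm
  have hodd : Odd (p ^ k) := (hpp.odd_of_ne_two hp2).pow
  have hrpow : r ^ (p ^ k + 1) = 1 := by
    obtain ⟨j, hj⟩ := hodd
    have : p ^ k + 1 = 2 * (j + 1) := by omega
    rw [this, pow_mul, pow_two, hr2, one_pow]
  -- M₁ = r • M has M₁ ^ (p^k) = 1
  have hM1 : (r • M) ^ (p ^ k) = 1 := by
    rw [smul_pow, hr, smul_smul, ← pow_succ, hrpow, one_smul]
  have hcomm : Commute (r • M) (1 : Matrix (Fin 2) (Fin 2) F) := Commute.one_right _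
  have hnil : (r • M - 1) ^ (p ^ k) = 0 := by
    rw [sub_pow_char_pow_of_commute p k hcomm, hM1, one_pow, sub_self]
  have hnil' : IsNilpotent (r • M - 1) := ⟨p ^ k, hnil⟩
  have htr : (r • M - 1).trace = 0 :=
    (Matrix.isNilpotent_trace_of_isNilpotent hnil').eq_zero
  rw [Matrix.trace_sub, Matrix.trace_smul, Matrix.trace_one, Fintype.card_fin, smul_eq_mul] at htr
  have h2 : r * M.trace = 2 := by
    have := sub_eq_zero.mp htr
    simpa using this
  calc M.trace ^ 2 = (r * r) * M.trace ^ 2 := by rw [hr2, one_mul]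
    _ = (r * M.trace) ^ 2 := by ring
    _ = 4 := by rw [h2]; norm_num

theorem psl2_normal_pgroup_eq_bot {F : Type*} [Field F] [Fintype F] {p : ℕ} [Fact p.Prime] (n : ℕ)
    (hF : Fintype.card F = p ^ n) (hodd : Odd (Fintype.card F))
    (N : Subgroup (Matrix.ProjectiveSpecialLinearGroup (Fin 2) F)) (hN : N.Normal) (hNp : IsPGroup p N) :
    N = ⊥ := by
  classical
  have hpp : p.Prime := Fact.out
  -- characteristic
  have hn0 : n ≠ 0 := by
    rintro rfl
    rw [pow_zero] at hF
    have := Fintype.one_lt_card (α := F)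
    omega
  have hp2 : p ≠ 2 := by
    rintro rfl
    rw [hF] at hodd
    exact (Nat.not_even_iff_odd.mpr hodd) ((Nat.even_pow' hn0).mpr even_two)
  have hchar : CharP F p := by
    obtain ⟨p', hp'⟩ := CharP.exists F
    obtain ⟨m, hp'p, hcard⟩ := FiniteField.card F p'
    have hdvd : p' ∣ p ^ n := by
      rw [← hF, hcard]
      exact dvd_pow_self p' m.ne_zero
    have := (Nat.prime_dvd_prime_iff_eq hp'p hpp).mp (hp'p.dvd_of_dvd_pow hdvd)
    rw [← this]
    exact hp'
  have h2ne : (2 : F) ≠ 0 := by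
    intro h2
    have h := (CharP.cast_eq_zero_iff F p 2).mp (by exact_mod_cast h2)
    have := (Nat.prime_dvd_prime_iff_eq hpp Nat.prime_two).mp h
    exact hp2 this
  have h4ne : (4 : F) ≠ 0 := by
    have : (4 : F) = 2 * 2 := by norm_num
    rw [this]
    exact mul_ne_zero h2ne h2ne
  -- Lemma A
  have hA : ∀ g : Matrix.SpecialLinearGroup (Fin 2) F,
      (QuotientGroup.mk g : Matrix.ProjectiveSpecialLinearGroup (Fin 2) F) ∈ N →
      (g : Matrix (Fin 2) (Fin 2) F).trace ^ 2 = 4 := by
    intro g hg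
    obtain ⟨k, hk⟩ := hNp ⟨_, hg⟩
    apply nq_trace_sq_of_pow hp2 g k
    have := congrArg Subtype.val hk
    simpa using this
  rw [Subgroup.eq_bot_iff_forall]
  intro x hx
  by_contra hx1
  obtain ⟨g₀, rfl⟩ := QuotientGroup.mk_surjective x
  -- the central involution
  let c : Matrix.SpecialLinearGroup (Fin 2) F := ⟨!![-1, 0; 0, -1], by simp [Matrix.det_fin_two]⟩
  have hc1 : (QuotientGroup.mk c : Matrix.ProjectiveSpecialLinearGroup (Fin 2) F) = 1 := by
    rw [psl2_mk_eq_one_iff]
    refine ⟨-1, ?_⟩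
    ext i j
    fin_cases i <;> fin_cases j <;> simp [c]
  -- a lift with trace 2
  obtain ⟨g, hgx, hgtr⟩ : ∃ g : Matrix.SpecialLinearGroup (Fin 2) F,
      (QuotientGroup.mk g : Matrix.ProjectiveSpecialLinearGroup (Fin 2) F) = QuotientGroup.mk g₀ ∧
      (g : Matrix (Fin 2) (Fin 2) F).trace = 2 := by
    have h0 := hA g₀ hx
    have hfac : ((g₀ : Matrix (Fin 2) (Fin 2) F).trace - 2) *
        ((g₀ : Matrix (Fin 2) (Fin 2) F).trace + 2) = 0 := by
      linear_combination h0
    rcases mul_eq_zero.mp hfac with h | h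
    · exact ⟨g₀, rfl, sub_eq_zero.mp h⟩
    · refine ⟨c * g₀, ?_, ?_⟩
      · rw [QuotientGroup.mk_mul, hc1, one_mul]
      · rw [Matrix.SpecialLinearGroup.coe_mul]
        have : (g₀ : Matrix (Fin 2) (Fin 2) F).trace = -2 := by linear_combination h
        simp only [c, Matrix.trace_fin_two, Matrix.mul_apply, Fin.sum_univ_two] at this ⊢
        simp
        linear_combination -this
  have hgN : (QuotientGroup.mk g : Matrix.ProjectiveSpecialLinearGroup (Fin 2) F) ∈ N := by
    rw [hgx]; exact hx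
  have hg1 : (QuotientGroup.mk g : Matrix.ProjectiveSpecialLinearGroup (Fin 2) F) ≠ 1 := by
    rw [hgx]; exact hx1
  -- entries
  set M : Matrix (Fin 2) (Fin 2) F := (g : Matrix (Fin 2) (Fin 2) F) with hM
  have hdet : M 0 0 * M 1 1 - M 0 1 * M 1 0 = 1 := by
    have := g.2
    rw [Matrix.det_fin_two] at this
    exact this
  have htr : M 0 0 + M 1 1 = 2 := by
    have := hgtr
    rw [Matrix.trace_fin_two] at this
    exact this
  have hMeta : (g : Matrix (Fin 2) (Fin 2) F) = !![M 0 0, M 0 1; M 1 0, M 1 1] :=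
    Matrix.eta_fin_two _
  -- for every h, the element g * g * (h * g * h⁻¹) lies in N, so its trace squares to 4
  have hkey : ∀ h : Matrix.SpecialLinearGroup (Fin 2) F,
      ((g * g * (h * g * h⁻¹) : Matrix.SpecialLinearGroup (Fin 2) F) :
        Matrix (Fin 2) (Fin 2) F).trace ^ 2 = 4 := by
    intro h
    apply hA
    rw [QuotientGroup.mk_mul, QuotientGroup.mk_mul, QuotientGroup.mk_mul, QuotientGroup.mk_mul,
      QuotientGroup.mk_inv]
    exact N.mul_mem (N.mul_mem hgN hgN) (hN.conj_mem _ hgN _)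
  by_cases hγ : M 1 0 = 0
  · have h00 : M 0 0 = 1 := by
      have h1 : (M 0 0 - 1) ^ 2 = 0 := by
        have hd : M 1 1 = 2 - M 0 0 := by linear_combination htr
        rw [hγ, hd] at hdet
        linear_combination -hdet
      have := pow_eq_zero_iff (two_ne_zero) |>.mp h1
      exact sub_eq_zero.mp this
    have h11 : M 1 1 = 1 := by linear_combination htr - h00
    by_cases hβ : M 0 1 = 0
    · -- g = 1
      apply hg1
      rw [psl2_mk_eq_one_iff]
      refine ⟨1, ?_⟩
      rw [hMeta, h00, h11, hγ, hβ]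
      ext i j
      fin_cases i <;> fin_cases j <;> simp
    · -- β ≠ 0: h = [[1,0],[s,1]], s = β⁻¹
      let h : Matrix.SpecialLinearGroup (Fin 2) F := ⟨!![1, 0; (M 0 1)⁻¹, 1], by simp [Matrix.det_fin_two]⟩
      have hh : (h : Matrix (Fin 2) (Fin 2) F) = !![1, 0; (M 0 1)⁻¹, 1] := rfl
      have := hkey h
      have htr0 : ((g * g * (h * g * h⁻¹) : Matrix.SpecialLinearGroup (Fin 2) F) :
          Matrix (Fin 2) (Fin 2) F).trace = 0 := by
        simp only [Matrix.SpecialLinearGroup.coe_mul, Matrix.SpecialLinearGroup.coe_inv, hMeta, hh,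
          Matrix.adjugate_fin_two_of]
        simp only [Matrix.trace_fin_two, Matrix.mul_apply, Fin.sum_univ_two, Matrix.of_apply,
          Matrix.cons_val', Matrix.cons_val_zero, Matrix.cons_val_one, Matrix.empty_val',
          Matrix.cons_val_fin_one, Matrix.head_cons, Matrix.head_fin_const]
        rw [h00, h11, hγ]
        field_simp
        ring
      rw [htr0] at this
      apply h4ne
      rw [← this]; ring
  · -- γ ≠ 0: h = [[1,s],[0,1]], s = γ⁻¹
    let h : Matrix.SpecialLinearGroup (Fin 2) F := ⟨!![1, (M 1 0)⁻¹; 0, 1], by simp [Matrix.det_fin_two]⟩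
    have hh : (h : Matrix (Fin 2) (Fin 2) F) = !![1, (M 1 0)⁻¹; 0, 1] := rfl
    have := hkey h
    have htr0 : ((g * g * (h * g * h⁻¹) : Matrix.SpecialLinearGroup (Fin 2) F) :
        Matrix (Fin 2) (Fin 2) F).trace = 0 := by
      have hd : M 1 1 = 2 - M 0 0 := by linear_combination htr
      have hb : M 0 1 = (M 0 0 * (2 - M 0 0) - 1) / M 1 0 := by
        rw [eq_div_iff hγ]
        rw [hd] at hdet
        linear_combination -hdet
      simp only [Matrix.SpecialLinearGroup.coe_mul, Matrix.SpecialLinearGroup.coe_inv, hMeta, hh,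
        Matrix.adjugate_fin_two_of]
      simp only [Matrix.trace_fin_two, Matrix.mul_apply, Fin.sum_univ_two, Matrix.of_apply,
        Matrix.cons_val', Matrix.cons_val_zero, Matrix.cons_val_one, Matrix.empty_val',
        Matrix.cons_val_fin_one, Matrix.head_cons, Matrix.head_fin_const]
      rw [hb, hd]
      field_simp
      ring
    rw [htr0] at this
    apply h4ne
    rw [← this]; ring

end Cfsg.Agent.Lib.Helper58.NQ
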