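import Mathlib

/-!
# K-NSE3-L05b (keystone 399606, pack K-NSE3 / S3996): the abstract double pairing sum.
-/

set_option autoImplicit false

namespace Cfsg.Agent.Lib.Helper58.NSE3

/-- L05b abstract double pairing sum. -/
theorem sum_pair (N p q : ℕ) (hp : p.Prime) (hq : q.Prime) (hpq : p ≠ q) (hpN : p ∣ N)
    (hqN : q ∣ N) (hN : N ≠ 0) (f : ℕ → ℕ) (c : ℕ)
    (hsqp : ∀ k, p * p ∣ k → f k = 0) (hsqq : ∀ k, q * q ∣ k → f k = 0)
    (hpair : ∀ k, k ∣ N → ¬ p ∣ k → ¬ q ∣ k →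
      f (p * k) + f (p * q * k) = if f k = 0 then 0 else c) :
    ∑ k ∈ N.divisors.filter (fun k => p ∣ k), f k =
      c * ((N.divisors.filter (fun k => ¬ p ∣ k ∧ ¬ q ∣ k ∧ f k ≠ 0)).card) := by
  classical
  set K := N.divisors.filter (fun k => ¬ p ∣ k ∧ ¬ q ∣ k) with hK
  set A := K.image (fun k => p * k) with hA
  set B := K.image (fun k => p * q * k) with hB
  have hcop : Nat.Coprime p q := (Nat.coprime_primes hp hq).mpr hpq
  have hKmem : ∀ k, k ∈ K ↔ k ∣ N ∧ ¬ p ∣ k ∧ ¬ q ∣ k := by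
    intro k
    rw [hK, Finset.mem_filter, Nat.mem_divisors]
    constructor
    · rintro ⟨⟨h1, -⟩, h2, h3⟩; exact ⟨h1, h2, h3⟩
    · rintro ⟨h1, h2, h3⟩; exact ⟨⟨h1, hN⟩, h2, h3⟩
  have hdisj : Disjoint A B := by
    rw [Finset.disjoint_left]
    intro d hdA hdB
    obtain ⟨k, hk, rfl⟩ := Finset.mem_image.mp hdA
    obtain ⟨k', hk', hkk'⟩ := Finset.mem_image.mp hdB
    have h1 : p * (q * k') = p * k := by rw [← hkk']; ring
    have h2 : q * k' = k := Nat.eq_of_mul_eq_mul_left hp.pos h1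
    exact ((hKmem k).mp hk).2.2 ⟨k', h2.symm⟩
  have hsub : A ∪ B ⊆ N.divisors.filter (fun k => p ∣ k) := by
    intro d hd
    rw [Finset.mem_union] at hd
    rw [Finset.mem_filter, Nat.mem_divisors]
    rcases hd with hd | hd
    · obtain ⟨k, hk, rfl⟩ := Finset.mem_image.mp hd
      obtain ⟨hkN, hkp, hkq⟩ := (hKmem k).mp hk
      refine ⟨⟨?_, hN⟩, dvd_mul_right p k⟩
      exact Nat.Coprime.mul_dvd_of_dvd_of_dvd ((Nat.Prime.coprime_iff_not_dvd hp).mpr hkp) hpN hkN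
    · obtain ⟨k, hk, rfl⟩ := Finset.mem_image.mp hd
      obtain ⟨hkN, hkp, hkq⟩ := (hKmem k).mp hk
      refine ⟨⟨?_, hN⟩, ⟨q * k, by ring⟩⟩
      have h1 : (p * q).Coprime k :=
        Nat.Coprime.mul_left ((Nat.Prime.coprime_iff_not_dvd hp).mpr hkp)
          ((Nat.Prime.coprime_iff_not_dvd hq).mpr hkq)
      have h2 : p * q ∣ N := Nat.Coprime.mul_dvd_of_dvd_of_dvd hcop hpN hqN
      exact Nat.Coprime.mul_dvd_of_dvd_of_dvd h1 h2 hkN
  have hzero : ∀ d ∈ N.divisors.filter (fun k => p ∣ k), d ∉ A ∪ B → f d = 0 := by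
    intro d hd hnot
    rw [Finset.mem_filter, Nat.mem_divisors] at hd
    obtain ⟨⟨hdN, -⟩, d', rfl⟩ := hd
    by_cases hpd' : p ∣ d'
    · exact hsqp _ (Nat.mul_dvd_mul_left p hpd')
    by_cases hqd' : q ∣ d'
    · obtain ⟨d'', rfl⟩ := hqd'
      by_cases hqd'' : q ∣ d''
      · apply hsqq
        obtain ⟨e, rfl⟩ := hqd''
        exact ⟨p * e, by ring⟩
      · exfalso; apply hnot
        rw [Finset.mem_union]; right
        refine Finset.mem_image.mpr ⟨d'', (hKmem d'').mpr ⟨?_, ?_, hqd''⟩, by ring⟩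
        · exact Dvd.dvd.trans ⟨p * q, by ring⟩ hdN
        · intro h; exact hpd' (Dvd.dvd.mul_left h q)
    · exfalso; apply hnot
      rw [Finset.mem_union]; left
      exact Finset.mem_image.mpr
        ⟨d', (hKmem d').mpr ⟨Dvd.dvd.trans ⟨p, by ring⟩ hdN, hpd', hqd'⟩, rfl⟩
  rw [← Finset.sum_subset hsub hzero, Finset.sum_union hdisj]
  rw [Finset.sum_image, Finset.sum_image]
  · rw [← Finset.sum_add_distrib]
    have hval : ∀ k ∈ K, f (p * k) + f (p * q * k) = if f k = 0 then 0 else c := by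
      intro k hk
      obtain ⟨h1, h2, h3⟩ := (hKmem k).mp hk
      exact hpair k h1 h2 h3
    rw [Finset.sum_congr rfl hval, Finset.sum_ite, Finset.sum_const_zero, zero_add,
      Finset.sum_const, smul_eq_mul, mul_comm]
    congr 2
    ext k
    simp only [hK, Finset.mem_filter, and_assoc]
  · intro x _ y _ hxy
    have hpq0 : 0 < p * q := Nat.mul_pos hp.pos hq.pos
    exact Nat.eq_of_mul_eq_mul_left hpq0 hxy
  · intro x _ y _ hxy
    exact Nat.eq_of_mul_eq_mul_left hp.pos hxy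

end Cfsg.Agent.Lib.Helper58.NSE3
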