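import Mathlib

/-!
# K-OTF-NS5b core (keystone 399909, pack K-OTF / S3999): a group with the structure of a
nonsolvable Frobenius complement has 5-part 5 and exactly 24 elements of order 5.
The count in `SL(2,5)` (leaf NS5a) enters as a hypothesis.
-/

set_option autoImplicit false

namespace Cfsg.Agent.Lib.Helper58.OTF

theorem ns5b_core {C : Type*} [Group C] [Finite C]
    (hSL : Nat.card {x : Matrix.SpecialLinearGroup (Fin 2) (ZMod 5) // orderOf x = 5} = 24 ∧
      Nat.card (Matrix.SpecialLinearGroup (Fin 2) (ZMod 5)) = 120)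
    (h : ∃ G₀ : Subgroup C, G₀.Normal ∧ (G₀.index = 1 ∨ G₀.index = 2) ∧
      ∃ S M : Subgroup C, S ⊔ M = G₀ ∧ S ⊓ M = ⊥ ∧ (∀ s ∈ S, ∀ x ∈ M, s * x = x * s) ∧
        Nonempty (S ≃* Matrix.SpecialLinearGroup (Fin 2) (ZMod 5)) ∧
        (∀ (p : ℕ) [Fact p.Prime] (P : Sylow p M), IsCyclic P) ∧ (Nat.card M).Coprime 30) :
    (Nat.card C).factorization 5 = 1 ∧ Nat.card {x : C // orderOf x = 5} = 24 := by
  classical
  obtain ⟨G₀, hG₀n, hidx, S, M, hsup, hinf, hcomm, ⟨e⟩, -, hco⟩ := h
  have hp5 : Nat.Prime 5 := by norm_num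
  -- the product map
  have hcm' : ∀ (s : S) (m : M), Commute (S.subtype s) (M.subtype m) :=
    fun s m => hcomm s s.2 m m.2
  obtain ⟨f, hfdef⟩ : ∃ f : S × M →* C, f = MonoidHom.noncommCoprod S.subtype M.subtype hcm' :=
    ⟨_, rfl⟩
  have hfapp : ∀ s : S, ∀ y : M, f (s, y) = (s : C) * (y : C) := by
    intro s y; rw [hfdef]; rfl
  have hfinj : Function.Injective f := by
    rw [hfdef, MonoidHom.noncommCoprod_injective]
    refine ⟨Subtype.val_injective, Subtype.val_injective, ?_⟩
    rw [Subgroup.range_subtype, Subgroup.range_subtype, disjoint_iff, hinf]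
  have hfrange : f.range = G₀ := by
    rw [hfdef, MonoidHom.noncommCoprod_range, Subgroup.range_subtype, Subgroup.range_subtype, hsup]
  have hcardS : Nat.card S = 120 := by rw [Nat.card_congr e.toEquiv]; exact hSL.2
  have hcardG₀ : Nat.card G₀ = 120 * Nat.card M := by
    rw [← hfrange, ← hcardS, ← Nat.card_prod]
    exact (Nat.card_congr (MonoidHom.ofInjective hfinj).toEquiv).symm
  have hcardC : Nat.card C = G₀.index * (120 * Nat.card M) := by
    rw [← hcardG₀, mul_comm]; exact (Subgroup.card_mul_index G₀).symm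
  have hM5 : ¬ 5 ∣ Nat.card M := by
    intro h5
    have h1 : (5 : ℕ) ∣ Nat.gcd (Nat.card M) 30 := Nat.dvd_gcd h5 (by norm_num)
    rw [Nat.Coprime] at hco
    rw [hco] at h1
    omega
  constructor
  · have hrew : Nat.card C = 5 * (G₀.index * 24 * Nat.card M) := by rw [hcardC]; ring
    have hnd : ¬ 5 ∣ G₀.index * 24 * Nat.card M := by
      intro hd
      rcases (Nat.Prime.dvd_mul hp5).mp hd with hd1 | hd1
      · rcases (Nat.Prime.dvd_mul hp5).mp hd1 with hd2 | hd2
        · rcases hidx with h | h <;> rw [h] at hd2 <;> omega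
        · omega
      · exact hM5 hd1
    have hne : G₀.index * 24 * Nat.card M ≠ 0 := by
      intro h0; apply hnd; rw [h0]; exact dvd_zero 5
    rw [hrew, Nat.factorization_mul (by norm_num) hne, Finsupp.add_apply,
      Nat.Prime.factorization_self hp5, Nat.factorization_eq_zero_of_not_dvd hnd]
  · -- every element of order 5 lies in `S`
    have hkey : ∀ x : C, orderOf x = 5 → x ∈ S := by
      intro x hx
      have hx5 : x ^ 5 = 1 := by rw [← hx]; exact pow_orderOf_eq_one x
      have hx2 : x ^ 2 ∈ G₀ := by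
        rcases hidx with h | h
        · rw [Subgroup.index_eq_one.mp h]; exact Subgroup.mem_top _
        · exact Subgroup.sq_mem_of_index_two h x
      have hxG : x ∈ G₀ := by
        have h6 : x = (x ^ 2) ^ 3 := by
          rw [← pow_mul]
          have : x ^ (2 * 3) = x ^ 5 * x := by rw [← pow_succ]
          rw [this, hx5, one_mul]
        rw [h6]; exact G₀.pow_mem hx2 3
      rw [← hfrange] at hxG
      obtain ⟨⟨s, y⟩, hsy⟩ := hxG
      rw [hfapp] at hsy
      have hcm : Commute (s : C) (y : C) := hcomm s s.2 y y.2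
      have hpow : (s : C) ^ 5 * (y : C) ^ 5 = 1 := by
        rw [← hcm.mul_pow, hsy, hx5]
      have hs5 : (s : C) ^ 5 ∈ S ⊓ M := by
        refine ⟨S.pow_mem s.2 5, ?_⟩
        have : (s : C) ^ 5 = ((y : C) ^ 5)⁻¹ := eq_inv_of_mul_eq_one_left hpow
        rw [this]
        exact M.inv_mem (M.pow_mem y.2 5)
      rw [hinf, Subgroup.mem_bot] at hs5
      rw [hs5, one_mul] at hpow
      have hy5 : y ^ 5 = 1 := by
        apply Subtype.ext
        simpa using hpow
      have hoy : orderOf y ∣ 5 := orderOf_dvd_of_pow_eq_one hy5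
      have hoyM : orderOf y ∣ Nat.card M := orderOf_dvd_natCard y
      have hy1 : orderOf y = 1 := by
        rcases (Nat.dvd_prime hp5).mp hoy with h | h
        · exact h
        · exfalso; apply hM5; rw [← h]; exact hoyM
      have hy : y = 1 := orderOf_eq_one_iff.mp hy1
      rw [hy] at hsy
      simp only [OneMemClass.coe_one, mul_one] at hsy
      rw [← hsy]; exact s.2
    have e1 : {x : C // orderOf x = 5} ≃ {s : S // orderOf s = 5} :=
      { toFun := fun x => ⟨⟨x.1, hkey x.1 x.2⟩, by
          have := Subgroup.orderOf_coe (⟨x.1, hkey x.1 x.2⟩ : S)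
          rw [← this]; exact x.2⟩
        invFun := fun s => ⟨s.1.1, by rw [Subgroup.orderOf_coe]; exact s.2⟩
        left_inv := fun x => rfl
        right_inv := fun s => rfl }
    have e2 : {s : S // orderOf s = 5} ≃
        {t : Matrix.SpecialLinearGroup (Fin 2) (ZMod 5) // orderOf t = 5} :=
      e.toEquiv.subtypeEquiv (fun s => by
        simp only [MulEquiv.toEquiv_eq_coe, EquivLike.coe_coe, MulEquiv.orderOf_eq])
    rw [Nat.card_congr (e1.trans e2)]
    exact hSL.1

end Cfsg.Agent.Lib.Helper58.OTF
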