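import Mathlib
import Cfsg.Agent.Lib.Helper48.PSL2Basic
import Cfsg.Agent.Lib.Helper48.FinFieldQuad

set_option autoImplicit false
set_option linter.unusedSectionVars false
set_option linter.unusedVariables false

/-! K-PG2 leaf PGLb3 (S3452): `PGL₂(F)`, `F` finite, has an element of order `q + 1`. -/

namespace Cfsg.Agent.Lib.Helper58.PG2

open Matrix Cfsg.Agent.Lib.Helper48

/-- a power of `mk A` is trivial in `GL₂(F) ⧸ centre` iff the matrix power is scalar -/
theorem pglb3_mk_pow_eq_one_iff {F : Type*} [Field F] (A : Matrix.GeneralLinearGroup (Fin 2) F) (k : ℕ) :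
    ((QuotientGroup.mk A : Matrix.GeneralLinearGroup (Fin 2) F ⧸
        Subgroup.center (Matrix.GeneralLinearGroup (Fin 2) F))) ^ k = 1 ↔
      ∃ r : F, (A : Matrix (Fin 2) (Fin 2) F) ^ k = r • (1 : Matrix (Fin 2) (Fin 2) F) := by
  rw [← QuotientGroup.mk_pow, QuotientGroup.eq_one_iff,
    Matrix.GeneralLinearGroup.mem_center_iff_val_mem_range_scalar, Units.val_pow_eq_pow_val]
  constructor
  · rintro ⟨r, hr⟩
    exact ⟨r, by rw [← hr, scalar_fin_two_eq_smul_one]⟩
  · rintro ⟨r, hr⟩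
    exact ⟨r, by rw [hr, scalar_fin_two_eq_smul_one]⟩

theorem pgl2_exists_orderOf_eq_nonsplit {F : Type*} [Field F] [Fintype F] (p : ℕ) [Fact p.Prime] [CharP F p]
    (hp : p ≠ 2) : ∃ x : Matrix.GeneralLinearGroup (Fin 2) F ⧸
      Subgroup.center (Matrix.GeneralLinearGroup (Fin 2) F), orderOf x = Fintype.card F + 1 := by
  classical
  let K := FiniteField.Extension F p 2
  let φ : F →+* K := algebraMap F K
  set q := Fintype.card F with hq
  have hq2 : 2 ≤ q := Fintype.one_lt_card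
  obtain ⟨z, hz⟩ := IsCyclic.exists_ofOrder_eq_natCard (α := Kˣ)
  have hsq : q ^ 2 = (q - 1) * (q + 1) + 1 := by
    obtain ⟨c, hc⟩ : ∃ c, q = c + 1 := ⟨q - 1, by omega⟩
    rw [hc]; simp; ring
  have hcard : Nat.card Kˣ = (q - 1) * (q + 1) := by
    rw [Nat.card_units, FiniteField.natCard_extension, Nat.card_eq_fintype_card, ← hq, hsq,
      Nat.add_sub_cancel]
  have hzne : (z : K) ≠ 0 := z.ne_zero
  have hpow_iff : ∀ k : ℕ, (z : K) ^ k = 1 ↔ (q - 1) * (q + 1) ∣ k := by
    intro k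
    rw [← hcard, ← hz, orderOf_dvd_iff_pow_eq_one, ← Units.val_pow_eq_pow_val, Units.val_eq_one]
  -- z ^ (q^2) = z
  have hzqq : ((z : K) ^ q) ^ q = z := by
    rw [← pow_mul, ← pow_two, hsq, pow_succ, (hpow_iff _).mpr dvd_rfl, one_mul]
  set l : K := (z : K) with hl
  set m : K := (z : K) ^ q with hm
  have hfrob : ∀ x : K, (FiniteField.Extension.frob F p 2) x = x ^ q := by
    intro x
    rw [FiniteField.Extension.frob_apply, Nat.card_eq_fintype_card]
  have hT : (l + m) ^ q = l + m := by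
    rw [← hfrob, map_add, hfrob, hfrob, hm, hzqq, add_comm]
  have hN : (l * m) ^ q = l * m := by
    rw [← hfrob, map_mul, hfrob, hfrob, hm, hzqq, mul_comm]
  obtain ⟨t₀, ht₀⟩ := exists_algebraMap_eq_of_pow_card_eq (F := F) (l + m) hT
  obtain ⟨n₀, hn₀⟩ := exists_algebraMap_eq_of_pow_card_eq (F := F) (l * m) hN
  have hmne : m ≠ 0 := pow_ne_zero _ hzne
  have hn₀ne : n₀ ≠ 0 := by
    rintro rfl
    rw [map_zero] at hn₀
    exact mul_ne_zero hzne hmne hn₀.symm
  let C : Matrix.GeneralLinearGroup (Fin 2) F :=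
    Matrix.GeneralLinearGroup.mkOfDetNeZero !![0, -n₀; 1, t₀] (by
      simp [Matrix.det_fin_two, hn₀ne])
  have hCval : (C : Matrix (Fin 2) (Fin 2) F) = !![0, -n₀; 1, t₀] := rfl
  have hCtr : (φ.mapMatrix (C : Matrix (Fin 2) (Fin 2) F)).trace = l + m := by
    rw [trace_mapMatrix, ← ht₀, hCval]
    have : (!![0, -n₀; 1, t₀] : Matrix (Fin 2) (Fin 2) F).trace = t₀ := by
      simp [Matrix.trace_fin_two]
    rw [this]
  have hCdet : (φ.mapMatrix (C : Matrix (Fin 2) (Fin 2) F)).det = l * m := by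
    rw [det_mapMatrix, ← hn₀, hCval]
    have : (!![0, -n₀; 1, t₀] : Matrix (Fin 2) (Fin 2) F).det = n₀ := by
      simp [Matrix.det_fin_two]
    rw [this]
  have hne : l ≠ m := by
    intro h
    have h1 : (z : K) ^ (q - 1) = 1 := by
      have h2 : (z : K) ^ (q - 1) * z = 1 * z := by
        rw [← pow_succ, Nat.sub_add_cancel (by omega), one_mul]
        exact h.symm
      exact mul_right_cancel₀ hzne h2
    have h3 := (hpow_iff _).mp h1
    have h4 := Nat.le_of_dvd (by omega) h3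
    have : (q - 1) * 2 ≤ (q - 1) * (q + 1) := Nat.mul_le_mul_left _ (by omega)
    omega
  have hCns : ∀ c : K, φ.mapMatrix (C : Matrix (Fin 2) (Fin 2) F) ≠ c • (1 : Matrix (Fin 2) (Fin 2) K) := by
    apply mapMatrix_ne_smul_one
    intro r hr
    have := congrFun (congrFun hr 1) 0
    rw [hCval] at this
    simp at this
  refine ⟨QuotientGroup.mk C, orderOf_eq_of_forall_pow_eq_one_iff _ _ ?_⟩
  intro k
  rw [pglb3_mk_pow_eq_one_iff, pow_scalar_iff_map φ]
  have hkey : l ^ k = m ^ k ↔ (q + 1) ∣ k := by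
    have hqk : q * k = (q - 1) * k + k := by
      rw [← Nat.succ_mul, Nat.succ_eq_add_one, Nat.sub_add_cancel (by omega)]
    have h1 : l ^ k = m ^ k ↔ (z : K) ^ ((q - 1) * k) = 1 := by
      rw [hm, hl, ← pow_mul]
      constructor
      · intro h
        have h2 : (z : K) ^ ((q - 1) * k) * (z : K) ^ k = 1 * (z : K) ^ k := by
          rw [← pow_add, one_mul, ← hqk]
          exact h.symm
        exact mul_right_cancel₀ (pow_ne_zero _ hzne) h2
      · intro h
        rw [hqk, pow_add, h, one_mul]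
    rw [h1, hpow_iff]
    exact Nat.mul_dvd_mul_iff_left (by omega)
  rw [← hkey]
  constructor
  · rintro ⟨c, hc⟩
    obtain ⟨h1, h2⟩ := (pow_eq_smul_one_iff hne hCtr hCdet hCns k c).mp hc
    exact h1.trans h2.symm
  · intro h
    exact ⟨l ^ k, (pow_eq_smul_one_iff hne hCtr hCdet hCns k _).mpr ⟨rfl, h.symm⟩⟩

end Cfsg.Agent.Lib.Helper58.PG2
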