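import Mathlib
import Cfsg.Agent.Lib.Helper49.RSU3Defs
import Cfsg.Agent.Lib.Helper40.GUConj
import Cfsg.Agent.Lib.Helper47.RSU3L06

/-!
# K-RSU3 pack (S2283), leaf L23 (keystone 228323): Borel decomposition `g = t * X`
for `g` in `GJ 3 F q` fixing the line `<e_0>`.
-/

set_option autoImplicit false
set_option linter.unusedSectionVars false
set_option linter.unusedVariables false

namespace Cfsg.Agent.Lib.Helper58.RSU3

open Matrix Cfsg.Agent.Lib.Helper49.StSU Cfsg.Agent.Lib.Helper49.RSU3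

variable {F : Type*} [Field F] [Fintype F] {q : ℕ}

theorem l23_hJ (u v : Fin 3 → F) :
    hJ 3 F q u v = u 0 * (v 2) ^ q + u 1 * (v 1) ^ q + u 2 * (v 0) ^ q := by
  unfold hJ
  rw [Fin.sum_univ_three]
  rfl

/-- unitarity read on columns `i`, `j` -/
theorem l23_col (hq0 : q ≠ 0) (g : GJ 3 F q) (i j : Fin 3) :
    mat g 0 i * (mat g 2 j) ^ q + mat g 1 i * (mat g 1 j) ^ q + mat g 2 i * (mat g 0 j) ^ q
      = hJ 3 F q (Pi.single i 1) (Pi.single j 1) := by
  have h := hJ_mat g (Pi.single i 1) (Pi.single j 1)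
  rw [Matrix.mulVec_single_one, Matrix.mulVec_single_one, l23_hJ] at h
  exact h

theorem l23_e02 (hq0 : q ≠ 0) : hJ 3 F q (Pi.single (0 : Fin 3) 1) (Pi.single (2 : Fin 3) 1) = 1 := by
  rw [l23_hJ]
  simp [Pi.single_apply, hq0]

theorem l23_e01 (hq0 : q ≠ 0) : hJ 3 F q (Pi.single (0 : Fin 3) 1) (Pi.single (1 : Fin 3) 1) = 0 := by
  rw [l23_hJ]
  simp [Pi.single_apply, hq0]

theorem l23_e12 (hq0 : q ≠ 0) : hJ 3 F q (Pi.single (1 : Fin 3) 1) (Pi.single (2 : Fin 3) 1) = 0 := by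
  rw [l23_hJ]
  simp [Pi.single_apply, hq0]

/-- L23 -/
theorem borel_decomp (hq : 3 ≤ q) (hF : Fintype.card F = q ^ 2) (g : GJ 3 F q)
    (h10 : mat g 1 0 = 0) (h20 : mat g 2 0 = 0) :
    ∃ (t X : GJ 3 F q) (m a b : F), mat t = hM q m ∧ mat X = xM q a b ∧ g = t * X := by
  have hq0 : q ≠ 0 := by omega
  obtain ⟨φ, hφ, hφφ, -⟩ := Cfsg.Agent.Lib.Helper40.GUConj.exists_frob hF
  -- the three unitarity relations
  have r02 := l23_col hq0 g 0 2
  have r01 := l23_col hq0 g 0 1
  have r12 := l23_col hq0 g 1 2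
  rw [l23_e02 hq0] at r02
  rw [l23_e01 hq0] at r01
  rw [l23_e12 hq0] at r12
  rw [h10, h20] at r02 r01
  simp only [zero_mul, add_zero] at r02 r01
  rw [← hφ] at r02 r01
  rw [← hφ, ← hφ, ← hφ] at r12
  set m := mat g 0 0 with hm_def
  have hm : m ≠ 0 := by
    intro h0
    rw [h0, zero_mul] at r02
    exact zero_ne_one r02
  have h21 : mat g 2 1 = 0 := by
    have h1 : φ (mat g 2 1) = 0 := by
      rcases mul_eq_zero.1 r01 with h | h
      · exact absurd h hm
      · exact h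
    have h2 := congrArg φ h1
    rwa [hφφ, map_zero] at h2
  have hφm : φ m ≠ 0 := by
    intro h0
    have h2 := congrArg φ h0
    rw [hφφ, map_zero] at h2
    exact hm h2
  -- entry 2 2
  have h22 : mat g 2 2 = 1 / φ m := by
    have h1 : φ (mat g 2 2) = 1 / m := by
      field_simp
      linear_combination r02
    have h2 := congrArg φ h1
    rwa [hφφ, map_div₀, map_one] at h2
  -- determinant
  have hdet := det_mat g
  rw [Matrix.det_fin_three, h10, h20, h21, h22, ← hm_def] at hdet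
  have h11 : mat g 1 1 = φ m / m := by
    field_simp
    field_simp at hdet
    linear_combination hdet
  -- entry 1 2
  rw [h22, h11, h21] at r12
  have hφ11 : φ (φ m / m) = m / φ m := by
    rw [map_div₀, hφφ]
  have h12 : mat g 1 2 = -(φ (mat g 0 1) / m) := by
    have h1 : φ (mat g 1 2) = -(mat g 0 1 / φ m) := by
      rw [map_div₀, map_one, hφφ] at r12
      field_simp
      field_simp at r12
      linear_combination r12
    have h2 := congrArg φ h1
    rwa [hφφ, map_neg, map_div₀, hφφ] at h2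
  obtain ⟨t, ht⟩ := Cfsg.Agent.Lib.Helper47.RSU3.exists_h hF m hm
  have hprod : mat g = hM q m * xM q (mat g 0 1 / m) (mat g 0 2 / m) := by
    ext i j
    fin_cases i <;> fin_cases j <;>
      simp [hM, xM, Matrix.mul_apply, Fin.sum_univ_three, h10, h20, h21, h22, h11, h12, ← hφ,
        ← hm_def] <;> field_simp
  obtain ⟨a, b, hab⟩ : ∃ a b : F, mat g = hM q m * xM q a b := ⟨_, _, hprod⟩
  refine ⟨t, t⁻¹ * g, m, a, b, ht, ?_, ?_⟩
  · rw [mat_mul, hab, ← ht, ← Matrix.mul_assoc, mat_inv_mul, Matrix.one_mul]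
  · rw [mul_inv_cancel_left]

end Cfsg.Agent.Lib.Helper58.RSU3
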