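import Mathlib
import Cfsg.Agent.Lib.Helper73.RUDefs
import Cfsg.Agent.Lib.Helper73.RUHub
import Cfsg.Agent.Lib.Helper46.RU4C

set_option autoImplicit false
set_option linter.unusedSectionVars false
set_option linter.unusedVariables false
set_option linter.unusedSimpArgs false

/-!
# K-RU4 leaf B (S2279): the transvection `[d₋₁,[d₋₁,d₀]] = 1 + l³ c₁ φ₋₁ᵀ`, `d₋₁ = u⁻¹ v`, `d₀ = v u⁻¹`

All elements involved have the form `1 + C X P` with `C` the `n × 3` matrix of columns `c₋₁, c₀, c₁` and `P` the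
`3 × n` matrix of rows `φ₋₁, φ₀, φ₁`; `(1 + C X P)(1 + C Y P) = 1 + C (X + Y + X K Y) P` with `K = P C`.
(definitions `v4`, `c1`, `f1`, `cm1`, `dOne` are those of `Helper46.RU4C`, verbatim copies of the spec header)
-/

namespace Cfsg.Agent.Lib.Helper58.RU4x

open Matrix Cfsg.Agent.Lib.Helper73.RU Cfsg.Agent.Lib.Helper73.RUSpec Cfsg.Agent.Lib.Helper46.RU4C

section three

variable {F : Type*} [Field F]

/-- the pairing matrix -/
def Kmat (e n : F) : Matrix (Fin 3) (Fin 3) F := !![0, 0, 0; e, 0, 0; n, e, 0]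

theorem b_id_inv1 (e : F) (he : e = 1 ∨ e = -1) (l n : F) :
    (!![l, 0, 0; 0, -l, 0; 0, 0, 0] : Matrix (Fin 3) (Fin 3) F) + !![-l, 0, 0; -(l * l * e), l, 0; 0, 0, 0] +
      !![l, 0, 0; 0, -l, 0; 0, 0, 0] * Kmat e n * !![-l, 0, 0; -(l * l * e), l, 0; 0, 0, 0] = 0 := by
  rcases he with rfl | rfl <;>
  · ext i j
    fin_cases i <;> fin_cases j <;>
      simp [Kmat, Matrix.mul_apply, Fin.sum_univ_three] <;> ring

theorem b_id_inv0 (e : F) (he : e = 1 ∨ e = -1) (l n : F) :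
    (!![0, 0, 0; 0, l, 0; 0, 0, -l] : Matrix (Fin 3) (Fin 3) F) + !![0, 0, 0; 0, -l, 0; 0, -(l * l * e), l] +
      !![0, 0, 0; 0, l, 0; 0, 0, -l] * Kmat e n * !![0, 0, 0; 0, -l, 0; 0, -(l * l * e), l] = 0 := by
  rcases he with rfl | rfl <;>
  · ext i j
    fin_cases i <;> fin_cases j <;>
      simp [Kmat, Matrix.mul_apply, Fin.sum_univ_three] <;> ring

theorem b_id_S1 (e : F) (he : e = 1 ∨ e = -1) (l n : F) :
    (!![l, 0, 0; 0, -l, 0; 0, 0, 0] : Matrix (Fin 3) (Fin 3) F) + !![0, 0, 0; 0, l, 0; 0, 0, -l] +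
      !![l, 0, 0; 0, -l, 0; 0, 0, 0] * Kmat e n * !![0, 0, 0; 0, l, 0; 0, 0, -l] =
    !![l, 0, 0; 0, 0, 0; 0, 0, -l] := by
  rcases he with rfl | rfl <;>
  · ext i j
    fin_cases i <;> fin_cases j <;>
      simp [Kmat, Matrix.mul_apply, Fin.sum_univ_three] <;> ring

theorem b_id_S2 (e : F) (he : e = 1 ∨ e = -1) (l n : F) :
    (!![l, 0, 0; 0, 0, 0; 0, 0, -l] : Matrix (Fin 3) (Fin 3) F) + !![-l, 0, 0; -(l * l * e), l, 0; 0, 0, 0] +
      !![l, 0, 0; 0, 0, 0; 0, 0, -l] * Kmat e n * !![-l, 0, 0; -(l * l * e), l, 0; 0, 0, 0] =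
    !![0, 0, 0; -(l * l * e), l, 0; l * l * n + l * l * l, -(l * l * e), -l] := by
  rcases he with rfl | rfl <;>
  · ext i j
    fin_cases i <;> fin_cases j <;>
      simp [Kmat, Matrix.mul_apply, Fin.sum_univ_three] <;> ring

theorem b_id_T (e : F) (he : e = 1 ∨ e = -1) (l n : F) :
    (!![0, 0, 0; -(l * l * e), l, 0; l * l * n + l * l * l, -(l * l * e), -l] : Matrix (Fin 3) (Fin 3) F) +
      !![0, 0, 0; 0, -l, 0; 0, -(l * l * e), l] +
      !![0, 0, 0; -(l * l * e), l, 0; l * l * n + l * l * l, -(l * l * e), -l] * Kmat e n *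
        !![0, 0, 0; 0, -l, 0; 0, -(l * l * e), l] =
    !![0, 0, 0; -(l * l * e), 0, 0; l * l * n + l * l * l, -(l * l * e), 0] := by
  rcases he with rfl | rfl <;>
  · ext i j
    fin_cases i <;> fin_cases j <;>
      simp [Kmat, Matrix.mul_apply, Fin.sum_univ_three] <;> ring

theorem b_id_U1 (e : F) (he : e = 1 ∨ e = -1) (l n : F) :
    (!![0, 0, 0; 0, l, 0; 0, 0, -l] : Matrix (Fin 3) (Fin 3) F) + !![l, 0, 0; 0, -l, 0; 0, 0, 0] +
      !![0, 0, 0; 0, l, 0; 0, 0, -l] * Kmat e n * !![l, 0, 0; 0, -l, 0; 0, 0, 0] =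
    !![l, 0, 0; l * l * e, 0, 0; -(l * l * n), l * l * e, -l] := by
  rcases he with rfl | rfl <;>
  · ext i j
    fin_cases i <;> fin_cases j <;>
      simp [Kmat, Matrix.mul_apply, Fin.sum_univ_three] <;> ring

theorem b_id_U2 (e : F) (he : e = 1 ∨ e = -1) (l n : F) :
    (!![l, 0, 0; l * l * e, 0, 0; -(l * l * n), l * l * e, -l] : Matrix (Fin 3) (Fin 3) F) +
      !![0, 0, 0; 0, -l, 0; 0, -(l * l * e), l] +
      !![l, 0, 0; l * l * e, 0, 0; -(l * l * n), l * l * e, -l] * Kmat e n *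
        !![0, 0, 0; 0, -l, 0; 0, -(l * l * e), l] =
    !![l, 0, 0; l * l * e, -l, 0; -(l * l * n), l * l * e, 0] := by
  rcases he with rfl | rfl <;>
  · ext i j
    fin_cases i <;> fin_cases j <;>
      simp [Kmat, Matrix.mul_apply, Fin.sum_univ_three] <;> ring

theorem b_id_Tp (e : F) (he : e = 1 ∨ e = -1) (l n : F) :
    (!![l, 0, 0; l * l * e, -l, 0; -(l * l * n), l * l * e, 0] : Matrix (Fin 3) (Fin 3) F) +
      !![-l, 0, 0; -(l * l * e), l, 0; 0, 0, 0] +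
      !![l, 0, 0; l * l * e, -l, 0; -(l * l * n), l * l * e, 0] * Kmat e n *
        !![-l, 0, 0; -(l * l * e), l, 0; 0, 0, 0] =
    !![0, 0, 0; l * l * e, 0, 0; -(l * l * n) - l * l * l, l * l * e, 0] := by
  rcases he with rfl | rfl <;>
  · ext i j
    fin_cases i <;> fin_cases j <;>
      simp [Kmat, Matrix.mul_apply, Fin.sum_univ_three] <;> ring

theorem b_id_R1 (e : F) (he : e = 1 ∨ e = -1) (l n : F) :
    (!![l, 0, 0; 0, -l, 0; 0, 0, 0] : Matrix (Fin 3) (Fin 3) F) +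
      !![0, 0, 0; -(l * l * e), 0, 0; l * l * n + l * l * l, -(l * l * e), 0] +
      !![l, 0, 0; 0, -l, 0; 0, 0, 0] * Kmat e n *
        !![0, 0, 0; -(l * l * e), 0, 0; l * l * n + l * l * l, -(l * l * e), 0] =
    !![l, 0, 0; -(l * l * e), -l, 0; l * l * n + l * l * l, -(l * l * e), 0] := by
  rcases he with rfl | rfl <;>
  · ext i j
    fin_cases i <;> fin_cases j <;>
      simp [Kmat, Matrix.mul_apply, Fin.sum_univ_three] <;> ring

theorem b_id_R2 (e : F) (he : e = 1 ∨ e = -1) (l n : F) :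
    (!![l, 0, 0; -(l * l * e), -l, 0; l * l * n + l * l * l, -(l * l * e), 0] : Matrix (Fin 3) (Fin 3) F) +
      !![-l, 0, 0; -(l * l * e), l, 0; 0, 0, 0] +
      !![l, 0, 0; -(l * l * e), -l, 0; l * l * n + l * l * l, -(l * l * e), 0] * Kmat e n *
        !![-l, 0, 0; -(l * l * e), l, 0; 0, 0, 0] =
    !![0, 0, 0; -(l * l * e), 0, 0; l * l * n + 2 * (l * l * l), -(l * l * e), 0] := by
  rcases he with rfl | rfl <;>
  · ext i j
    fin_cases i <;> fin_cases j <;>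
      simp [Kmat, Matrix.mul_apply, Fin.sum_univ_three] <;> ring

theorem b_id_R3 (e : F) (he : e = 1 ∨ e = -1) (l n : F) :
    (!![0, 0, 0; -(l * l * e), 0, 0; l * l * n + 2 * (l * l * l), -(l * l * e), 0] : Matrix (Fin 3) (Fin 3) F) +
      !![0, 0, 0; l * l * e, 0, 0; -(l * l * n) - l * l * l, l * l * e, 0] +
      !![0, 0, 0; -(l * l * e), 0, 0; l * l * n + 2 * (l * l * l), -(l * l * e), 0] * Kmat e n *
        !![0, 0, 0; l * l * e, 0, 0; -(l * l * n) - l * l * l, l * l * e, 0] =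
    !![0, 0, 0; 0, 0, 0; l ^ 3, 0, 0] := by
  rcases he with rfl | rfl <;>
  · ext i j
    fin_cases i <;> fin_cases j <;>
      simp [Kmat, Matrix.mul_apply, Fin.sum_univ_three] <;> ring

end three

section coords

variable (m : ℕ) (F : Type*) [Field F]

/-- the columns `c₋₁, c₀, c₁` -/
def CC : Matrix (Fin (m + 3)) (Fin 3) F :=
  Matrix.of fun i k => ![cm1 m F i, (Pi.single (Fin.last (m + 2)) 1 : Fin (m + 3) → F) i, c1 m F i] k

/-- the rows `φ₋₁, φ₀, φ₁` -/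
def PP (φ : Fin (m + 3) → F) : Matrix (Fin 3) (Fin (m + 3)) F :=
  Matrix.of fun k j => ![f1 m F j, (Pi.single 0 1 : Fin (m + 3) → F) j, φ j] k

/-- `1 + C X P` -/
def WW (φ : Fin (m + 3) → F) (X : Matrix (Fin 3) (Fin 3) F) : Matrix (Fin (m + 3)) (Fin (m + 3)) F :=
  1 + CC m F * X * PP m F φ

variable {m F}

theorem WW_mul (φ : Fin (m + 3) → F) (X Y : Matrix (Fin 3) (Fin 3) F) :
    WW m F φ X * WW m F φ Y = WW m F φ (X + Y + X * (PP m F φ * CC m F) * Y) := by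
  unfold WW
  simp only [Matrix.mul_add, Matrix.add_mul, Matrix.mul_one, Matrix.one_mul, Matrix.mul_assoc]
  abel

theorem WW_zero (φ : Fin (m + 3) → F) : WW m F φ 0 = 1 := by
  unfold WW
  simp

theorem CXP_apply (φ : Fin (m + 3) → F) (X : Matrix (Fin 3) (Fin 3) F) (i j : Fin (m + 3)) :
    (CC m F * X * PP m F φ) i j =
      (cm1 m F i * X 0 0 + (Pi.single (Fin.last (m + 2)) 1 : Fin (m + 3) → F) i * X 1 0 + c1 m F i * X 2 0) * f1 m F j +
      (cm1 m F i * X 0 1 + (Pi.single (Fin.last (m + 2)) 1 : Fin (m + 3) → F) i * X 1 1 + c1 m F i * X 2 1) *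
        (Pi.single 0 1 : Fin (m + 3) → F) j +
      (cm1 m F i * X 0 2 + (Pi.single (Fin.last (m + 2)) 1 : Fin (m + 3) → F) i * X 1 2 + c1 m F i * X 2 2) * φ j := by
  simp only [Matrix.mul_apply, Fin.sum_univ_three, CC, PP, Matrix.of_apply, Matrix.cons_val_zero,
    Matrix.cons_val_one, Matrix.cons_val_two, Matrix.head_cons, Matrix.tail_cons]

theorem PP_mul_CC (φ : Fin (m + 3) → F) :
    PP m F φ * CC m F =
      !![f1 m F ⬝ᵥ cm1 m F, f1 m F ⬝ᵥ (Pi.single (Fin.last (m + 2)) 1 : Fin (m + 3) → F), f1 m F ⬝ᵥ c1 m F;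
         (Pi.single 0 1 : Fin (m + 3) → F) ⬝ᵥ cm1 m F,
           (Pi.single 0 1 : Fin (m + 3) → F) ⬝ᵥ (Pi.single (Fin.last (m + 2)) 1 : Fin (m + 3) → F),
           (Pi.single 0 1 : Fin (m + 3) → F) ⬝ᵥ c1 m F;
         φ ⬝ᵥ cm1 m F, φ ⬝ᵥ (Pi.single (Fin.last (m + 2)) 1 : Fin (m + 3) → F), φ ⬝ᵥ c1 m F] := by
  ext k l
  fin_cases k <;> fin_cases l <;>
    simp [Matrix.mul_apply, dotProduct, PP, CC]

end coords

theorem tv_mem {m : ℕ} {F : Type*} [Field F] (hm : 1 ≤ m)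
    {G : Subgroup (SpecialLinearGroup (Fin (m + 3)) F)} (l : F)
    (ha : InG G (aMat m F)) (hv : InG G (v4 m F l)) :
    InG G (tvm (l ^ 3 • c1 m F) (f1 m F)) := by
  have hdet : IsUnit (aMat m F).det := by
    rw [det_aMat]; exact isUnit_one
  set φ : Fin (m + 3) → F := (Pi.single 0 1 : Fin (m + 3) → F) ᵥ* (aMat m F)⁻¹ with hφdef
  have hφ : φ ᵥ* aMat m F = Pi.single 0 1 := by
    rw [hφdef, Matrix.vecMul_vecMul, Matrix.nonsing_inv_mul _ hdet, Matrix.vecMul_one]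
  -- index facts
  have hl0 : (Fin.last (m + 2) : Fin (m + 3)) ≠ 0 := by
    intro h; have := congrArg Fin.val h; simp at this
  have hl1 : (Fin.last (m + 2) : Fin (m + 3)) ≠ 1 := by
    intro h; have := congrArg Fin.val h; simp at this
  have hp0 : (⟨m + 1, by omega⟩ : Fin (m + 3)) ≠ 0 := by
    intro h; have := congrArg Fin.val h; simp at this
  have hp1 : (⟨m + 1, by omega⟩ : Fin (m + 3)) ≠ 1 := by
    intro h; have := congrArg Fin.val h; simp at this; omega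
  have hc10 : c1 m F 0 = 0 := by
    unfold c1 pen
    simp [Pi.single_apply, hl0.symm, hp0.symm]
  have hc11 : c1 m F 1 = 0 := by
    unfold c1 pen
    simp [Pi.single_apply, hl1.symm, hp1.symm]
  -- the pairings
  set e : F := cm1 m F 0 with hedef
  set n : F := φ ⬝ᵥ cm1 m F with hndef
  have he : e = 1 ∨ e = -1 := by
    rw [hedef]
    unfold cm1
    exact neg_one_pow_eq_or F _
  have k00 : f1 m F ⬝ᵥ cm1 m F = 0 := by
    rw [← e0_vecMul_aMat, ← dotProduct_mulVec, aMat_mulVec_cm1, single_dotProduct, one_mul,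
      Pi.single_apply, if_neg hl0.symm]
  have k01 : f1 m F ⬝ᵥ (Pi.single (Fin.last (m + 2)) 1 : Fin (m + 3) → F) = 0 := by
    rw [← e0_vecMul_aMat, ← dotProduct_mulVec, aMat_mulVec_last, single_dotProduct, one_mul, hc10]
  have k02 : f1 m F ⬝ᵥ c1 m F = 0 := by
    unfold f1
    rw [add_dotProduct, single_dotProduct, single_dotProduct, one_mul, one_mul, hc10, hc11, add_zero]
  have k10 : (Pi.single 0 1 : Fin (m + 3) → F) ⬝ᵥ cm1 m F = e := by
    rw [single_dotProduct, one_mul]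
  have k11 : (Pi.single 0 1 : Fin (m + 3) → F) ⬝ᵥ (Pi.single (Fin.last (m + 2)) 1 : Fin (m + 3) → F) = 0 := by
    rw [single_dotProduct, one_mul, Pi.single_apply, if_neg hl0.symm]
  have k12 : (Pi.single 0 1 : Fin (m + 3) → F) ⬝ᵥ c1 m F = 0 := by
    rw [single_dotProduct, one_mul, hc10]
  have k21 : φ ⬝ᵥ (Pi.single (Fin.last (m + 2)) 1 : Fin (m + 3) → F) = e := by
    rw [← aMat_mulVec_cm1, dotProduct_mulVec, hφ, k10]
  have k22 : φ ⬝ᵥ c1 m F = 0 := by
    rw [← aMat_mulVec_last, dotProduct_mulVec, hφ, k11]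
  have hK : PP m F φ * CC m F = Kmat e n := by
    rw [PP_mul_CC, k00, k01, k02, k10, k11, k12, k21, k22]
    rfl
  -- the two generators
  have hE1 : WW m F φ !![l, 0, 0; 0, -l, 0; 0, 0, 0] = dOne m F l := by
    unfold WW dOne
    congr 1
    ext i j
    rw [CXP_apply]
    simp [vecMulVec_apply]
    ring
  have hE0 : WW m F φ !![0, 0, 0; 0, l, 0; 0, 0, -l] =
      1 + l • (vecMulVec (Pi.single (Fin.last (m + 2)) 1 : Fin (m + 3) → F) (Pi.single 0 1) -
        vecMulVec (c1 m F) φ) := by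
    unfold WW
    congr 1
    ext i j
    rw [CXP_apply]
    simp [vecMulVec_apply]
    ring
  have hEZ : WW m F φ !![0, 0, 0; 0, 0, 0; l ^ 3, 0, 0] = tvm (l ^ 3 • c1 m F) (f1 m F) := by
    unfold WW tvm
    congr 1
    ext i j
    rw [CXP_apply]
    simp [vecMulVec_apply, -mul_eq_mul_right_iff, -mul_eq_mul_left_iff] <;> ring
  have hD1 : InG G (WW m F φ !![l, 0, 0; 0, -l, 0; 0, 0, 0]) := by
    rw [hE1]
    apply inG_of_mul_left ha
    rw [aMat_mul_dOne]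
    exact hv
  have hD0 : InG G (WW m F φ !![0, 0, 0; 0, l, 0; 0, 0, -l]) := by
    rw [hE0]
    apply inG_of_mul_right ha
    have : (1 + l • (vecMulVec (Pi.single (Fin.last (m + 2)) 1 : Fin (m + 3) → F) (Pi.single 0 1) -
        vecMulVec (c1 m F) φ)) * aMat m F = v4 m F l := by
      rw [← aMat_mul_dOne]
      unfold dOne
      rw [Matrix.add_mul, Matrix.one_mul, Matrix.smul_mul, Matrix.sub_mul, vecMulVec_mul, vecMulVec_mul,
        e0_vecMul_aMat, hφ, Matrix.mul_add, Matrix.mul_one, Matrix.mul_smul, Matrix.mul_sub,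
        mul_vecMulVec, mul_vecMulVec, aMat_mulVec_cm1, aMat_mulVec_last]
    rw [this]
    exact hv
  -- inverses
  have hD1' : InG G (WW m F φ !![-l, 0, 0; -(l * l * e), l, 0; 0, 0, 0]) := by
    apply inG_of_mul_eq_one hD1
    rw [WW_mul, hK, b_id_inv1 e he l n, WW_zero]
  have hD0' : InG G (WW m F φ !![0, 0, 0; 0, -l, 0; 0, -(l * l * e), l]) := by
    apply inG_of_mul_eq_one hD0
    rw [WW_mul, hK, b_id_inv0 e he l n, WW_zero]
  -- [D1, D0]
  have hS1 := inG_mul hD1 hD0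
  rw [WW_mul, hK, b_id_S1 e he l n] at hS1
  have hS2 := inG_mul hS1 hD1'
  rw [WW_mul, hK, b_id_S2 e he l n] at hS2
  have hT := inG_mul hS2 hD0'
  rw [WW_mul, hK, b_id_T e he l n] at hT
  -- its inverse [D0, D1]
  have hU1 := inG_mul hD0 hD1
  rw [WW_mul, hK, b_id_U1 e he l n] at hU1
  have hU2 := inG_mul hU1 hD0'
  rw [WW_mul, hK, b_id_U2 e he l n] at hU2
  have hTp := inG_mul hU2 hD1'
  rw [WW_mul, hK, b_id_Tp e he l n] at hTp
  -- [D1, [D1, D0]]
  have hR1 := inG_mul hD1 hT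
  rw [WW_mul, hK, b_id_R1 e he l n] at hR1
  have hR2 := inG_mul hR1 hD1'
  rw [WW_mul, hK, b_id_R2 e he l n] at hR2
  have hR3 := inG_mul hR2 hTp
  rw [WW_mul, hK, b_id_R3 e he l n, hEZ] at hR3
  exact hR3

end Cfsg.Agent.Lib.Helper58.RU4x
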