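import Mathlib
import Cfsg.Prelude.Def_JordanBlocks

/-!
# K-SPC-D5 (keystone 267630) `isConj_of_map_eq`: Jordan type matrices with the same multiset of
block sizes are conjugate (permute the blocks).
-/

set_option autoImplicit false

namespace Cfsg.Agent.Lib.Helper58.SPC

open Matrix

variable {F : Type*} [Field F]

/-- two families with the same multiset of values differ by a bijection of the index sets -/
theorem exists_equiv_of_map_eq {t t' : ℕ} (d : Fin t → ℕ) (d' : Fin t' → ℕ)
    (h : Multiset.map d Finset.univ.val = Multiset.map d' Finset.univ.val) :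
    ∃ σ : Fin t ≃ Fin t', ∀ k, d' (σ k) = d k := by
  have hc : ∀ c : ℕ, Fintype.card {k : Fin t // d k = c} = Fintype.card {k : Fin t' // d' k = c} := by
    intro c
    have h1 := congrArg (Multiset.count c) h
    rw [Multiset.count_map, Multiset.count_map] at h1
    rw [Fintype.card_subtype, Fintype.card_subtype]
    have e1 : (Finset.univ.filter fun k : Fin t => d k = c).card =
        Multiset.card (Multiset.filter (fun a => c = d a) Finset.univ.val) := by
      rw [← Finset.filter_val, Finset.card_def]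
      congr 2
      ext k
      simp [eq_comm]
    have e2 : (Finset.univ.filter fun k : Fin t' => d' k = c).card =
        Multiset.card (Multiset.filter (fun a => c = d' a) Finset.univ.val) := by
      rw [← Finset.filter_val, Finset.card_def]
      congr 2
      ext k
      simp [eq_comm]
    rw [e1, e2, h1]
  refine ⟨Equiv.ofFiberEquiv (f := d) (g := d') (fun c => Fintype.equivOfCardEq (hc c)), ?_⟩
  intro k
  exact Equiv.ofFiberEquiv_map _ k

theorem jordanBlock_apply_eq {k k' : ℕ} (i j : Fin k) (i' j' : Fin k')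
    (hi : (i : ℕ) = i') (hj : (j : ℕ) = j') :
    Cfsg.jordanBlock k F i j = Cfsg.jordanBlock k' F i' j' := by
  simp only [Cfsg.jordanBlock, Matrix.of_apply, hi, hj]

/-- LEAF D5 (same block sizes ⇒ conjugate: permute the blocks). -/
theorem isConj_of_map_eq {ι : Type*} [Fintype ι] [DecidableEq ι] {t t' : ℕ} (d : Fin t → ℕ)
    (d' : Fin t' → ℕ) (e : ((k : Fin t) × Fin (d k)) ≃ ι) (e' : ((k : Fin t') × Fin (d' k)) ≃ ι)
    (h : Multiset.map d Finset.univ.val = Multiset.map d' Finset.univ.val) :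
    IsConj (Matrix.reindex e e (Cfsg.jordanTypeMatrix d F))
      (Matrix.reindex e' e' (Cfsg.jordanTypeMatrix d' F)) := by
  obtain ⟨σ, hσ⟩ := exists_equiv_of_map_eq d d' h
  -- the induced bijection of the index sets
  let S : ((k : Fin t) × Fin (d k)) ≃ ((k : Fin t') × Fin (d' k)) :=
    Equiv.sigmaCongr σ (fun k => finCongr (hσ k).symm)
  have hS1 : ∀ a, (S a).1 = σ a.1 := fun a => rfl
  have hS2 : ∀ a, ((S a).2 : ℕ) = (a.2 : ℕ) := fun a => rfl
  have hJ : ∀ a b, Cfsg.jordanTypeMatrix d' F (S a) (S b) = Cfsg.jordanTypeMatrix d F a b := by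
    intro a b
    obtain ⟨k, i⟩ := a
    obtain ⟨l, j⟩ := b
    have hSa : S ⟨k, i⟩ = ⟨σ k, finCongr (hσ k).symm i⟩ := rfl
    have hSb : S ⟨l, j⟩ = ⟨σ l, finCongr (hσ l).symm j⟩ := rfl
    rw [hSa, hSb]
    unfold Cfsg.jordanTypeMatrix
    rw [Matrix.blockDiagonal'_apply, Matrix.blockDiagonal'_apply]
    by_cases hkl : k = l
    · subst hkl
      rw [dif_pos rfl, dif_pos rfl]
      apply jordanBlock_apply_eq <;> simp
    · have hσkl : σ k ≠ σ l := fun h' => hkl (σ.injective h')
      rw [dif_neg hkl, dif_neg hσkl]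
  let τ : ι ≃ ι := (e.symm.trans S).trans e'
  have hτ : ∀ a b, Matrix.reindex e' e' (Cfsg.jordanTypeMatrix d' F) (τ a) (τ b) =
      Matrix.reindex e e (Cfsg.jordanTypeMatrix d F) a b := by
    intro a b
    simp only [Matrix.reindex_apply, Matrix.submatrix_apply, τ, Equiv.trans_apply,
      Equiv.symm_apply_apply]
    exact hJ _ _
  set A := Matrix.reindex e e (Cfsg.jordanTypeMatrix d F) with hA
  set A' := Matrix.reindex e' e' (Cfsg.jordanTypeMatrix d' F) with hA'
  let Q : Matrix ι ι F := τ.symm.toPEquiv.toMatrix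
  let Q' : Matrix ι ι F := τ.toPEquiv.toMatrix
  have hQQ' : Q * Q' = 1 := by
    simp only [Q, Q']
    rw [← PEquiv.toMatrix_trans, ← Equiv.toPEquiv_trans, Equiv.symm_trans_self,
      Equiv.toPEquiv_refl, PEquiv.toMatrix_refl]
  have hQ'Q : Q' * Q = 1 := by
    simp only [Q, Q']
    rw [← PEquiv.toMatrix_trans, ← Equiv.toPEquiv_trans, Equiv.self_trans_symm,
      Equiv.toPEquiv_refl, PEquiv.toMatrix_refl]
  refine ⟨⟨Q, Q', hQQ', hQ'Q⟩, ?_⟩
  show Q * A = A' * Q
  simp only [Q]
  rw [PEquiv.toMatrix_toPEquiv_mul, PEquiv.mul_toMatrix_toPEquiv]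
  ext a b
  simp only [Matrix.submatrix_apply, id_eq, Equiv.symm_symm]
  have := hτ (τ.symm a) b
  rw [Equiv.apply_symm_apply] at this
  exact this.symm

end Cfsg.Agent.Lib.Helper58.SPC
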