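import Mathlib
import Cfsg.Agent.Lib.Helper69.StNDefs

/-!
# K-StN (S2401), leaf G1 (keystone 240117): `bruhat_step`, the rank one exchange
-/

set_option autoImplicit false

namespace Cfsg.Agent.Lib.Helper58.StN

open Cfsg.Agent.Lib.Helper69.StN

variable {n : ℕ} {K : Type*} [Field K] {S : Type*} [Group S] {X : Fin n → Fin n → K → S}

/-- moving a root element through a monomial element -/
lemma g1_move {m : S} {σ : Equiv.Perm (Fin n)} {d : Fin n → K} (hm : Acts X m σ d) {p q : Fin n}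
    (hpq : p ≠ q) (s : K) : ∃ s' : K, X p q s * m = m * X (σ⁻¹ p) (σ⁻¹ q) s' := by
  have h := (Acts.inv hm).2 p q hpq s
  refine ⟨(d (σ⁻¹ p))⁻¹ * s * ((d (σ⁻¹ q))⁻¹)⁻¹, ?_⟩
  have e : X p q s * m = m * (m⁻¹ * X p q s * m⁻¹⁻¹) := by group
  rw [e, h]

/-- CASE A: the pair `(a, b)` stays positive under `m⁻¹`. -/
lemma g1_caseA (hX : IsSt X) {a b : Fin n} (hab : a < b) {m : S} (hm : m ∈ Nmon X)
    {σ : Equiv.Perm (Fin n)} {d : Fin n → K} (hact : Acts X m σ d) (hlt : σ⁻¹ a < σ⁻¹ b) (t c : K) :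
    ∃ u ∈ Upos X, ∃ m' ∈ Nmon X, ∃ u' ∈ Upos X, X b a t * X a b c * m = u * m' * u' := by
  have hne : a ≠ b := hab.ne
  by_cases ht : t = 0
  · subst ht
    obtain ⟨s', hs'⟩ := g1_move hact hne c
    refine ⟨1, one_mem _, m, hm, X (σ⁻¹ a) (σ⁻¹ b) s', X_mem_Upos X hlt s', ?_⟩
    rw [hX.zero hne.symm, one_mul, hs', one_mul]
  · obtain ⟨s', hs'⟩ := g1_move hact hne (t⁻¹ + c)
    refine ⟨X a b t⁻¹, X_mem_Upos X hab _, w X a b (-t⁻¹) * m,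
      mul_mem (w_mem_Nmon X hne (neg_ne_zero.mpr (inv_ne_zero ht))) hm,
      X (σ⁻¹ a) (σ⁻¹ b) s', X_mem_Upos X hlt s', ?_⟩
    rw [hX.neg_root_eq hne t]
    calc X a b t⁻¹ * w X a b (-t⁻¹) * X a b t⁻¹ * X a b c * m
        = X a b t⁻¹ * w X a b (-t⁻¹) * ((X a b t⁻¹ * X a b c) * m) := by group
      _ = X a b t⁻¹ * w X a b (-t⁻¹) * (m * X (σ⁻¹ a) (σ⁻¹ b) s') := by
          rw [hX.add a b hne, hs']
      _ = X a b t⁻¹ * (w X a b (-t⁻¹) * m) * X (σ⁻¹ a) (σ⁻¹ b) s' := by group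

/-- CASE B with `c = 0`: the negative root element moves to a positive one. -/
lemma g1_caseB0 {a b : Fin n} (hne : a ≠ b) {m : S} (hm : m ∈ Nmon X)
    {σ : Equiv.Perm (Fin n)} {d : Fin n → K} (hact : Acts X m σ d) (hlt : σ⁻¹ b < σ⁻¹ a) (t : K) :
    ∃ u ∈ Upos X, ∃ m' ∈ Nmon X, ∃ u' ∈ Upos X, X b a t * m = u * m' * u' := by
  obtain ⟨s', hs'⟩ := g1_move hact hne.symm t
  exact ⟨1, one_mem _, m, hm, X (σ⁻¹ b) (σ⁻¹ a) s', X_mem_Upos X hlt s', by rw [hs', one_mul]⟩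

/-- a negative simple root element times a monomial element. -/
lemma g1_stepC (hX : IsSt X) (hN : HasActsN X) {a b : Fin n} (hab : a < b) {m : S}
    (hm : m ∈ Nmon X) (t : K) :
    ∃ u ∈ Upos X, ∃ m' ∈ Nmon X, ∃ u' ∈ Upos X, X b a t * m = u * m' * u' := by
  obtain ⟨σ, d, hact⟩ := hN m hm
  have hne : a ≠ b := hab.ne
  have hne' : σ⁻¹ a ≠ σ⁻¹ b := fun e => hne (σ⁻¹.injective e)
  rcases lt_or_gt_of_ne hne' with hlt | hlt
  · obtain ⟨u, hu, m', hm', u', hu', h⟩ := g1_caseA hX hab hm hact hlt t 0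
    rw [hX.zero hne, mul_one] at h
    exact ⟨u, hu, m', hm', u', hu', h⟩
  · exact g1_caseB0 hne hm hact hlt t

/-- KEYSTONE 240117  K-StN-G1. -/
theorem bruhat_step (hX : IsSt X) (hN : HasActsN X) {a b : Fin n} (hab : b.val = a.val + 1)
    {m : S} (hm : m ∈ Nmon X) (t c : K) :
    ∃ u ∈ Upos X, ∃ m' ∈ Nmon X, ∃ u' ∈ Upos X, X b a t * X a b c * m = u * m' * u' := by
  have hlt : a < b := by
    rw [Fin.lt_def]; omega
  have hne : a ≠ b := hlt.ne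
  obtain ⟨σ, d, hact⟩ := hN m hm
  have hne' : σ⁻¹ a ≠ σ⁻¹ b := fun e => hne (σ⁻¹.injective e)
  rcases lt_or_gt_of_ne hne' with h1 | h1
  · exact g1_caseA hX hlt hm hact h1 t c
  · by_cases hc : c = 0
    · subst hc
      rw [hX.zero hne, mul_one]
      exact g1_caseB0 hne hm hact h1 t
    · obtain ⟨s', hs'⟩ := g1_move hact hne.symm c⁻¹
      have hm₂ : w X b a (-c⁻¹) * m ∈ Nmon X :=
        mul_mem (w_mem_Nmon X hne.symm (neg_ne_zero.mpr (inv_ne_zero hc))) hm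
      obtain ⟨u, hu, m', hm', u', hu', h⟩ := g1_stepC hX hN hlt hm₂ (t + c⁻¹)
      refine ⟨u, hu, m', hm', u' * X (σ⁻¹ b) (σ⁻¹ a) s',
        mul_mem hu' (X_mem_Upos X h1 s'), ?_⟩
      rw [hX.neg_root_eq hne.symm c]
      calc X b a t * (X b a c⁻¹ * w X b a (-c⁻¹) * X b a c⁻¹) * m
          = (X b a t * X b a c⁻¹) * w X b a (-c⁻¹) * (X b a c⁻¹ * m) := by group
        _ = X b a (t + c⁻¹) * w X b a (-c⁻¹) * (m * X (σ⁻¹ b) (σ⁻¹ a) s') := by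
            rw [hX.add b a hne.symm, hs']
        _ = (X b a (t + c⁻¹) * (w X b a (-c⁻¹) * m)) * X (σ⁻¹ b) (σ⁻¹ a) s' := by group
        _ = (u * m' * u') * X (σ⁻¹ b) (σ⁻¹ a) s' := by rw [h]
        _ = u * m' * (u' * X (σ⁻¹ b) (σ⁻¹ a) s') := by group

end Cfsg.Agent.Lib.Helper58.StN
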