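import Mathlib
import Cfsg.Agent.Lib.Helper69.StNDefs
import Cfsg.Agent.S2530

/-!
# K-StN (S2401), leaf H2 (keystone 240123): `Nmon_ker_le_Htor`

A monomial element in the kernel of `φ` lies in the torus: the Weyl group `Nmon / Htor` receives a
homomorphism from `Perm (Fin (k+1))` by the Coxeter presentation (S2530).
-/

set_option autoImplicit false

namespace Cfsg.Agent.Lib.Helper58.StN

open Cfsg.Agent.Lib.Helper69.StN Matrix

variable {K : Type*} [Field K] {S : Type*} [Group S]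
variable {k : ℕ} {Y : Fin (k + 1) → Fin (k + 1) → K → S}

/-- the word in the lifts of the simple reflections, as an element of `Nmon Y` -/
def wordN (Y : Fin (k + 1) → Fin (k + 1) → K → S) (l : List (Fin k)) : ↥(Nmon Y) :=
  (l.map (fun a => (⟨sS Y a, sS_mem_Nmon Y a⟩ : ↥(Nmon Y)))).prod

theorem wordN_nil : wordN Y [] = 1 := by simp [wordN]

theorem wordN_cons (a : Fin k) (l : List (Fin k)) :
    wordN Y (a :: l) = ⟨sS Y a, sS_mem_Nmon Y a⟩ * wordN Y l := by simp [wordN]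

theorem coe_wordN (l : List (Fin k)) : ((wordN Y l : ↥(Nmon Y)) : S) = (l.map (sS Y)).prod := by
  induction l with
  | nil => simp [wordN]
  | cons a l ih =>
    rw [wordN_cons, Subgroup.coe_mul, ih, List.map_cons, List.prod_cons]

/-- KEYSTONE 240123  K-StN-H2. -/
theorem Nmon_ker_le_Htor (hX : IsSt Y) (hA : HasActsW Y)
    (hconj : ∀ {m h : S}, m ∈ Nmon Y → h ∈ Htor Y → m * h * m⁻¹ ∈ Htor Y)
    (hword : ∀ m ∈ Nmon Y, ∃ h ∈ Htor Y, ∃ l : List (Fin k), m = h * (l.map (sS Y)).prod)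
    (hcox : ∀ a b : Fin k, (sS Y a * sS Y b) ^ ((CoxeterMatrix.A k).M a b) ∈ Htor Y)
    (hHacts : ∀ {h : S}, h ∈ Htor Y → ∃ d, Acts Y h 1 d)
    {φ : S →* SpecialLinearGroup (Fin (k + 1)) K}
    (hperm : ∀ {g : S} {σ : Equiv.Perm (Fin (k + 1))} {d : Fin (k + 1) → K}, Acts Y g σ d → φ g = 1 → σ = 1)
    {m : S} (hm : m ∈ Nmon Y) (h1 : φ m = 1) : m ∈ Htor Y := by
  classical
  -- the torus is normal in the monomial group
  have hHn : ((Htor Y).subgroupOf (Nmon Y)).Normal := by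
    constructor
    intro h hh g
    rw [Subgroup.mem_subgroupOf] at hh ⊢
    have := hconj g.2 hh
    simpa using this
  -- the images of the simple reflections satisfy the Coxeter relations in the quotient
  let f : Fin k → ↥(Nmon Y) ⧸ (Htor Y).subgroupOf (Nmon Y) := fun a =>
    QuotientGroup.mk (⟨sS Y a, sS_mem_Nmon Y a⟩ : ↥(Nmon Y))
  have hf : (CoxeterMatrix.A k).IsLiftable f := by
    intro a b
    have e : (f a * f b) ^ ((CoxeterMatrix.A k).M a b) =
        QuotientGroup.mk (((⟨sS Y a, sS_mem_Nmon Y a⟩ : ↥(Nmon Y)) * ⟨sS Y b, sS_mem_Nmon Y b⟩) ^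
          ((CoxeterMatrix.A k).M a b)) := rfl
    show (f a * f b) ^ ((CoxeterMatrix.A k).M a b) = 1
    rw [e, QuotientGroup.eq_one_iff, Subgroup.mem_subgroupOf]
    simpa using hcox a b
  obtain ⟨cs, hcs⟩ := Cfsg.Agent.S2530.result k
  let ψ : Equiv.Perm (Fin (k + 1)) →* ↥(Nmon Y) ⧸ (Htor Y).subgroupOf (Nmon Y) := cs.lift ⟨f, hf⟩
  have hψ : ∀ a, ψ (cs.simple a) = f a := fun a => cs.lift_apply_simple hf a
  -- (i) every permutation is realized, modulo the torus, by a monomial element acting through it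
  have key : ∀ τ : Equiv.Perm (Fin (k + 1)), ∃ m₁ : ↥(Nmon Y), ∃ d : Fin (k + 1) → K,
      (QuotientGroup.mk m₁ : ↥(Nmon Y) ⧸ (Htor Y).subgroupOf (Nmon Y)) = ψ τ ∧
        Acts Y (m₁ : S) τ d := by
    intro τ
    apply cs.simple_induction_left τ
    · exact ⟨1, fun _ => 1, by simp, Acts.one Y⟩
    · rintro w a ⟨m₁, d, hm₁, hact⟩
      have hne : a.castSucc ≠ a.succ := (Fin.castSucc_lt_succ (i := a)).ne
      have h1 : Acts Y (sS Y a) (Equiv.swap a.castSucc a.succ) (dW a.castSucc a.succ 1) :=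
        hA _ _ hne 1 one_ne_zero
      have h2 := Acts.mul h1 hact
      refine ⟨⟨sS Y a, sS_mem_Nmon Y a⟩ * m₁,
        (fun k' => dW a.castSucc a.succ (1 : K) (w k') * d k'), ?_, ?_⟩
      · rw [map_mul, hψ, ← hm₁]
        rfl
      · rw [hcs a]
        exact h2
  -- (ii) words
  have hwordmk : ∀ l : List (Fin k),
      (QuotientGroup.mk (wordN Y l) : ↥(Nmon Y) ⧸ (Htor Y).subgroupOf (Nmon Y)) =
        ψ (cs.wordProd l) := by
    intro l
    induction l with
    | nil => rw [wordN_nil, cs.wordProd_nil, map_one]; rfl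
    | cons a l ih =>
      rw [wordN_cons, cs.wordProd_cons, map_mul, hψ, ← ih]
      rfl
  obtain ⟨h, hh, l, hml⟩ := hword m hm
  obtain ⟨m₁, d, hm₁, hact⟩ := key (cs.wordProd l)
  have hq : (QuotientGroup.mk m₁ : ↥(Nmon Y) ⧸ (Htor Y).subgroupOf (Nmon Y)) =
      QuotientGroup.mk (wordN Y l) := by rw [hm₁, hwordmk]
  have hmem : m₁⁻¹ * wordN Y l ∈ (Htor Y).subgroupOf (Nmon Y) := QuotientGroup.eq.mp hq
  rw [Subgroup.mem_subgroupOf] at hmem
  have hmem' : (m₁ : S)⁻¹ * (l.map (sS Y)).prod ∈ Htor Y := by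
    have := hmem
    rw [Subgroup.coe_mul, Subgroup.coe_inv, coe_wordN] at this
    exact this
  obtain ⟨d₁, hact₁⟩ := hHacts hh
  obtain ⟨d₂, hact₂⟩ := hHacts hmem'
  have hmeq : m = h * (m₁ : S) * ((m₁ : S)⁻¹ * (l.map (sS Y)).prod) := by
    rw [hml]; group
  have hactm := Acts.mul (Acts.mul hact₁ hact) hact₂
  rw [← hmeq] at hactm
  have hτ := hperm hactm h1
  have hτ1 : cs.wordProd l = 1 := by simpa using hτ
  -- so the word is in the torus
  have hw1 : (QuotientGroup.mk (wordN Y l) : ↥(Nmon Y) ⧸ (Htor Y).subgroupOf (Nmon Y)) = 1 := by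
    rw [hwordmk, hτ1, map_one]
  rw [QuotientGroup.eq_one_iff, Subgroup.mem_subgroupOf, coe_wordN] at hw1
  rw [hml]
  exact (Htor Y).mul_mem hh hw1

end Cfsg.Agent.Lib.Helper58.StN
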