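import Mathlib
import Cfsg.Agent.Lib.Helper13.Wielandt
import Cfsg.Agent.Lib.Helper13.Basic
import Cfsg.Agent.Lib.Helper58.Basic

set_option autoImplicit false

namespace Cfsg.Agent.Lib.Helper58.SylowJoin

open Subgroup

universe u

section Gen
variable {G : Type u} [Group G] [Finite G]

/-- `|AN : HN|` divides `|A : H|`. -/
theorem relIndex_sup_dvd {H A : Subgroup G} (hHA : H ≤ A) (N : Subgroup G) [N.Normal] :
    (H ⊔ N).relIndex (A ⊔ N) ∣ H.relIndex A := by
  have e1 : H.relIndex A * A.relIndex (A ⊔ N) = H.relIndex (A ⊔ N) :=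
    relIndex_mul_relIndex _ _ _ hHA le_sup_left
  have e2 : H.relIndex (H ⊔ N) * (H ⊔ N).relIndex (A ⊔ N) = H.relIndex (A ⊔ N) :=
    relIndex_mul_relIndex _ _ _ le_sup_left (sup_le_sup_right hHA N)
  have e3 : A.relIndex (A ⊔ N) = A.relIndex N :=
    (Cfsg.Agent.Lib.Helper58.relIndex_eq_relIndex_sup_of_normal A N).symm
  have e4 : H.relIndex (H ⊔ N) = H.relIndex N :=
    (Cfsg.Agent.Lib.Helper58.relIndex_eq_relIndex_sup_of_normal H N).symm
  have e5 : (H ⊓ N).relIndex (A ⊓ N) * (A ⊓ N).relIndex N = (H ⊓ N).relIndex N :=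
    relIndex_mul_relIndex _ _ _ (inf_le_inf_right N hHA) inf_le_right
  rw [inf_relIndex_right, inf_relIndex_right] at e5
  have hne : A.relIndex N ≠ 0 := by
    have : (A.subgroupOf N).index ≠ 0 := Subgroup.index_ne_zero_of_finite
    exact this
  refine ⟨(H ⊓ N).relIndex (A ⊓ N), ?_⟩
  have : H.relIndex A * A.relIndex N =
      ((H ⊔ N).relIndex (A ⊔ N) * (H ⊓ N).relIndex (A ⊓ N)) * A.relIndex N := by
    rw [← e3, e1, ← e2, e4, ← e5, e3]; ring
  exact Nat.eq_of_mul_eq_mul_right (Nat.pos_of_ne_zero hne) this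

variable {p : ℕ} [Fact p.Prime]

/-- `AN ∩ SN = (A ∩ S)N` for `A` subnormal, `S` Sylow, `N` normal. -/
theorem sup_inf_sup_le (S : Sylow p G) {A : Subgroup G} (hA : A.IsSubnormal) (N : Subgroup G)
    [N.Normal] : (A ⊔ N) ⊓ ((S : Subgroup G) ⊔ N) ≤ (A ⊓ (S : Subgroup G)) ⊔ N := by
  have hp : p.Prime := Fact.out
  set X := (A ⊔ N) ⊓ ((S : Subgroup G) ⊔ N) with hX
  set Y := (A ⊓ (S : Subgroup G)) ⊔ N with hY
  have hYX : Y ≤ X := by
    apply sup_le
    · exact le_inf (inf_le_left.trans le_sup_left) (inf_le_right.trans le_sup_left)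
    · exact le_inf le_sup_right le_sup_right
  have hNY : N ≤ Y := le_sup_right
  rw [← relIndex_eq_one]
  -- r divides a power of p
  have h1 : Y.relIndex X ∣ N.relIndex X := relIndex_dvd_of_le_left X hNY
  have h2 : N.relIndex X ∣ N.relIndex ((S : Subgroup G) ⊔ N) :=
    Dvd.intro _ (relIndex_mul_relIndex N X _ (hNY.trans hYX) inf_le_right)
  have h3 : N.relIndex ((S : Subgroup G) ⊔ N) = N.relIndex (S : Subgroup G) := relIndex_sup_right _ _
  have h4 : N.relIndex (S : Subgroup G) ∣ Nat.card (S : Subgroup G) := relIndex_dvd_card _ _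
  obtain ⟨k, hk⟩ := (IsPGroup.iff_card.mp S.isPGroup')
  have h5 : Y.relIndex X ∣ p ^ k := by
    rw [← hk]; exact h1.trans (h2.trans (h3 ▸ h4))
  -- r is prime to p
  have h6 : Y.relIndex X ∣ Y.relIndex (A ⊔ N) :=
    Dvd.intro _ (relIndex_mul_relIndex Y X _ hYX inf_le_left)
  have h7 : Y.relIndex (A ⊔ N) ∣ (A ⊓ (S : Subgroup G)).relIndex A :=
    relIndex_sup_dvd inf_le_left N
  have h8 : ¬ p ∣ (A ⊓ (S : Subgroup G)).relIndex A := by
    rw [inf_relIndex_left]
    exact Cfsg.Agent.Lib.Helper13.not_dvd_relIndex_of_isSubnormal p _ A hA S.not_dvd_index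
  obtain ⟨j, hj, hj'⟩ := (Nat.dvd_prime_pow hp).mp h5
  rcases Nat.eq_zero_or_pos j with h0 | hpos
  · rw [hj', h0, pow_zero]
  · exfalso
    apply h8
    refine dvd_trans ?_ (h6.trans h7)
    rw [hj']
    exact dvd_pow_self p hpos.ne'

end Gen

end Cfsg.Agent.Lib.Helper58.SylowJoin
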