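import Mathlib
import Cfsg.Agent.Lib.Helper58.SylowJoin1

set_option autoImplicit false

namespace Cfsg.Agent.Lib.Helper58.SylowJoin

open Subgroup
open scoped Pointwise

universe u

/-- The statement for one group: a Sylow subgroup of a group generated by a family of subnormal
subgroups is generated by its intersections with the members of the family. -/
def Goal (p : ℕ) (G : Type u) [Group G] : Prop :=
  ∀ (S : Sylow p G) (𝒜 : Set (Subgroup G)), (∀ A ∈ 𝒜, A.IsSubnormal) → sSup 𝒜 = ⊤ →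
    (S : Subgroup G) ≤ ⨆ A ∈ 𝒜, A ⊓ (S : Subgroup G)

section Gen
variable {G : Type u} [Group G] [Finite G] {p : ℕ} [Fact p.Prime]

theorem restrict (J : Subgroup G) (hIH : Goal p ↥J) (S : Sylow p G)
    (hS : ¬ p ∣ ((S : Subgroup G) ⊓ J).relIndex J) (𝒜 : Set (Subgroup G))
    (h𝒜 : ∀ A ∈ 𝒜, A ≤ J ∧ (A.subgroupOf J).IsSubnormal) (hsup : sSup 𝒜 = J) :
    (S : Subgroup G) ⊓ J ≤ ⨆ A ∈ 𝒜, A ⊓ (S : Subgroup G) := by
  have hpg : IsPGroup p ↥(((S : Subgroup G) ⊓ J).subgroupOf J) :=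
    (S.isPGroup'.to_le inf_le_left).comap_subtype
  let SJ : Sylow p ↥J := hpg.toSylow hS
  let 𝒜J : Set (Subgroup ↥J) := (fun A => A.subgroupOf J) '' 𝒜
  have h1 : ∀ B ∈ 𝒜J, B.IsSubnormal := by
    rintro _ ⟨A, hA, rfl⟩
    exact (h𝒜 A hA).2
  have h2 : sSup 𝒜J = ⊤ := by
    rw [eq_top_iff]
    intro x _
    have hle : sSup 𝒜 ≤ (sSup 𝒜J).map J.subtype := by
      apply sSup_le
      intro A hA
      rw [← Subgroup.map_subgroupOf_eq_of_le (h𝒜 A hA).1]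
      exact Subgroup.map_mono (le_sSup ⟨A, hA, rfl⟩)
    have hx : (x : G) ∈ sSup 𝒜 := by rw [hsup]; exact x.2
    obtain ⟨y, hy, hyx⟩ := hle hx
    have : y = x := Subtype.ext hyx
    rw [← this]; exact hy
  have h3 := hIH SJ 𝒜J h1 h2
  have h4 : (⨆ B ∈ 𝒜J, B ⊓ (SJ : Subgroup ↥J)) ≤
      (⨆ A ∈ 𝒜, A ⊓ (S : Subgroup G)).subgroupOf J := by
    apply iSup₂_le
    rintro _ ⟨A, hA, rfl⟩
    intro x hx
    rw [Subgroup.mem_subgroupOf]
    have hxS : x ∈ ((S : Subgroup G) ⊓ J).subgroupOf J := (IsPGroup.mem_toSylow hpg hS).mp hx.2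
    have : (x : G) ∈ A ⊓ (S : Subgroup G) :=
      ⟨Subgroup.mem_subgroupOf.mp hx.1, (Subgroup.mem_subgroupOf.mp hxS).1⟩
    exact (le_iSup₂ (f := fun A (_ : A ∈ 𝒜) => A ⊓ (S : Subgroup G)) A hA) this
  intro s hs
  have hsJ : s ∈ J := hs.2
  have h5 : (⟨s, hsJ⟩ : ↥J) ∈ (SJ : Subgroup ↥J) :=
    (IsPGroup.mem_toSylow hpg hS).mpr (Subgroup.mem_subgroupOf.mpr hs)
  exact Subgroup.mem_subgroupOf.mp (h4 (h3 h5))

theorem quot (N : Subgroup G) [N.Normal] (hIH : Goal p (G ⧸ N)) (S : Sylow p G)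
    (𝒜 : Set (Subgroup G)) (h𝒜 : ∀ A ∈ 𝒜, A.IsSubnormal) (hsup : sSup 𝒜 = ⊤) :
    (S : Subgroup G) ≤ (⨆ A ∈ 𝒜, A ⊓ (S : Subgroup G)) ⊔ N := by
  have hπ : Function.Surjective (QuotientGroup.mk' N) := QuotientGroup.mk'_surjective N
  let Sbar : Sylow p (G ⧸ N) := S.mapSurjective hπ
  let 𝒜bar : Set (Subgroup (G ⧸ N)) := (fun A => A.map (QuotientGroup.mk' N)) '' 𝒜
  have h1 : ∀ B ∈ 𝒜bar, B.IsSubnormal := by
    rintro _ ⟨A, hA, rfl⟩
    exact (h𝒜 A hA).map hπ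
  have h2 : sSup 𝒜bar = ⊤ := by
    rw [eq_top_iff]
    intro y _
    obtain ⟨x, rfl⟩ := hπ y
    have hle : sSup 𝒜 ≤ (sSup 𝒜bar).comap (QuotientGroup.mk' N) := by
      apply sSup_le
      intro A hA
      exact (Subgroup.le_comap_map _ A).trans (Subgroup.comap_mono (le_sSup ⟨A, hA, rfl⟩))
    have hx : x ∈ sSup 𝒜 := by rw [hsup]; exact Subgroup.mem_top x
    exact hle hx
  have h3 := hIH Sbar 𝒜bar h1 h2
  have h4 : (⨆ B ∈ 𝒜bar, B ⊓ (Sbar : Subgroup (G ⧸ N))) ≤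
      (⨆ A ∈ 𝒜, A ⊓ (S : Subgroup G)).map (QuotientGroup.mk' N) := by
    apply iSup₂_le
    rintro _ ⟨A, hA, rfl⟩
    rintro y ⟨⟨a, ha, rfl⟩, hyS⟩
    have hyS' : QuotientGroup.mk' N a ∈ (S : Subgroup G).map (QuotientGroup.mk' N) := by
      have := hyS
      rwa [SetLike.mem_coe, Sylow.coe_mapSurjective] at this
    obtain ⟨s, hs, hsa⟩ := hyS'
    have hn : s⁻¹ * a ∈ N := by
      have := QuotientGroup.eq.mp hsa
      exact this
    have ha2 : a ∈ (A ⊔ N) ⊓ ((S : Subgroup G) ⊔ N) := by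
      refine ⟨(le_sup_left : A ≤ A ⊔ N) ha, ?_⟩
      have : a = s * (s⁻¹ * a) := by group
      rw [this]
      exact Subgroup.mul_mem _ ((le_sup_left : (S : Subgroup G) ≤ _) hs)
        ((le_sup_right : N ≤ _) hn)
    have ha3 := sup_inf_sup_le S (h𝒜 A hA) N ha2
    have ha4 : a ∈ ((A ⊓ (S : Subgroup G) : Subgroup G) : Set G) * (N : Set G) := by
      rw [← Subgroup.mul_normal]; exact ha3
    obtain ⟨h, hh, n, hn', rfl⟩ := ha4
    have hπn : QuotientGroup.mk' N n = 1 := (QuotientGroup.eq_one_iff n).mpr hn'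
    rw [map_mul, hπn, mul_one]
    apply Subgroup.mem_map_of_mem
    exact (le_iSup₂ (f := fun A (_ : A ∈ 𝒜) => A ⊓ (S : Subgroup G)) A hA) hh
  have h5 : (S : Subgroup G).map (QuotientGroup.mk' N) ≤
      (⨆ A ∈ 𝒜, A ⊓ (S : Subgroup G)).map (QuotientGroup.mk' N) := by
    have : ((Sbar : Sylow p (G ⧸ N)) : Subgroup (G ⧸ N)) = (S : Subgroup G).map (QuotientGroup.mk' N) :=
      Sylow.coe_mapSurjective hπ S
    rw [← this]
    exact h3.trans h4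
  rw [Subgroup.map_le_map_iff', QuotientGroup.ker_mk'] at h5
  exact le_sup_left.trans h5

end Gen

end Cfsg.Agent.Lib.Helper58.SylowJoin
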