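import Mathlib
import Cfsg.Agent.Lib.Helper58.SylowJoin2

set_option autoImplicit false

namespace Cfsg.Agent.Lib.Helper58.SylowJoin

open Subgroup
open scoped Pointwise

universe u

theorem eq_one_of_dvd_prime_pow_of_dvd {r p k m : ℕ} (hp : p.Prime) (h1 : r ∣ p ^ k) (h2 : r ∣ m)
    (h3 : ¬ p ∣ m) : r = 1 := by
  obtain ⟨j, _, hj'⟩ := (Nat.dvd_prime_pow hp).mp h1
  rcases Nat.eq_zero_or_pos j with h0 | hpos
  · rw [hj', h0, pow_zero]
  · exfalso
    apply h3
    refine dvd_trans ?_ h2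
    rw [hj']
    exact dvd_pow_self p hpos.ne'

section Gen
variable {G : Type u} [Group G]

/-- conjugate subgroup `t X t⁻¹` -/
def cj (t : G) (X : Subgroup G) : Subgroup G := X.map (MulAut.conj t).toMonoidHom

theorem mem_cj {t x : G} {X : Subgroup G} : x ∈ cj t X ↔ t⁻¹ * x * t ∈ X := by
  unfold cj
  constructor
  · rintro ⟨y, hy, rfl⟩
    simpa [mul_assoc] using hy
  · intro h
    exact ⟨t⁻¹ * x * t, h, by simp [mul_assoc]⟩

theorem cj_cj (s t : G) (X : Subgroup G) : cj s (cj t X) = cj (s * t) X := by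
  ext x
  simp only [mem_cj]
  have : t⁻¹ * (s⁻¹ * x * s) * t = (s * t)⁻¹ * x * (s * t) := by simp [mul_assoc]
  rw [this]

theorem cj_isSubnormal {X : Subgroup G} (hX : X.IsSubnormal) (t : G) : (cj t X).IsSubnormal :=
  hX.map (MulAut.conj t).surjective

theorem cj_le_of_normal {X R : Subgroup G} [R.Normal] (hXR : X ≤ R) (t : G) : cj t X ≤ R := by
  intro x hx
  rw [mem_cj] at hx
  have h1 := hXR hx
  have h2 := ‹R.Normal›.conj_mem _ h1 t
  simpa [mul_assoc] using h2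

theorem mem_normalizer_of_conj_mem_finite' [Finite G] {E : Subgroup G} {m : G}
    (hm : ∀ e ∈ E, m * e * m⁻¹ ∈ E) : m ∈ Subgroup.normalizer (E : Set G) := by
  rw [Subgroup.mem_normalizer_iff]
  intro x
  refine ⟨hm x, ?_⟩
  intro hx
  let φ : E → E := fun e => ⟨m * e * m⁻¹, hm e e.2⟩
  have hinj : Function.Injective φ := by
    intro a b hab
    have := congrArg Subtype.val hab
    simp only [φ] at this
    apply Subtype.ext
    simpa using this
  have hsurj : Function.Surjective φ := Finite.injective_iff_surjective.mp hinj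
  obtain ⟨e, he⟩ := hsurj ⟨m * x * m⁻¹, hx⟩
  have := congrArg Subtype.val he
  simp only [φ] at this
  have hxe : (e : G) = x := by simpa using this
  rw [← hxe]; exact e.2

variable [Finite G] {p : ℕ} [Fact p.Prime]

theorem step1
    (hIH : ∀ (H : Type u) [Group H] [Finite H], Nat.card H < Nat.card G → Goal p H)
    (S : Sylow p G) (𝒜 : Set (Subgroup G)) (h𝒜 : ∀ A ∈ 𝒜, A.IsSubnormal) (hsup : sSup 𝒜 = ⊤)
    (R₀ : Subgroup G) [hR₀n : R₀.Normal] (hR₀ : R₀ ≠ ⊤) (hidx : ∃ k, R₀.index = p ^ k) :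
    (S : Subgroup G) ≤ ⨆ A ∈ 𝒜, A ⊓ (S : Subgroup G) := by
  have hp : p.Prime := Fact.out
  set T := ⨆ A ∈ 𝒜, A ⊓ (S : Subgroup G) with hT
  have hTS : T ≤ (S : Subgroup G) := iSup₂_le fun A _ => inf_le_right
  have hAT : ∀ A ∈ 𝒜, A ⊓ (S : Subgroup G) ≤ T := fun A hA =>
    le_iSup₂ (f := fun A (_ : A ∈ 𝒜) => A ⊓ (S : Subgroup G)) A hA
  let 𝒦 : Set (Subgroup G) := {X | ∃ A ∈ 𝒜, ∃ t ∈ T, X = cj t (A ⊓ R₀)}
  set K := sSup 𝒦 with hK
  -- (1a)
  have h1a : ∀ A ∈ 𝒜, A ≤ (A ⊓ (S : Subgroup G)) ⊔ (A ⊓ R₀) := by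
    intro A hA
    rw [← relIndex_eq_one]
    obtain ⟨k, hk⟩ := hidx
    apply eq_one_of_dvd_prime_pow_of_dvd hp (k := k) (m := (A ⊓ (S : Subgroup G)).relIndex A)
    · have h1 : ((A ⊓ (S : Subgroup G)) ⊔ (A ⊓ R₀)).relIndex A ∣ (A ⊓ R₀).relIndex A :=
        relIndex_dvd_of_le_left A le_sup_right
      rw [inf_relIndex_left] at h1
      rw [← hk]
      exact h1.trans (relIndex_dvd_index_of_normal R₀ A)
    · exact relIndex_dvd_of_le_left A le_sup_left
    · rw [inf_relIndex_left]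
      exact Cfsg.Agent.Lib.Helper13.not_dvd_relIndex_of_isSubnormal p _ A (h𝒜 A hA) S.not_dvd_index
  -- members of 𝒦
  have hKmem : ∀ A ∈ 𝒜, ∀ t ∈ T, cj t (A ⊓ R₀) ≤ K := fun A hA t ht =>
    le_sSup ⟨A, hA, t, ht, rfl⟩
  -- (1b)
  have hTN : T ≤ Subgroup.normalizer (K : Set G) := by
    intro t' ht'
    apply mem_normalizer_of_conj_mem_finite'
    have hle : K ≤ K.comap (MulAut.conj t').toMonoidHom := by
      apply sSup_le
      rintro _ ⟨A, hA, t, ht, rfl⟩
      rw [← Subgroup.map_le_iff_le_comap]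
      change cj t' (cj t (A ⊓ R₀)) ≤ K
      rw [cj_cj]
      exact hKmem A hA _ (T.mul_mem ht' ht)
    intro e he
    have := hle he
    simpa using this
  have hKn : K.Normal := by
    rw [← Subgroup.normalizer_eq_top_iff, eq_top_iff, ← hsup]
    apply sSup_le
    intro A hA
    refine (h1a A hA).trans (sup_le ((hAT A hA).trans hTN) ?_)
    have : A ⊓ R₀ ≤ K := by
      have := hKmem A hA 1 T.one_mem
      have h1 : cj 1 (A ⊓ R₀) = A ⊓ R₀ := by
        ext x; simp [mem_cj]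
      rwa [h1] at this
    exact this.trans Subgroup.le_normalizer
  -- (1c)
  have h1c : (⊤ : Subgroup G) ≤ T ⊔ K := by
    rw [← hsup]
    apply sSup_le
    intro A hA
    refine (h1a A hA).trans (sup_le_sup (hAT A hA) ?_)
    have := hKmem A hA 1 T.one_mem
    have h1 : cj 1 (A ⊓ R₀) = A ⊓ R₀ := by
      ext x; simp [mem_cj]
    rwa [h1] at this
  -- (1e)
  have hKR : K ≤ R₀ := by
    apply sSup_le
    rintro _ ⟨A, hA, t, ht, rfl⟩
    exact cj_le_of_normal inf_le_right t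
  have hKtop : K ≠ ⊤ := by
    intro h
    apply hR₀
    rw [eq_top_iff, ← h]; exact hKR
  have hcard : Nat.card ↥K < Nat.card G :=
    lt_of_le_of_ne (Subgroup.card_le_card_group K) (mt (Subgroup.card_eq_iff_eq_top K).mp hKtop)
  have h1e : (S : Subgroup G) ⊓ K ≤ T := by
    have hres := restrict K (hIH ↥K hcard) S
      (Cfsg.Agent.Lib.Helper58.sylow_inf_normal_relIndex S K) 𝒦 ?_ rfl
    · refine hres.trans ?_
      apply iSup₂_le
      rintro _ ⟨A, hA, t, ht, rfl⟩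
      intro x hx
      have hx1 : t⁻¹ * x * t ∈ A ⊓ R₀ := mem_cj.mp hx.1
      have htS : t ∈ (S : Subgroup G) := hTS ht
      have hx2 : t⁻¹ * x * t ∈ (S : Subgroup G) :=
        Subgroup.mul_mem _ (Subgroup.mul_mem _ (Subgroup.inv_mem _ htS) hx.2) htS
      have hx3 : t⁻¹ * x * t ∈ T := hAT A hA ⟨hx1.1, hx2⟩
      have : x = t * (t⁻¹ * x * t) * t⁻¹ := by group
      rw [this]
      exact T.mul_mem (T.mul_mem ht hx3) (T.inv_mem ht)
    · rintro _ ⟨A, hA, t, ht, rfl⟩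
      refine ⟨hKmem A hA t ht, ?_⟩
      apply Subgroup.IsSubnormal.subgroupOf
      exact cj_isSubnormal ((h𝒜 A hA).inf hR₀n.isSubnormal) t
  -- conclude
  intro s hs
  have hs1 : s ∈ T ⊔ K := h1c (Subgroup.mem_top s)
  have hs2 : s ∈ ((T : Subgroup G) : Set G) * (K : Set G) := by
    rw [← Subgroup.mul_normal]; exact hs1
  obtain ⟨t, ht, k, hk, rfl⟩ := hs2
  have hkS : k ∈ (S : Subgroup G) := by
    have : k = t⁻¹ * (t * k) := by group
    rw [this]
    exact Subgroup.mul_mem _ (Subgroup.inv_mem _ (hTS ht)) hs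
  exact T.mul_mem ht (h1e ⟨hkS, hk⟩)

end Gen

end Cfsg.Agent.Lib.Helper58.SylowJoin
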