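import Mathlib
import Cfsg.Agent.Lib.Helper58.SylowJoin3

set_option autoImplicit false

namespace Cfsg.Agent.Lib.Helper58.SylowJoin

open Subgroup
open scoped Pointwise

universe u

section Transfer
variable {G : Type u} [Group G] [Finite G] {p : ℕ} [Fact p.Prime]

/-- Transfer: a central subgroup `N` with a complement `T` in a Sylow subgroup gives a proper normal
subgroup of `p`-power index. -/
theorem exists_normal_ppow_index (S : Sylow p G) (T N : Subgroup G) (hTS : T ≤ (S : Subgroup G))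
    (hS : (S : Subgroup G) ≤ T ⊔ N) (hNc : ∀ n ∈ N, ∀ g : G, g * n = n * g) (hTN : N ⊓ T = ⊥)
    {x : G} (hxN : x ∈ N) (hx : orderOf x = p) :
    ∃ R₀ : Subgroup G, R₀.Normal ∧ R₀ ≠ ⊤ ∧ ∃ k, R₀.index = p ^ k := by
  have hp : p.Prime := Fact.out
  -- T is normal in S
  have hTnorm : (S : Subgroup G) ≤ Subgroup.normalizer (T : Set G) := by
    refine hS.trans (sup_le Subgroup.le_normalizer ?_)
    intro n hn
    rw [Subgroup.mem_normalizer_iff]
    intro t
    have h1 : n * t * n⁻¹ = t := by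
      have := hNc n hn t
      rw [← this]; simp
    rw [h1]
  have hT'n : (T.subgroupOf (S : Subgroup G)).Normal :=
    (Subgroup.normal_subgroupOf_iff_le_normalizer hTS).mpr hTnorm
  -- the quotient is commutative
  have hdecomp : ∀ s : ↥(S : Subgroup G), ∃ t ∈ T, ∃ n ∈ N, (s : G) = t * n := by
    intro s
    have h1 : (s : G) ∈ T ⊔ N := hS s.2
    have hNn : N.Normal := by
      constructor
      intro n hn g
      have := hNc n hn g
      rw [this]; simpa using hn
    have h2 : (s : G) ∈ ((T : Subgroup G) : Set G) * (N : Set G) := by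
      rw [← Subgroup.mul_normal]; exact h1
    obtain ⟨t, ht, n, hn, hs⟩ := h2
    exact ⟨t, ht, n, hn, hs.symm⟩
  have hcomm : ∀ a b : ↥(S : Subgroup G) ⧸ T.subgroupOf (S : Subgroup G), a * b = b * a := by
    intro a b
    induction a using QuotientGroup.induction_on with
    | H a =>
    induction b using QuotientGroup.induction_on with
    | H b =>
    obtain ⟨t₁, ht₁, n₁, hn₁, ha⟩ := hdecomp a
    obtain ⟨t₂, ht₂, n₂, hn₂, hb⟩ := hdecomp b
    rw [← QuotientGroup.mk_mul, ← QuotientGroup.mk_mul, QuotientGroup.eq, Subgroup.mem_subgroupOf]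
    have : (((a * b)⁻¹ * (b * a) : ↥(S : Subgroup G)) : G) = (t₁ * t₂)⁻¹ * (t₂ * t₁) := by
      simp only [Subgroup.coe_mul, Subgroup.coe_inv, ha, hb]
      have e1 := hNc n₁ hn₁
      have e2 := hNc n₂ hn₂
      calc (t₁ * n₁ * (t₂ * n₂))⁻¹ * (t₂ * n₂ * (t₁ * n₁))
          = (t₁ * t₂ * (n₁ * n₂))⁻¹ * (t₂ * t₁ * (n₂ * n₁)) := by
            have h1 : t₁ * n₁ * (t₂ * n₂) = t₁ * t₂ * (n₁ * n₂) := by
              rw [mul_assoc, ← mul_assoc n₁, ← e1 t₂]; simp [mul_assoc]
            have h2 : t₂ * n₂ * (t₁ * n₁) = t₂ * t₁ * (n₂ * n₁) := by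
              rw [mul_assoc, ← mul_assoc n₂, ← e2 t₁]; simp [mul_assoc]
            rw [h1, h2]
        _ = (t₁ * t₂)⁻¹ * (t₂ * t₁) := by
            have h3 : n₂ * n₁ = n₁ * n₂ := e1 n₂
            rw [h3, mul_inv_rev, mul_assoc, ← mul_assoc _ (t₂ * t₁)]
            have h4 : (t₁ * t₂)⁻¹ * (t₂ * t₁) * (n₁ * n₂) = (n₁ * n₂) * ((t₁ * t₂)⁻¹ * (t₂ * t₁)) :=
              hNc _ (N.mul_mem hn₁ hn₂) _
            rw [h4]; simp [mul_assoc]
    rw [this]
    exact T.mul_mem (T.inv_mem (T.mul_mem ht₁ ht₂)) (T.mul_mem ht₂ ht₁)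
  letI : CommGroup (↥(S : Subgroup G) ⧸ T.subgroupOf (S : Subgroup G)) :=
    { (inferInstance : Group (↥(S : Subgroup G) ⧸ T.subgroupOf (S : Subgroup G))) with
      mul_comm := hcomm }
  let ϕ : ↥(S : Subgroup G) →* ↥(S : Subgroup G) ⧸ T.subgroupOf (S : Subgroup G) :=
    QuotientGroup.mk' _
  let ψ := MonoidHom.transfer ϕ
  refine ⟨ψ.ker, inferInstance, ?_, ?_⟩
  · -- ψ x ≠ 1
    intro htop
    have hx1 : ψ x = 1 := by
      have : x ∈ ψ.ker := by rw [htop]; exact Subgroup.mem_top x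
      exact this
    have key : ∀ (k : ℕ) (g₀ : G), g₀⁻¹ * x ^ k * g₀ ∈ (S : Subgroup G) →
        g₀⁻¹ * x ^ k * g₀ = x ^ k := by
      intro k g₀ _
      have := hNc (x ^ k) (N.pow_mem hxN k) g₀
      rw [mul_assoc, ← this]; simp
    have h2 := MonoidHom.transfer_eq_pow ϕ x key
    rw [show MonoidHom.transfer ϕ x = ψ x from rfl, hx1] at h2
    have h3 : (⟨x ^ (S : Subgroup G).index, MonoidHom.transfer_eq_pow_aux x key⟩ :
        ↥(S : Subgroup G)) ∈ T.subgroupOf (S : Subgroup G) := by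
      rw [← QuotientGroup.eq_one_iff]
      exact h2.symm
    rw [Subgroup.mem_subgroupOf] at h3
    have h4 : x ^ (S : Subgroup G).index ∈ N ⊓ T := ⟨N.pow_mem hxN _, h3⟩
    rw [hTN, Subgroup.mem_bot] at h4
    have h5 : orderOf x ∣ (S : Subgroup G).index := orderOf_dvd_of_pow_eq_one h4
    rw [hx] at h5
    exact S.not_dvd_index h5
  · -- index is a power of p
    have h1 : ψ.ker.index = Nat.card ψ.range := Subgroup.index_ker ψ
    have h2 : Nat.card ψ.range ∣
        Nat.card (↥(S : Subgroup G) ⧸ T.subgroupOf (S : Subgroup G)) :=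
      Subgroup.card_subgroup_dvd_card _
    have h3 : Nat.card (↥(S : Subgroup G) ⧸ T.subgroupOf (S : Subgroup G)) ∣
        Nat.card ↥(S : Subgroup G) := by
      rw [← Subgroup.index_eq_card]
      exact Subgroup.index_dvd_card _
    obtain ⟨j, hj⟩ := IsPGroup.iff_card.mp S.isPGroup'
    rw [hj] at h3
    obtain ⟨k, _, hk⟩ := (Nat.dvd_prime_pow hp).mp (h2.trans h3)
    exact ⟨k, by rw [h1, hk]⟩

end Transfer

end Cfsg.Agent.Lib.Helper58.SylowJoin
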