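import Mathlib
import Cfsg.Agent.Lib.Helper58.SylowJoin4

set_option autoImplicit false

namespace Cfsg.Agent.Lib.Helper58.SylowJoin

open Subgroup
open scoped Pointwise
open Cfsg.Agent.Lib.Helper13

universe u

section Main
variable {G : Type u} [Group G] [Finite G] {p : ℕ} [Fact p.Prime]

theorem step2
    (hIH : ∀ (H : Type u) [Group H] [Finite H], Nat.card H < Nat.card G → Goal p H) :
    Goal p G := by
  have hp : p.Prime := Fact.out
  intro S 𝒜 h𝒜 hsup
  set T := ⨆ A ∈ 𝒜, A ⊓ (S : Subgroup G) with hT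
  have hTS : T ≤ (S : Subgroup G) := iSup₂_le fun A _ => inf_le_right
  have hAT : ∀ A ∈ 𝒜, A ⊓ (S : Subgroup G) ≤ T := fun A hA =>
    le_iSup₂ (f := fun A (_ : A ∈ 𝒜) => A ⊓ (S : Subgroup G)) A hA
  by_cases htop : (⊤ : Subgroup G) ∈ 𝒜
  · have := hAT ⊤ htop
    rwa [top_inf_eq] at this
  rcases subsingleton_or_nontrivial G with hsub | hnon
  · intro s _
    have : s = 1 := Subsingleton.elim _ _
    rw [this]; exact T.one_mem
  obtain ⟨N, hN⟩ := exists_isMinNormal (G := G)
  have hNn : N.Normal := hN.1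
  have hcardQ : Nat.card (G ⧸ N) < Nat.card G := by
    rw [← Subgroup.index_eq_card, ← Subgroup.card_mul_index N]
    have h1 : 1 < Nat.card N := (Subgroup.one_lt_card_iff_ne_bot N).mpr hN.2.1
    have h2 : 0 < N.index := Nat.pos_of_ne_zero Subgroup.index_ne_zero_of_finite
    exact lt_mul_of_one_lt_left h2 h1
  have h2a : (S : Subgroup G) ≤ T ⊔ N := quot N (hIH (G ⧸ N) hcardQ) S 𝒜 h𝒜 hsup
  -- reduction to S ⊓ N ≤ T
  suffices h2b : (S : Subgroup G) ⊓ N ≤ T by
    intro s hs
    have hs2 : s ∈ ((T : Subgroup G) : Set G) * (N : Set G) := by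
      rw [← Subgroup.mul_normal]; exact h2a hs
    obtain ⟨t, ht, n, hn, rfl⟩ := hs2
    have hnS : n ∈ (S : Subgroup G) := by
      have : n = t⁻¹ * (t * n) := by group
      rw [this]
      exact Subgroup.mul_mem _ (Subgroup.inv_mem _ (hTS ht)) hs
    exact T.mul_mem ht (h2b ⟨hnS, hn⟩)
  have hNnorm : ∀ A ∈ 𝒜, N ≤ Subgroup.normalizer (A : Set G) := fun A hA =>
    minNormal_le_normalizer A N (h𝒜 A hA) hN
  -- commutators of A' with N lie in A' ⊓ N
  have hcommAN : ∀ A ∈ 𝒜, ∀ a ∈ A, ∀ n ∈ N, a * n * a⁻¹ * n⁻¹ ∈ A ⊓ N := by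
    intro A hA a ha n hn
    constructor
    · have h1 : n * a⁻¹ * n⁻¹ ∈ A :=
        (Subgroup.mem_normalizer_iff.mp (hNnorm A hA hn) a⁻¹).mp (A.inv_mem ha)
      have : a * n * a⁻¹ * n⁻¹ = a * (n * a⁻¹ * n⁻¹) := by group
      rw [this]; exact A.mul_mem ha h1
    · exact N.mul_mem (hNn.conj_mem n hn a) (N.inv_mem hn)
  set N₀ := ⨆ A ∈ 𝒜, A ⊓ N with hN₀
  have hAN₀ : ∀ A ∈ 𝒜, A ⊓ N ≤ N₀ := fun A hA =>
    le_iSup₂ (f := fun A (_ : A ∈ 𝒜) => A ⊓ N) A hA
  have hN₀N : N₀ ≤ N := iSup₂_le fun A _ => inf_le_right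
  have hN₀n : N₀.Normal := by
    rw [← Subgroup.normalizer_eq_top_iff, eq_top_iff, ← hsup]
    apply sSup_le
    intro A' hA' a' ha'
    apply mem_normalizer_of_conj_mem_finite'
    have hle : N₀ ≤ N₀.comap (MulAut.conj a').toMonoidHom := by
      apply iSup₂_le
      intro A hA x hx
      rw [Subgroup.mem_comap]
      change a' * x * a'⁻¹ ∈ N₀
      have h1 : a' * x * a'⁻¹ * x⁻¹ ∈ N₀ := hAN₀ A' hA' (hcommAN A' hA' a' ha' x hx.2)
      have h2 : x ∈ N₀ := hAN₀ A hA hx
      have : a' * x * a'⁻¹ = (a' * x * a'⁻¹ * x⁻¹) * x := by group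
      rw [this]; exact N₀.mul_mem h1 h2
    intro e he
    exact hle he
  rcases hN.2.2 N₀ hN₀n hN₀N with h0 | h1
  · -- N₀ = ⊥: N central
    have hAN : ∀ A ∈ 𝒜, A ⊓ N = ⊥ := fun A hA => le_bot_iff.mp (h0 ▸ hAN₀ A hA)
    have hNc : ∀ n ∈ N, ∀ g : G, g * n = n * g := by
      intro n hn g
      have hg : g ∈ Subgroup.centralizer ({n} : Set G) := by
        have hle : sSup 𝒜 ≤ Subgroup.centralizer ({n} : Set G) := by
          apply sSup_le
          intro A hA a ha
          rw [Subgroup.mem_centralizer_iff]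
          intro y hy
          rw [Set.mem_singleton_iff] at hy
          subst hy
          have h1 := hcommAN A hA a ha y hn
          rw [hAN A hA, Subgroup.mem_bot] at h1
          have : a * y = (a * y * a⁻¹ * y⁻¹) * (y * a) := by group
          rw [this, h1, one_mul]
        rw [hsup] at hle
        exact hle (Subgroup.mem_top g)
      rw [Subgroup.mem_centralizer_iff] at hg
      exact (hg n rfl).symm
    by_cases hpN : p ∣ Nat.card N
    · -- N = ⟨x⟩ of order p
      obtain ⟨x, hx⟩ := exists_prime_orderOf_dvd_card' (G := ↥N) p hpN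
      have hxN : (x : G) ∈ N := x.2
      have hxo : orderOf (x : G) = p := by rw [← hx]; exact Subgroup.orderOf_coe x
      have hCn : (Subgroup.zpowers (x : G)).Normal := by
        constructor
        intro n hn g
        have hnN : n ∈ N := (Subgroup.zpowers_le.mpr hxN) hn
        have := hNc n hnN g
        rw [this]; simpa using hn
      have hCN : Subgroup.zpowers (x : G) = N := by
        rcases hN.2.2 _ hCn (Subgroup.zpowers_le.mpr hxN) with hb | he
        · exfalso
          rw [Subgroup.zpowers_eq_bot] at hb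
          rw [hb, orderOf_one] at hxo
          exact hp.one_lt.ne hxo
        · exact he
      have hcardN : Nat.card N = p := by
        rw [← hCN, Nat.card_zpowers, hxo]
      by_cases hNT : N ≤ T
      · exact inf_le_right.trans hNT
      · have hTN : N ⊓ T = ⊥ := by
          have h1 : Nat.card ↥(N ⊓ T) ∣ p := by
            rw [← hcardN]; exact Subgroup.card_dvd_of_le inf_le_left
          rcases (Nat.dvd_prime hp).mp h1 with h1 | h1
          · exact Subgroup.card_eq_one.mp h1
          · exfalso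
            apply hNT
            have : N ⊓ T = N := by
              apply Subgroup.eq_of_le_of_card_ge inf_le_left
              rw [h1, hcardN]
            rw [← this]; exact inf_le_right
        obtain ⟨R₀, hR₀n, hR₀, hidx⟩ := exists_normal_ppow_index S T N hTS h2a hNc hTN hxN hxo
        have := step1 hIH S 𝒜 h𝒜 hsup R₀ hR₀ hidx
        exact inf_le_left.trans this
    · -- p ∤ |N|
      have h1 : Nat.card ↥((S : Subgroup G) ⊓ N) ∣ Nat.card N := Subgroup.card_dvd_of_le inf_le_right
      obtain ⟨k, hk⟩ := IsPGroup.iff_card.mp (S.isPGroup'.to_le (inf_le_left : (S : Subgroup G) ⊓ N ≤ S))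
      have hk0 : k = 0 := by
        by_contra hne
        apply hpN
        refine dvd_trans ?_ h1
        rw [hk]; exact dvd_pow_self p hne
      rw [hk0, pow_zero] at hk
      rw [Subgroup.card_eq_one.mp hk]
      exact bot_le
  · -- N₀ = N
    by_cases hNtop : N = ⊤
    · exfalso
      have hbot : ∀ A ∈ 𝒜, A = ⊥ := by
        intro A hA
        rcases (h𝒜 A hA).lt_normal with hAt | ⟨K, hKn, hAK, hKt⟩
        · exact absurd (hAt ▸ hA) htop
        · rcases hN.2.2 K hKn (hNtop ▸ le_top) with hb | he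
          · exact le_bot_iff.mp (hb ▸ hAK)
          · exact absurd (he.trans hNtop) hKt.ne
      have : sSup 𝒜 = ⊥ := by
        rw [eq_bot_iff]
        apply sSup_le
        intro A hA
        rw [hbot A hA]
      rw [this] at hsup
      exact bot_ne_top hsup
    · have hcardN : Nat.card ↥N < Nat.card G :=
        lt_of_le_of_ne (Subgroup.card_le_card_group N) (mt (Subgroup.card_eq_iff_eq_top N).mp hNtop)
      have hres := restrict N (hIH ↥N hcardN) S
        (Cfsg.Agent.Lib.Helper58.sylow_inf_normal_relIndex S N) ((fun A => A ⊓ N) '' 𝒜) ?_ ?_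
      · refine hres.trans ?_
        apply iSup₂_le
        rintro _ ⟨A, hA, rfl⟩
        exact (inf_le_inf_right _ inf_le_left).trans (hAT A hA)
      · rintro _ ⟨A, hA, rfl⟩
        exact ⟨inf_le_right, ((h𝒜 A hA).inf hNn.isSubnormal).subgroupOf⟩
      · rw [sSup_image, ← hN₀, h1]

/-- Main theorem: a Sylow subgroup of a group generated by subnormal subgroups is generated by its
intersections with them. -/
theorem goal_all (p : ℕ) [Fact p.Prime] (n : ℕ) :
    ∀ (G : Type u) [Group G] [Finite G], Nat.card G = n → Goal p G := by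
  induction n using Nat.strong_induction_on with
  | _ n ih =>
    intro G _ _ hn
    apply step2
    intro H _ _ hH
    exact ih (Nat.card H) (hn ▸ hH) H rfl

theorem goal (p : ℕ) [Fact p.Prime] (G : Type u) [Group G] [Finite G] : Goal p G :=
  goal_all p (Nat.card G) G rfl

end Main

end Cfsg.Agent.Lib.Helper58.SylowJoin
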