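import Mathlib.GroupTheory.Frattini
import Mathlib.GroupTheory.Index
import Mathlib.GroupTheory.SpecificGroups.Cyclic
import Mathlib.GroupTheory.Abelianization.Defs
import Mathlib.GroupTheory.QuotientGroup.Basic
import Mathlib.Algebra.Group.Subgroup.Pointwise

set_option autoImplicit false
set_option linter.unusedSectionVars false

/-! Groups whose Frattini quotient has order `p ^ 2`: a normal subgroup not inside the Frattini
subgroup has cyclic quotient. -/

namespace Cfsg.Agent.Lib.Helper58.TG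

open scoped commutatorElement

variable {Q : Type*} [Group Q] [Finite Q]

/-- If `|Q : Φ(Q)| = p²` and `T ⊴ Q` is not inside `Φ(Q)`, then `Q = ⟨x⟩ T` for some `x`. -/
theorem exists_zpowers_sup_eq_top {p : ℕ} [hp : Fact p.Prime]
    (hidx : (frattini Q).index = p ^ 2) (T : Subgroup Q) (hT : ¬ T ≤ frattini Q) :
    ∃ x : Q, Subgroup.zpowers x ⊔ T = ⊤ := by
  have hlt : frattini Q < T ⊔ frattini Q := by
    refine lt_of_le_of_ne le_sup_right ?_
    intro heq
    apply hT
    rw [heq]
    exact le_sup_left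
  have h1 : (T ⊔ frattini Q).index < p ^ 2 := by
    rw [← hidx]; exact Subgroup.index_strictAnti hlt
  have h2 : (T ⊔ frattini Q).index ∣ p ^ 2 := by
    rw [← hidx]; exact Subgroup.index_dvd_of_le le_sup_right
  obtain ⟨m, hm, hme⟩ := (Nat.dvd_prime_pow hp.out).1 h2
  have hm2 : m < 2 := by
    by_contra hge
    have : m = 2 := by omega
    rw [hme, this] at h1
    exact lt_irrefl _ h1
  interval_cases m
  · -- index 1
    rw [pow_zero, Subgroup.index_eq_one] at hme
    have hTtop : T = ⊤ := frattini_nongenerating hme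
    exact ⟨1, by rw [hTtop]; exact sup_top_eq _⟩
  · -- index p
    rw [pow_one] at hme
    have hne : T ⊔ frattini Q ≠ ⊤ := by
      intro h
      rw [h, Subgroup.index_top] at hme
      exact hp.out.one_lt.ne hme
    obtain ⟨x, hx⟩ : ∃ x : Q, x ∉ T ⊔ frattini Q := by
      by_contra hall
      push Not at hall
      exact hne (eq_top_iff.mpr fun y _ => hall y)
    refine ⟨x, ?_⟩
    have hlt2 : T ⊔ frattini Q < Subgroup.zpowers x ⊔ (T ⊔ frattini Q) := by
      refine lt_of_le_of_ne le_sup_right ?_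
      intro heq
      apply hx
      rw [heq]
      exact le_sup_left (a := Subgroup.zpowers x) (Subgroup.mem_zpowers x)
    have h3 : (Subgroup.zpowers x ⊔ (T ⊔ frattini Q)).index < p := by
      rw [← hme]; exact Subgroup.index_strictAnti hlt2
    have h4 : (Subgroup.zpowers x ⊔ (T ⊔ frattini Q)).index ∣ p := by
      rw [← hme]; exact Subgroup.index_dvd_of_le le_sup_right
    have h5 : (Subgroup.zpowers x ⊔ (T ⊔ frattini Q)).index = 1 := by
      rcases (Nat.dvd_prime hp.out).1 h4 with h | h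
      · exact h
      · rw [h] at h3; exact absurd h3 (lt_irrefl _)
    rw [Subgroup.index_eq_one, ← sup_assoc] at h5
    exact frattini_nongenerating h5

/-- If `Q = ⟨x⟩ T` with `T` normal then every element is `x ^ i * t`. -/
theorem exists_zpow_mul_of_sup_eq_top {x : Q} (T : Subgroup Q) [T.Normal]
    (h : Subgroup.zpowers x ⊔ T = ⊤) (u : Q) : ∃ i : ℤ, ∃ t ∈ T, u = x ^ i * t := by
  have hu : u ∈ Subgroup.zpowers x ⊔ T := by rw [h]; trivial
  rw [← SetLike.mem_coe, Subgroup.mul_normal] at hu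
  obtain ⟨a, ha, t, ht, rfl⟩ := hu
  obtain ⟨i, rfl⟩ := Subgroup.mem_zpowers_iff.mp ha
  exact ⟨i, t, ht, rfl⟩

/-- If `Q = ⟨x⟩ T` with `T` normal then `Q' ≤ T`. -/
theorem commutator_le_of_sup_eq_top {x : Q} (T : Subgroup Q) [T.Normal]
    (h : Subgroup.zpowers x ⊔ T = ⊤) : commutator Q ≤ T := by
  have hcyc : IsCyclic (Q ⧸ T) := by
    refine ⟨⟨(QuotientGroup.mk x : Q ⧸ T), fun y => ?_⟩⟩
    induction y using QuotientGroup.induction_on with
    | H u =>
      obtain ⟨i, t, ht, rfl⟩ := exists_zpow_mul_of_sup_eq_top T h u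
      refine ⟨i, ?_⟩
      show (QuotientGroup.mk x : Q ⧸ T) ^ i = QuotientGroup.mk (x ^ i * t)
      rw [← QuotientGroup.mk_zpow, QuotientGroup.eq]
      simpa using ht
  let _ := hcyc.commGroup
  have := Abelianization.commutator_subset_ker (QuotientGroup.mk' T)
  rwa [QuotientGroup.ker_mk'] at this

/-- If `|Q : Φ(Q)| = p²` and `T ⊴ Q` is not inside `Φ(Q)`, then `Q' ≤ T`. -/
theorem commutator_le_of_not_le_frattini {p : ℕ} [hp : Fact p.Prime]
    (hidx : (frattini Q).index = p ^ 2) (T : Subgroup Q) [T.Normal] (hT : ¬ T ≤ frattini Q) :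
    commutator Q ≤ T := by
  obtain ⟨x, hx⟩ := exists_zpowers_sup_eq_top hidx T hT
  exact commutator_le_of_sup_eq_top T hx

/-- Two normal subgroups not inside `Φ(Q)` with trivial intersection force `Q` commutative. -/
theorem mul_comm_of_inf_eq_bot {p : ℕ} [hp : Fact p.Prime]
    (hidx : (frattini Q).index = p ^ 2) (T₁ T₂ : Subgroup Q) [T₁.Normal] [T₂.Normal]
    (h₁ : ¬ T₁ ≤ frattini Q) (h₂ : ¬ T₂ ≤ frattini Q) (h : T₁ ⊓ T₂ = ⊥) (a b : Q) :
    a * b = b * a := by
  have hc : commutator Q ≤ T₁ ⊓ T₂ :=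
    le_inf (commutator_le_of_not_le_frattini hidx T₁ h₁) (commutator_le_of_not_le_frattini hidx T₂ h₂)
  rw [h, le_bot_iff] at hc
  have hab : ⁅a, b⁆ ∈ commutator Q :=
    Subgroup.commutator_mem_commutator (Subgroup.mem_top a) (Subgroup.mem_top b)
  rw [hc, Subgroup.mem_bot] at hab
  exact commutatorElement_eq_one_iff_mul_comm.mp hab

end Cfsg.Agent.Lib.Helper58.TG
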