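import Cfsg.Agent.Lib.Helper58.TG1
import Cfsg.Agent.Lib.Helper14.Tate
import Cfsg.Agent.Lib.Helper97.ThompsonPN
import Cfsg.Agent.Lib.Helper69.PClosed

set_option autoImplicit false
set_option linter.unusedSectionVars false

/-! Finite groups with a two-generated non-commutative Sylow `p`-subgroup `P`, `O_{p'}(G) = 1`
and `Φ(P)` core-free: every nontrivial normal subgroup meets `P` outside `Φ(P)` (Tate), and there
is a unique minimal normal subgroup. -/

namespace Cfsg.Agent.Lib.Helper58.TG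

open Cfsg

variable {G : Type*} [Group G] [Finite G] {p : ℕ} [Fact p.Prime]

/-- `Φ(P)` as a subgroup of `G`. -/
abbrev frat (P : Sylow p G) : Subgroup G :=
  (frattini ↥(P : Subgroup G)).map (P : Subgroup G).subtype

theorem subgroupOf_le_frattini_iff (P : Sylow p G) (K : Subgroup G) :
    K.subgroupOf (P : Subgroup G) ≤ frattini ↥(P : Subgroup G) ↔ K ⊓ (P : Subgroup G) ≤ frat P := by
  constructor
  · intro h x hx
    exact ⟨⟨x, hx.2⟩, h (Subgroup.mem_subgroupOf.mpr hx.1), rfl⟩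
  · intro h x hx
    have hx' : (x : G) ∈ K ⊓ (P : Subgroup G) := ⟨Subgroup.mem_subgroupOf.mp hx, x.2⟩
    obtain ⟨y, hy, hyx⟩ := h hx'
    have : y = x := Subtype.ext hyx
    rwa [← this]

/-- Tate: a nontrivial normal subgroup does not meet `P` inside `Φ(P)`. -/
theorem not_inf_le_frat (P : Sylow p G) (hcore : pPrimeCore p G = ⊥)
    (hfrat : (frat P).normalCore = ⊥) (K : Subgroup G) [K.Normal] (hK : K ≠ ⊥) :
    ¬ K ⊓ (P : Subgroup G) ≤ frat P := by
  intro h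
  have hnpc := Cfsg.Agent.Lib.Helper14.hasNormalPComplement_of_inf_le_frattini P K h
  have hKp : IsPGroup p K := Cfsg.Agent.Lib.Helper97.isPGroup_of_pn_of_normal K hnpc hcore
  have hKP : K ≤ (P : Subgroup G) := Cfsg.Agent.Lib.Helper69.le_sylow_of_normal_isPGroup hKp P
  have h1 : K ≤ frat P := by
    have : K ⊓ (P : Subgroup G) = K := inf_eq_left.mpr hKP
    rwa [this] at h
  have h2 : K ≤ (frat P).normalCore := Subgroup.normal_le_normalCore.mpr h1
  rw [hfrat, le_bot_iff] at h2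
  exact hK h2

/-- Two subgroups normalized by `P`, meeting `P` outside `Φ(P)`, with trivial common
intersection with `P`, force `P` commutative. -/
theorem isMulCommutative_of_inf_eq_bot (P : Sylow p G)
    (hidx : (frattini ↥(P : Subgroup G)).index = p ^ 2) (K₁ K₂ : Subgroup G)
    (hn₁ : (P : Subgroup G) ≤ Subgroup.normalizer (K₁ : Set G))
    (hn₂ : (P : Subgroup G) ≤ Subgroup.normalizer (K₂ : Set G))
    (h₁ : ¬ K₁ ⊓ (P : Subgroup G) ≤ frat P) (h₂ : ¬ K₂ ⊓ (P : Subgroup G) ≤ frat P)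
    (h : K₁ ⊓ K₂ ⊓ (P : Subgroup G) = ⊥) : IsMulCommutative ↥(P : Subgroup G) := by
  have n₁ : (K₁.subgroupOf (P : Subgroup G)).Normal :=
    Subgroup.normal_subgroupOf_of_le_normalizer hn₁
  have n₂ : (K₂.subgroupOf (P : Subgroup G)).Normal :=
    Subgroup.normal_subgroupOf_of_le_normalizer hn₂
  have hbot : K₁.subgroupOf (P : Subgroup G) ⊓ K₂.subgroupOf (P : Subgroup G) = ⊥ := by
    rw [eq_bot_iff]
    intro x hx
    have hx' : (x : G) ∈ K₁ ⊓ K₂ ⊓ (P : Subgroup G) :=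
      ⟨⟨Subgroup.mem_subgroupOf.mp hx.1, Subgroup.mem_subgroupOf.mp hx.2⟩, x.2⟩
    rw [h, Subgroup.mem_bot] at hx'
    rw [Subgroup.mem_bot]
    exact Subtype.ext hx'
  exact ⟨⟨fun a b => mul_comm_of_inf_eq_bot hidx _ _
    (fun hle => h₁ ((subgroupOf_le_frattini_iff P K₁).mp hle))
    (fun hle => h₂ ((subgroupOf_le_frattini_iff P K₂).mp hle)) hbot a b⟩⟩

/-- Decomposition `P = ⟨x⟩ (K ∩ P)`. -/
theorem exists_gen (P : Sylow p G)
    (hidx : (frattini ↥(P : Subgroup G)).index = p ^ 2) (K : Subgroup G)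
    (hn : (P : Subgroup G) ≤ Subgroup.normalizer (K : Set G))
    (hK : ¬ K ⊓ (P : Subgroup G) ≤ frat P) :
    ∃ x ∈ (P : Subgroup G), ∀ u ∈ (P : Subgroup G), ∃ i : ℤ, ∃ t ∈ K ⊓ (P : Subgroup G),
      u = x ^ i * t := by
  have n₁ : (K.subgroupOf (P : Subgroup G)).Normal :=
    Subgroup.normal_subgroupOf_of_le_normalizer hn
  obtain ⟨x, hx⟩ := exists_zpowers_sup_eq_top hidx (K.subgroupOf (P : Subgroup G))
    (fun hle => hK ((subgroupOf_le_frattini_iff P K).mp hle))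
  refine ⟨x, x.2, fun u hu => ?_⟩
  obtain ⟨i, t, ht, hut⟩ := exists_zpow_mul_of_sup_eq_top _ hx ⟨u, hu⟩
  refine ⟨i, t, ⟨Subgroup.mem_subgroupOf.mp ht, t.2⟩, ?_⟩
  have := congrArg Subtype.val hut
  simpa using this

/-- The image of `P` in `G / K` is cyclic when `P = ⟨x⟩ (K ∩ P)`. -/
theorem isCyclic_map_mk' (P : Sylow p G) (K : Subgroup G) [K.Normal] {x : G}
    (hdec : ∀ u ∈ (P : Subgroup G), ∃ i : ℤ, ∃ t ∈ K ⊓ (P : Subgroup G), u = x ^ i * t) :
    IsCyclic ↥((P : Subgroup G).map (QuotientGroup.mk' K)) := by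
  have hle : (P : Subgroup G).map (QuotientGroup.mk' K) ≤
      Subgroup.zpowers (QuotientGroup.mk' K x) := by
    rintro _ ⟨u, hu, rfl⟩
    obtain ⟨i, t, ht, rfl⟩ := hdec u hu
    refine Subgroup.mem_zpowers_iff.mpr ⟨i, ?_⟩
    rw [map_mul, map_zpow]
    have : QuotientGroup.mk' K t = 1 := (QuotientGroup.eq_one_iff t).mpr ht.1
    rw [this, mul_one]
  exact Subgroup.isCyclic_of_le hle

/-- Two nontrivial normal subgroups meet nontrivially. -/
theorem inf_ne_bot (P : Sylow p G) (hna : ¬ IsMulCommutative ↥(P : Subgroup G))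
    (hidx : (frattini ↥(P : Subgroup G)).index = p ^ 2) (hcore : pPrimeCore p G = ⊥)
    (hfrat : (frat P).normalCore = ⊥) (K₁ K₂ : Subgroup G) [h₁ : K₁.Normal] [h₂ : K₂.Normal]
    (hK₁ : K₁ ≠ ⊥) (hK₂ : K₂ ≠ ⊥) : K₁ ⊓ K₂ ≠ ⊥ := by
  intro h
  apply hna
  refine isMulCommutative_of_inf_eq_bot P hidx K₁ K₂ ?_ ?_
    (not_inf_le_frat P hcore hfrat K₁ hK₁) (not_inf_le_frat P hcore hfrat K₂ hK₂) ?_
  · rw [Subgroup.normalizer_eq_top]; exact le_top
  · rw [Subgroup.normalizer_eq_top]; exact le_top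
  · rw [h, bot_inf_eq]

/-- There is a unique minimal normal subgroup. -/
theorem exists_unique_min_normal (P : Sylow p G) (hna : ¬ IsMulCommutative ↥(P : Subgroup G))
    (hidx : (frattini ↥(P : Subgroup G)).index = p ^ 2) (hcore : pPrimeCore p G = ⊥)
    (hfrat : (frat P).normalCore = ⊥) :
    ∃ N : Subgroup G, N.Normal ∧ N ≠ ⊥ ∧ ∀ K : Subgroup G, K.Normal → K ≠ ⊥ → N ≤ K := by
  have htop : (⊤ : Subgroup G) ≠ ⊥ := by
    intro h
    apply hna
    refine ⟨⟨fun a b => ?_⟩⟩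
    have ha : (a : G) ∈ (⊤ : Subgroup G) := trivial
    have hb : (b : G) ∈ (⊤ : Subgroup G) := trivial
    rw [h, Subgroup.mem_bot] at ha hb
    apply Subtype.ext
    rw [Subgroup.coe_mul, Subgroup.coe_mul, ha, hb]
  have hne : {K : Subgroup G | K.Normal ∧ K ≠ ⊥}.Nonempty := ⟨⊤, inferInstance, htop⟩
  obtain ⟨N, ⟨hNn, hN⟩, hmin⟩ := wellFounded_lt.has_min _ hne
  refine ⟨N, hNn, hN, fun K hKn hK => ?_⟩
  have hinf : N ⊓ K ≠ ⊥ := inf_ne_bot P hna hidx hcore hfrat N K hN hK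
  have hnl : ¬ N ⊓ K < N := hmin (N ⊓ K) ⟨inferInstance, hinf⟩
  have heq : N ⊓ K = N := by
    by_contra hne'
    exact hnl (lt_of_le_of_ne inf_le_left hne')
  rw [← heq]
  exact inf_le_right

end Cfsg.Agent.Lib.Helper58.TG
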