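import Cfsg.Agent.Lib.Helper97.ThompsonPN
import Cfsg.Agent.Lib.Helper54.FStarQ

set_option autoImplicit false
set_option linter.unusedSectionVars false

/-! Generic lemmas: perfect groups have no normal `p`-complement, central `p`-elements of perfect
groups with commutative Sylow subgroups, and a lemma on cyclic `p`-groups. -/

namespace Cfsg.Agent.Lib.Helper58.TG

open Cfsg
open scoped commutatorElement

/-- A perfect group of order divisible by `p` has no normal `p`-complement. -/
theorem not_pn_of_perfect {H : Type*} [Group H] [Finite H] {p : ℕ} [hp : Fact p.Prime]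
    (hperf : commutator H = ⊤) (hdvd : p ∣ Nat.card H) : ¬ HasNormalPComplement p H := by
  intro h
  obtain ⟨L, hL, hcop, k, hk⟩ := Cfsg.Agent.Lib.Helper97.pn_iff.mp h
  have hcardq : Nat.card (H ⧸ L) = p ^ k := by rw [← hk]; exact (Subgroup.index_eq_card L).symm
  have hpg : IsPGroup p (H ⧸ L) := IsPGroup.of_card hcardq
  have hk1 : k ≠ 0 := by
    rintro rfl
    rw [pow_zero] at hk
    have h1 := Subgroup.card_mul_index L
    rw [hk, mul_one] at h1
    rw [← h1] at hdvd
    have := Nat.Coprime.eq_one_of_dvd hcop.symm hdvd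
    exact hp.out.one_lt.ne' this
  have hnt : Nontrivial (H ⧸ L) := by
    rw [← Finite.one_lt_card_iff_nontrivial, hcardq]
    exact Nat.one_lt_pow hk1 hp.out.one_lt
  have hnil : Group.IsNilpotent (H ⧸ L) := hpg.isNilpotent
  have hsol : Group.IsSolvable (H ⧸ L) := inferInstance
  have hlt := Group.IsSolvable.commutator_lt_top_of_nontrivial (H ⧸ L)
  have htop : commutator (H ⧸ L) = ⊤ := by
    rw [commutator_def]
    have h1 := Subgroup.map_commutator (⊤ : Subgroup H) ⊤ (QuotientGroup.mk' L)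
    rw [Subgroup.map_top_of_surjective _ (QuotientGroup.mk'_surjective L), ← commutator_def,
      hperf, Subgroup.map_top_of_surjective _ (QuotientGroup.mk'_surjective L)] at h1
    exact h1.symm
  rw [htop] at hlt
  exact lt_irrefl _ hlt

/-- In a perfect group with a commutative Sylow `p`-subgroup, a central `p`-element is trivial. -/
theorem eq_one_of_mem_center_of_perfect {H : Type*} [Group H] [Finite H] {p : ℕ}
    [hp : Fact p.Prime] (S : Sylow p H) (hS : ∀ a ∈ (S : Subgroup H), ∀ b ∈ (S : Subgroup H),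
      a * b = b * a) (hperf : commutator H = ⊤) {z : H} (hzS : z ∈ (S : Subgroup H))
    (hzc : z ∈ Subgroup.center H) : z = 1 := by
  have hz' : z ∈ commutator H := by rw [hperf]; trivial
  have h1 := Cfsg.Agent.Lib.Helper54.pow_index_mem_commutator_of_mem_center (S : Subgroup H) hzc hz'
  have hbot : ⁅(S : Subgroup H), (S : Subgroup H)⁆ = ⊥ := by
    rw [eq_bot_iff, Subgroup.commutator_le]
    intro a ha b hb
    rw [Subgroup.mem_bot, commutatorElement_eq_one_iff_mul_comm]
    exact hS a ha b hb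
  rw [hbot, Subgroup.mem_bot] at h1
  obtain ⟨k, hk⟩ := S.isPGroup' ⟨z, hzS⟩
  have hk' : z ^ p ^ k = 1 := by
    have := congrArg Subtype.val hk
    simpa using this
  have hd1 : orderOf z ∣ (S : Subgroup H).index := orderOf_dvd_of_pow_eq_one h1
  have hd2 : orderOf z ∣ p ^ k := orderOf_dvd_of_pow_eq_one hk'
  have hcop : (p ^ k).Coprime (S : Subgroup H).index :=
    Nat.Coprime.pow_left k ((Nat.Prime.coprime_iff_not_dvd hp.out).mpr S.not_dvd_index)
  have : orderOf z = 1 := Nat.eq_one_of_dvd_coprimes hcop hd2 hd1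
  exact orderOf_eq_one_iff.mp this

/-- In a cyclic `p`-group `⟨x⟩`, every nontrivial subgroup contains the elements of order
dividing `p`. -/
theorem mem_zpowers_of_pow_eq_one {G : Type*} [Group G] {p : ℕ} [hp : Fact p.Prime] {x : G} {m : ℕ}
    (hx : x ^ p ^ m = 1) {a y : G} (ha : a ∈ Subgroup.zpowers x) (ha1 : a ≠ 1)
    (hy : y ∈ Subgroup.zpowers x) (hyp : y ^ p = 1) : y ∈ Subgroup.zpowers a := by
  have hfin : IsOfFinOrder x := isOfFinOrder_iff_pow_eq_one.mpr ⟨p ^ m, pow_pos hp.out.pos m, hx⟩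
  obtain ⟨m', _, hm'⟩ := (Nat.dvd_prime_pow hp.out).1 (orderOf_dvd_of_pow_eq_one hx)
  obtain ⟨j, rfl⟩ := (Submonoid.mem_powers_iff _ _).mp (hfin.mem_powers_iff_mem_zpowers.mpr ha)
  obtain ⟨i, rfl⟩ := (Submonoid.mem_powers_iff _ _).mp (hfin.mem_powers_iff_mem_zpowers.mpr hy)
  obtain ⟨s, hsle, hs⟩ := (Nat.dvd_prime_pow hp.out).1 (Nat.gcd_dvd_right j (p ^ m'))
  have hslt : s < m' := by
    by_contra hge
    have hsm : s = m' := le_antisymm hsle (not_lt.mp hge)
    apply ha1
    have hdvd : p ^ m' ∣ j := by rw [← hsm, ← hs]; exact Nat.gcd_dvd_left _ _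
    rw [← hm'] at hdvd
    exact orderOf_dvd_iff_pow_eq_one.mp hdvd
  have h1 : p ^ m' ∣ i * p := by
    rw [← hm']; apply orderOf_dvd_of_pow_eq_one; rw [pow_mul]; exact hyp
  have h2 : p ^ s ∣ i := by
    have h3 : p ^ (s + 1) ∣ i * p := (pow_dvd_pow p hslt).trans h1
    rw [pow_succ] at h3
    exact (Nat.mul_dvd_mul_iff_right hp.out.pos).mp h3
  obtain ⟨t, ht⟩ := h2
  have h3 : x ^ (p ^ s) ∈ Subgroup.zpowers (x ^ j) := by
    rw [← hs]
    have hb := Nat.gcd_eq_gcd_ab j (p ^ m')
    have h4 : x ^ (Nat.gcd j (p ^ m')) = (x ^ j) ^ (Nat.gcdA j (p ^ m')) := by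
      rw [← zpow_natCast x (Nat.gcd _ _), hb, zpow_add, zpow_mul, zpow_mul, zpow_natCast,
        zpow_natCast, ← hm', pow_orderOf_eq_one, one_zpow, mul_one]
    rw [h4]; exact Subgroup.zpow_mem_zpowers _ _
  rw [ht, pow_mul]
  exact Subgroup.pow_mem _ h3 t

end Cfsg.Agent.Lib.Helper58.TG
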