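import Cfsg.Agent.Lib.Helper58.TG2
import Cfsg.Agent.Lib.Helper58.TG3
import Cfsg.Agent.Lib.Helper58.Basic
import Cfsg.Agent.Lib.Helper01.PCore
import Cfsg.Agent.Lib.Helper03.PGroupFrattini
import Cfsg.Agent.Lib.Helper29.LocalCore
import Cfsg.Agent.Lib.Helper30.Layer
import Cfsg.Agent.Lib.Helper30.FStar
import Cfsg.Agent.S0051

set_option autoImplicit false
set_option linter.unusedSectionVars false

/-! The commutative case: if the unique minimal normal subgroup `N` is commutative then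
`F*(G) ≤ N`. -/

namespace Cfsg.Agent.Lib.Helper58.TG

open Cfsg
open scoped commutatorElement

variable {G : Type*} [Group G] [Finite G] {p : ℕ} [hp : Fact p.Prime]

/-- `P' ≤ Φ(P)` inside `G`. -/
theorem commutator_le_frat (P : Sylow p G) :
    ⁅(P : Subgroup G), (P : Subgroup G)⁆ ≤ frat P := by
  rw [← Subgroup.map_subtype_commutator]
  exact Subgroup.map_mono
    (Cfsg.Agent.Lib.Helper03.commutator_le_frattini_of_isPGroup P.isPGroup')

/-- `p`-th powers of elements of `P` lie in `Φ(P)`. -/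
theorem pow_mem_frat (P : Sylow p G) {u : G} (hu : u ∈ (P : Subgroup G)) : u ^ p ∈ frat P :=
  ⟨⟨u, hu⟩ ^ p, Cfsg.Agent.Lib.Helper03.pow_mem_frattini_of_isPGroup P.isPGroup' ⟨u, hu⟩, rfl⟩

/-- `O_p(G)` is commutative when `Φ(P)` is core-free. -/
theorem pCore_comm (P : Sylow p G) (hfrat : (frat P).normalCore = ⊥) :
    ∀ a ∈ pCore p G, ∀ b ∈ pCore p G, a * b = b * a := by
  have hQn : (pCore p G).Normal := Cfsg.Agent.Lib.Helper01.pCore_normal p
  have hQP : pCore p G ≤ (P : Subgroup G) := Cfsg.Agent.Lib.Helper01.pCore_le_sylow P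
  have h1 : ⁅pCore p G, pCore p G⁆ ≤ frat P :=
    (Subgroup.commutator_mono hQP hQP).trans (commutator_le_frat P)
  have h2 : ⁅pCore p G, pCore p G⁆ ≤ (frat P).normalCore := Subgroup.normal_le_normalCore.mpr h1
  rw [hfrat, le_bot_iff] at h2
  intro a ha b hb
  have : ⁅a, b⁆ ∈ ⁅pCore p G, pCore p G⁆ := Subgroup.commutator_mem_commutator ha hb
  rw [h2, Subgroup.mem_bot] at this
  exact commutatorElement_eq_one_iff_mul_comm.mp this

/-- `O_p(G)` has exponent `p` when `Φ(P)` is core-free. -/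
theorem pCore_pow (P : Sylow p G) (hfrat : (frat P).normalCore = ⊥) :
    ∀ a ∈ pCore p G, a ^ p = 1 := by
  have hQn : (pCore p G).Normal := Cfsg.Agent.Lib.Helper01.pCore_normal p
  have hQP : pCore p G ≤ (P : Subgroup G) := Cfsg.Agent.Lib.Helper01.pCore_le_sylow P
  intro a ha
  have h1 : a ^ p ∈ (frat P).normalCore := by
    intro b
    have h2 : b * a ^ p * b⁻¹ = (b * a * b⁻¹) ^ p := by rw [conj_pow]
    rw [h2]
    exact pow_mem_frat P (hQP (hQn.conj_mem a ha b))
  rwa [hfrat, Subgroup.mem_bot] at h1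

/-- In the commutative case `O_p(G) ≤ N`. -/
theorem pCore_le_of_comm (P : Sylow p G)
    (hidx : (frattini ↥(P : Subgroup G)).index = p ^ 2) (hcore : pPrimeCore p G = ⊥)
    (hfrat : (frat P).normalCore = ⊥) (N : Subgroup G) [hNn : N.Normal] (hN : N ≠ ⊥)
    (hmin : ∀ K : Subgroup G, K.Normal → K ≠ ⊥ → N ≤ K) [hNc : IsMulCommutative ↥N] :
    pCore p G ≤ N := by
  have hQn : (pCore p G).Normal := Cfsg.Agent.Lib.Helper01.pCore_normal p
  have hQP : pCore p G ≤ (P : Subgroup G) := Cfsg.Agent.Lib.Helper01.pCore_le_sylow P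
  have hQc := pCore_comm P hfrat
  have hQe := pCore_pow P hfrat
  have hNQ : N ≤ pCore p G :=
    (Cfsg.Agent.Lib.Helper30.le_fitting_of_normal_comm hNn hNc).trans
      (Cfsg.Agent.Lib.Helper29.fitting_le_pCore_of_pPrimeCore_eq_bot p hcore)
  have hNP : N ≤ (P : Subgroup G) := hNQ.trans hQP
  by_contra hle
  obtain ⟨q, hqQ, hqN⟩ := SetLike.not_le_iff_exists.mp hle
  obtain ⟨x, hxP, hdec⟩ := exists_gen P hidx N
    (by rw [Subgroup.normalizer_eq_top]; exact le_top) (not_inf_le_frat P hcore hfrat N hN)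
  obtain ⟨i, t, ht, hqt⟩ := hdec q (hQP hqQ)
  have hyQ : x ^ i ∈ pCore p G := by
    have h1 : x ^ i = q * t⁻¹ := by rw [hqt]; group
    rw [h1]; exact mul_mem hqQ (inv_mem (hNQ ht.1))
  have hyN : x ^ i ∉ N := by
    intro h; apply hqN; rw [hqt]; exact mul_mem h ht.1
  have hyp : (x ^ i) ^ p = 1 := hQe _ hyQ
  obtain ⟨m, hm⟩ := P.isPGroup' ⟨x, hxP⟩
  have hxm : x ^ p ^ m = 1 := by simpa using congrArg Subtype.val hm
  have hAN : Subgroup.zpowers x ⊓ N = ⊥ := by
    rw [eq_bot_iff]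
    intro a ha
    rw [Subgroup.mem_bot]
    by_contra ha1
    exact hyN (Subgroup.zpowers_le.mpr ha.2
      (mem_zpowers_of_pow_eq_one hxm ha.1 ha1 (Subgroup.zpow_mem_zpowers x i) hyp))
  have hAP : Subgroup.zpowers x ≤ (P : Subgroup G) := Subgroup.zpowers_le.mpr hxP
  have hsup : N ⊔ Subgroup.zpowers x = (P : Subgroup G) := by
    apply le_antisymm (sup_le hNP hAP)
    intro u hu
    obtain ⟨j, s, hs, rfl⟩ := hdec u hu
    exact mul_mem (Subgroup.mem_sup_right (Subgroup.zpow_mem_zpowers x j))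
      (Subgroup.mem_sup_left hs.1)
  have hcop : (Nat.card N).Coprime (P : Subgroup G).index := by
    obtain ⟨k, hk⟩ := IsPGroup.iff_card.mp (P.isPGroup'.to_le hNP)
    rw [hk]
    exact Nat.Coprime.pow_left k ((Nat.Prime.coprime_iff_not_dvd hp.out).mpr P.not_dvd_index)
  obtain ⟨H, hH⟩ := Cfsg.Agent.S0051.result N (P : Subgroup G) hNP hcop (Subgroup.zpowers x)
    hAP hAN hsup
  have hRn : (pCore p G ⊓ H).Normal := by
    refine ⟨fun r hr g => ?_⟩
    refine ⟨hQn.conj_mem r hr.1 g, ?_⟩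
    obtain ⟨⟨n, h⟩, hnh⟩ := hH.2 g
    have hnh' : (n : G) * (h : G) = g := hnh
    have hnN : (n : G) ∈ N := n.2
    have hhH : (h : G) ∈ H := h.2
    have hr'Q : (h : G) * r * (h : G)⁻¹ ∈ pCore p G := hQn.conj_mem r hr.1 _
    have hr'H : (h : G) * r * (h : G)⁻¹ ∈ H := mul_mem (mul_mem hhH hr.2) (inv_mem hhH)
    have hcomm := hQc _ (hNQ hnN) _ hr'Q
    have : g * r * g⁻¹ = (h : G) * r * (h : G)⁻¹ := by
      rw [← hnh', mul_inv_rev]
      calc (n : G) * (h : G) * r * ((h : G)⁻¹ * (n : G)⁻¹)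
          = ((n : G) * ((h : G) * r * (h : G)⁻¹)) * (n : G)⁻¹ := by group
        _ = (((h : G) * r * (h : G)⁻¹) * (n : G)) * (n : G)⁻¹ := by rw [hcomm]
        _ = (h : G) * r * (h : G)⁻¹ := by group
    rw [this]
    exact hr'H
  have hRne : pCore p G ⊓ H ≠ ⊥ := by
    intro hbot
    apply hqN
    obtain ⟨⟨n, h⟩, hnh⟩ := hH.2 q
    have hnh' : (n : G) * (h : G) = q := hnh
    have hnN : (n : G) ∈ N := n.2
    have hhH : (h : G) ∈ H := h.2
    have hhQ : (h : G) ∈ pCore p G := by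
      have : (h : G) = (n : G)⁻¹ * q := by rw [← hnh']; group
      rw [this]
      exact mul_mem (inv_mem (hNQ hnN)) hqQ
    have hh1 : (h : G) ∈ pCore p G ⊓ H := ⟨hhQ, hhH⟩
    rw [hbot, Subgroup.mem_bot] at hh1
    rw [← hnh', hh1, mul_one]
    exact hnN
  have hNR : N ≤ pCore p G ⊓ H := hmin _ hRn hRne
  have hdisj : N ⊓ H = ⊥ := hH.disjoint.eq_bot
  apply hN
  rw [eq_bot_iff, ← hdisj]
  exact le_inf le_rfl (hNR.trans inf_le_right)

/-- In the commutative case the layer is trivial. -/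
theorem layer_eq_bot_of_comm (P : Sylow p G)
    (hidx : (frattini ↥(P : Subgroup G)).index = p ^ 2) (hcore : pPrimeCore p G = ⊥)
    (hfrat : (frat P).normalCore = ⊥) (N : Subgroup G) [hNn : N.Normal] (hN : N ≠ ⊥)
    (hmin : ∀ K : Subgroup G, K.Normal → K ≠ ⊥ → N ≤ K) [hNc : IsMulCommutative ↥N] :
    layer G = ⊥ := by
  by_contra hE
  have hEn : (layer G).Normal := Cfsg.Agent.Lib.Helper30.layer_normal
  have hNE : N ≤ layer G := hmin _ hEn hE
  have hNF : N ≤ fittingSubgroup G := Cfsg.Agent.Lib.Helper30.le_fitting_of_normal_comm hNn hNc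
  have hNQ : N ≤ pCore p G :=
    hNF.trans (Cfsg.Agent.Lib.Helper29.fitting_le_pCore_of_pPrimeCore_eq_bot p hcore)
  have hNP : N ≤ (P : Subgroup G) := hNQ.trans (Cfsg.Agent.Lib.Helper01.pCore_le_sylow P)
  -- `N` centralizes the layer
  have hcent : ∀ e ∈ layer G, ∀ n ∈ N, e * n = n * e := by
    intro e he n hn
    have h1 : ⁅e, n⁆ ∈ ⁅layer G, fittingSubgroup G⁆ :=
      Subgroup.commutator_mem_commutator he (hNF hn)
    rw [Cfsg.Agent.Lib.Helper30.layer_commute_fitting, Subgroup.mem_bot] at h1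
    exact commutatorElement_eq_one_iff_mul_comm.mp h1
  obtain ⟨x, hxP, hdec⟩ := exists_gen P hidx N
    (by rw [Subgroup.normalizer_eq_top]; exact le_top) (not_inf_le_frat P hcore hfrat N hN)
  -- the Sylow subgroup of the layer is commutative
  have hScomm : ∀ a ∈ (P : Subgroup G) ⊓ layer G, ∀ b ∈ (P : Subgroup G) ⊓ layer G,
      a * b = b * a := by
    intro a ha b hb
    obtain ⟨i, t, ht, rfl⟩ := hdec a ha.1
    obtain ⟨j, s, hs, rfl⟩ := hdec b hb.1
    have hxi : x ^ i ∈ layer G := by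
      have h1 : x ^ i = (x ^ i * t) * t⁻¹ := by group
      rw [h1]; exact mul_mem ha.2 (inv_mem (hNE ht.1))
    have hxj : x ^ j ∈ layer G := by
      have h1 : x ^ j = (x ^ j * s) * s⁻¹ := by group
      rw [h1]; exact mul_mem hb.2 (inv_mem (hNE hs.1))
    have c1 := hcent _ hxj t ht.1
    have c2 := hcent _ hxi s hs.1
    have c3 := hcent _ (hNE hs.1) t ht.1
    have c4 : x ^ i * x ^ j = x ^ j * x ^ i := by rw [← zpow_add, ← zpow_add, add_comm]
    calc x ^ i * t * (x ^ j * s) = x ^ i * (t * x ^ j) * s := by group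
      _ = x ^ i * (x ^ j * t) * s := by rw [c1]
      _ = (x ^ i * x ^ j) * (t * s) := by group
      _ = (x ^ j * x ^ i) * (s * t) := by rw [c4, c3]
      _ = x ^ j * (x ^ i * s) * t := by group
      _ = x ^ j * (s * x ^ i) * t := by rw [c2]
      _ = x ^ j * s * (x ^ i * t) := by group
  -- the layer is perfect
  have hperf : commutator ↥(layer G) = ⊤ := by
    have h1 := Subgroup.map_subtype_commutator (layer G)
    rw [Cfsg.Agent.Lib.Helper30.layer_perfect] at h1
    apply Subgroup.map_injective (Subgroup.subtype_injective (layer G))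
    rw [h1, ← MonoidHom.range_eq_map, Subgroup.range_subtype]
  obtain ⟨z, hz1⟩ := (Subgroup.ne_bot_iff_exists_ne_one.mp hN)
  have hz : (⟨z, hNE z.2⟩ : ↥(layer G)) = 1 := by
    refine eq_one_of_mem_center_of_perfect (sylowInfNormal P (layer G)) ?_ hperf ?_ ?_
    · intro a ha b hb
      rw [sylowInfNormal_coe, Subgroup.mem_subgroupOf] at ha hb
      apply Subtype.ext
      rw [Subgroup.coe_mul, Subgroup.coe_mul]
      exact hScomm _ ha _ hb
    · rw [sylowInfNormal_coe, Subgroup.mem_subgroupOf]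
      exact ⟨hNP z.2, hNE z.2⟩
    · rw [Subgroup.mem_center_iff]
      intro e
      apply Subtype.ext
      rw [Subgroup.coe_mul, Subgroup.coe_mul]
      exact hcent _ e.2 _ z.2
  apply hz1
  have := congrArg Subtype.val hz
  exact Subtype.ext this

/-- In the commutative case `F*(G) ≤ N`. -/
theorem genFitting_le_of_comm (P : Sylow p G)
    (hidx : (frattini ↥(P : Subgroup G)).index = p ^ 2) (hcore : pPrimeCore p G = ⊥)
    (hfrat : (frat P).normalCore = ⊥) (N : Subgroup G) [hNn : N.Normal] (hN : N ≠ ⊥)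
    (hmin : ∀ K : Subgroup G, K.Normal → K ≠ ⊥ → N ≤ K) [hNc : IsMulCommutative ↥N] :
    generalizedFittingSubgroup G ≤ N := by
  unfold generalizedFittingSubgroup
  rw [layer_eq_bot_of_comm P hidx hcore hfrat N hN hmin, bot_sup_eq]
  exact (Cfsg.Agent.Lib.Helper29.fitting_le_pCore_of_pPrimeCore_eq_bot p hcore).trans
    (pCore_le_of_comm P hidx hcore hfrat N hN hmin)

end Cfsg.Agent.Lib.Helper58.TG
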