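import Cfsg.Agent.Lib.Helper58.TG4
import Cfsg.Agent.Lib.Helper29.PComponent

set_option autoImplicit false
set_option linter.unusedSectionVars false

/-! The non-commutative case: `F(G) = 1`, `F*(G) = E(G) ≤ N`, and `P` is transitive on the
components (Tate's theorem inside `P N₁`). -/

namespace Cfsg.Agent.Lib.Helper58.TG

open Cfsg
open scoped commutatorElement

variable {G : Type*} [Group G] [Finite G] {p : ℕ} [hp : Fact p.Prime]

/-- A subgroup which is perfect as a subgroup is perfect as a group. -/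
theorem commutator_eq_top_of_perfect {M : Subgroup G} (hperf : ⁅M, M⁆ = M) :
    commutator ↥M = ⊤ := by
  have h1 := Subgroup.map_subtype_commutator M
  rw [hperf] at h1
  apply Subgroup.map_injective (Subgroup.subtype_injective M)
  rw [h1, ← MonoidHom.range_eq_map, Subgroup.range_subtype]

/-- Relative Tate: a perfect subgroup `M` of order divisible by `p` normalized by `P` does not
meet `P` inside `Φ(P)`. -/
theorem not_inf_le_frat_of_perfect (P : Sylow p G) (M : Subgroup G)
    (hn : (P : Subgroup G) ≤ Subgroup.normalizer (M : Set G)) (hperf : ⁅M, M⁆ = M)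
    (hdvd : p ∣ Nat.card M) : ¬ M ⊓ (P : Subgroup G) ≤ frat P := by
  intro h
  have hPX : (P : Subgroup G) ≤ (P : Subgroup G) ⊔ M := le_sup_left
  have hMX : M ≤ (P : Subgroup G) ⊔ M := le_sup_right
  have hMn : (M.subgroupOf ((P : Subgroup G) ⊔ M)).Normal :=
    Subgroup.normal_subgroupOf_sup_of_le_normalizer hn
  have key : M.subgroupOf ((P : Subgroup G) ⊔ M) ⊓ ((P.subtype hPX : Sylow p _) : Subgroup _) ≤
      (frattini ↥((P.subtype hPX : Sylow p _) : Subgroup ↥((P : Subgroup G) ⊔ M))).map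
        ((P.subtype hPX : Sylow p _) : Subgroup ↥((P : Subgroup G) ⊔ M)).subtype := by
    intro y hy
    have hyM : (y : G) ∈ M := Subgroup.mem_subgroupOf.mp hy.1
    have hyP : (y : G) ∈ (P : Subgroup G) := Subgroup.mem_subgroupOf.mp hy.2
    obtain ⟨v, hv, hvy⟩ := h ⟨hyM, hyP⟩
    let e : ↥(P : Subgroup G) →* ↥((P : Subgroup G).subgroupOf ((P : Subgroup G) ⊔ M)) :=
      (Subgroup.subgroupOfEquivOfLe hPX).symm.toMonoidHom
    have he : Function.Surjective e := (Subgroup.subgroupOfEquivOfLe hPX).symm.surjective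
    have hev : e v ∈ frattini ↥((P : Subgroup G).subgroupOf ((P : Subgroup G) ⊔ M)) :=
      frattini_le_comap_frattini_of_surjective he hv
    refine ⟨e v, hev, ?_⟩
    apply Subtype.ext
    have : ((e v : ↥((P : Subgroup G).subgroupOf ((P : Subgroup G) ⊔ M))) : G) = (v : G) := by
      simp [e]
    rw [← hvy]
    exact this
  have hnpc := Cfsg.Agent.Lib.Helper14.hasNormalPComplement_of_inf_le_frattini
    (P.subtype hPX) (M.subgroupOf ((P : Subgroup G) ⊔ M)) key
  have hnpc' : HasNormalPComplement p ↥M :=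
    Cfsg.Agent.Lib.Helper97.pn_of_injective (Subgroup.subgroupOfEquivOfLe hMX).symm.toMonoidHom
      (Subgroup.subgroupOfEquivOfLe hMX).symm.injective hnpc
  exact not_pn_of_perfect (commutator_eq_top_of_perfect hperf) hdvd hnpc'

/-- In the non-commutative case `F(G) = 1`. -/
theorem fitting_eq_bot_of_not_comm (N : Subgroup G) [hNn : N.Normal] (hN : N ≠ ⊥)
    (hmin : ∀ K : Subgroup G, K.Normal → K ≠ ⊥ → N ≤ K) (hNc : ¬ IsMulCommutative ↥N) :
    fittingSubgroup G = ⊥ := by
  by_contra hF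
  have hFn : (fittingSubgroup G).Normal := Cfsg.Agent.Lib.Helper30.fitting_normal
  have hNF : N ≤ fittingSubgroup G := hmin _ hFn hF
  have hFs : Group.IsSolvable ↥(fittingSubgroup G) := Cfsg.Agent.Lib.Helper30.fitting_isSolvable
  have hNs : Group.IsSolvable ↥N :=
    solvable_of_solvable_injective (Subgroup.inclusion_injective hNF)
  have hNnt : Nontrivial ↥N := (Subgroup.nontrivial_iff_ne_bot N).mpr hN
  have hlt := Group.IsSolvable.commutator_lt_top_of_nontrivial ↥N
  have hcn : (⁅N, N⁆ : Subgroup G).Normal := inferInstance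
  by_cases hc : ⁅N, N⁆ = ⊥
  · apply hNc
    refine ⟨⟨fun a b => ?_⟩⟩
    have h1 : ⁅(a : G), (b : G)⁆ ∈ ⁅N, N⁆ := Subgroup.commutator_mem_commutator a.2 b.2
    rw [hc, Subgroup.mem_bot] at h1
    apply Subtype.ext
    rw [Subgroup.coe_mul, Subgroup.coe_mul]
    exact commutatorElement_eq_one_iff_mul_comm.mp h1
  · have h1 : N ≤ ⁅N, N⁆ := hmin _ hcn hc
    have h2 : ⁅N, N⁆ = N := le_antisymm (Subgroup.commutator_le_self N) h1
    rw [commutator_eq_top_of_perfect h2] at hlt
    exact lt_irrefl _ hlt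

/-- In the non-commutative case every component lies in `N`. -/
theorem component_le_of_not_comm (N : Subgroup G) [hNn : N.Normal]
    (hmin : ∀ K : Subgroup G, K.Normal → K ≠ ⊥ → N ≤ K) (hNc : ¬ IsMulCommutative ↥N)
    {K : Subgroup G} (hK : IsComponent K) : K ≤ N := by
  rcases Cfsg.Agent.Lib.Helper30.component_normal_dichotomy hK.1 hK.2 hNn with h | h
  · exact h
  · exfalso
    apply hNc
    have h1 : K ≤ Subgroup.centralizer (N : Set G) :=
      Subgroup.commutator_eq_bot_iff_le_centralizer.mp h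
    have hCn : (Subgroup.centralizer (N : Set G)).Normal := inferInstance
    have hCne : Subgroup.centralizer (N : Set G) ≠ ⊥ := by
      intro hbot
      rw [hbot, le_bot_iff] at h1
      exact Cfsg.Agent.Lib.Helper30.component_ne_bot hK h1
    have h2 : N ≤ Subgroup.centralizer (N : Set G) := hmin _ hCn hCne
    refine ⟨⟨fun a b => ?_⟩⟩
    apply Subtype.ext
    rw [Subgroup.coe_mul, Subgroup.coe_mul]
    exact Subgroup.mem_centralizer_iff.mp (h2 b.2) a a.2

/-- In the non-commutative case `F*(G) ≤ N`. -/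
theorem genFitting_le_of_not_comm (N : Subgroup G) [hNn : N.Normal] (hN : N ≠ ⊥)
    (hmin : ∀ K : Subgroup G, K.Normal → K ≠ ⊥ → N ≤ K) (hNc : ¬ IsMulCommutative ↥N) :
    generalizedFittingSubgroup G ≤ N := by
  unfold generalizedFittingSubgroup
  rw [fitting_eq_bot_of_not_comm N hN hmin hNc, sup_bot_eq]
  exact Cfsg.Agent.Lib.Helper30.layer_le fun K hK => component_le_of_not_comm N hmin hNc hK

/-- `P` is transitive on the components when `F(G) = 1`. -/
theorem exists_conj_of_fitting_eq_bot (P : Sylow p G)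
    (hna : ¬ IsMulCommutative ↥(P : Subgroup G))
    (hidx : (frattini ↥(P : Subgroup G)).index = p ^ 2) (hcore : pPrimeCore p G = ⊥)
    (hF : fittingSubgroup G = ⊥) {K L : Subgroup G} (hK : IsComponent K) (hL : IsComponent L) :
    ∃ x ∈ (P : Subgroup G), L = K.map (MulAut.conj x).toMonoidHom := by
  by_contra hno
  push Not at hno
  have hcompK : ∀ g, IsComponent (Cfsg.Agent.Lib.Helper29.cjMap K g) :=
    Cfsg.Agent.Lib.Helper29.isComponent_cjMap hK
  have hcompL : ∀ g, IsComponent (Cfsg.Agent.Lib.Helper29.cjMap L g) :=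
    Cfsg.Agent.Lib.Helper29.isComponent_cjMap hL
  -- facts about an orbit product
  have orbit : ∀ {K : Subgroup G}, IsComponent K →
      ¬ (⨆ r : ↥(P : Subgroup G), Cfsg.Agent.Lib.Helper29.cjMap K (r : G)) ⊓ (P : Subgroup G) ≤
        frat P := by
    intro K hK
    have hcomp : ∀ g, IsComponent (Cfsg.Agent.Lib.Helper29.cjMap K g) :=
      Cfsg.Agent.Lib.Helper29.isComponent_cjMap hK
    have hKle : K ≤ ⨆ r : ↥(P : Subgroup G), Cfsg.Agent.Lib.Helper29.cjMap K (r : G) := by
      have h1 := le_iSup (fun r : ↥(P : Subgroup G) => Cfsg.Agent.Lib.Helper29.cjMap K (r : G)) 1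
      simpa [Cfsg.Agent.Lib.Helper29.cjMap_one] using h1
    apply not_inf_le_frat_of_perfect P _
      (Cfsg.Agent.Lib.Helper29.le_normalizer_iSup_cjMap K (P : Subgroup G))
    · apply le_antisymm (Subgroup.commutator_le_self _)
      apply iSup_le
      intro r
      have h1 := Cfsg.Agent.Lib.Helper30.component_perfect (hcomp (r : G))
      have h2 : Cfsg.Agent.Lib.Helper29.cjMap K (r : G) ≤
          ⨆ r : ↥(P : Subgroup G), Cfsg.Agent.Lib.Helper29.cjMap K (r : G) :=
        le_iSup (fun r : ↥(P : Subgroup G) => Cfsg.Agent.Lib.Helper29.cjMap K (r : G)) r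
      calc Cfsg.Agent.Lib.Helper29.cjMap K (r : G)
          = ⁅Cfsg.Agent.Lib.Helper29.cjMap K (r : G), Cfsg.Agent.Lib.Helper29.cjMap K (r : G)⁆ :=
            h1.symm
        _ ≤ _ := Subgroup.commutator_mono h2 h2
    · exact (Cfsg.Agent.Lib.Helper29.component_dvd_card p hcore K hK).trans
        (Subgroup.card_dvd_of_le hKle)
  have hne : ∀ s r : ↥(P : Subgroup G),
      Cfsg.Agent.Lib.Helper29.cjMap K (s : G) ≠ Cfsg.Agent.Lib.Helper29.cjMap L (r : G) := by
    intro s r heq
    apply hno ((r : G)⁻¹ * (s : G)) (mul_mem (inv_mem r.2) s.2)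
    have h1 : Cfsg.Agent.Lib.Helper29.cjMap L ((r : G)⁻¹ * (r : G)) =
        Cfsg.Agent.Lib.Helper29.cjMap K ((r : G)⁻¹ * (s : G)) := by
      rw [Cfsg.Agent.Lib.Helper29.cjMap_mul, Cfsg.Agent.Lib.Helper29.cjMap_mul, heq]
    rw [inv_mul_cancel, Cfsg.Agent.Lib.Helper29.cjMap_one] at h1
    exact h1
  have hcent : (⨆ r : ↥(P : Subgroup G), Cfsg.Agent.Lib.Helper29.cjMap L (r : G)) ≤
      Subgroup.centralizer ((⨆ r : ↥(P : Subgroup G),
        Cfsg.Agent.Lib.Helper29.cjMap K (r : G) : Subgroup G) : Set G) := by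
    apply iSup_le
    intro r
    rw [Subgroup.le_centralizer_iff]
    apply iSup_le
    intro s
    rw [← Subgroup.commutator_eq_bot_iff_le_centralizer]
    exact Cfsg.Agent.Lib.Helper30.component_commute (hcompK _) (hcompL _) (hne s r)
  have hbot : (⨆ r : ↥(P : Subgroup G), Cfsg.Agent.Lib.Helper29.cjMap K (r : G)) ⊓
      (⨆ r : ↥(P : Subgroup G), Cfsg.Agent.Lib.Helper29.cjMap L (r : G)) = ⊥ := by
    rw [eq_bot_iff, ← hF]
    exact (inf_le_inf_left _ hcent).trans
      (Cfsg.Agent.Lib.Helper29.orbit_center_le_fitting (P : Subgroup G) K hK)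
  apply hna
  exact isMulCommutative_of_inf_eq_bot P hidx _ _
    (Cfsg.Agent.Lib.Helper29.le_normalizer_iSup_cjMap K (P : Subgroup G))
    (Cfsg.Agent.Lib.Helper29.le_normalizer_iSup_cjMap L (P : Subgroup G))
    (orbit hK) (orbit hL) (by rw [hbot, bot_inf_eq])

end Cfsg.Agent.Lib.Helper58.TG
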