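import Mathlib
import Cfsg.Prelude.Def_PLocal
import Cfsg.Agent.Lib.Helper58.Basic
import Cfsg.Agent.Lib.Helper58.PGroupBasics
import Cfsg.Agent.Lib.Helper58.DStar

set_option autoImplicit false

namespace Cfsg.Agent.Lib.Helper58

open Subgroup
open scoped commutatorElement

variable {S : Type*} [Group S]

/-- If `K` normalizes `A`, every element of `A ⊔ K` is a product `a * k`. -/
theorem mem_sup_of_le_normalizer {A K : Subgroup S} (hK : K ≤ normalizer (A : Set S)) {y : S}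
    (hy : y ∈ A ⊔ K) : ∃ a ∈ A, ∃ k ∈ K, y = a * k := by
  rw [Subgroup.sup_eq_closure] at hy
  induction hy using Subgroup.closure_induction with
  | mem z hz =>
    rcases hz with hz | hz
    · exact ⟨z, hz, 1, K.one_mem, by simp⟩
    · exact ⟨1, A.one_mem, z, hz, by simp⟩
  | one => exact ⟨1, A.one_mem, 1, K.one_mem, by simp⟩
  | mul y₁ y₂ _ _ ih₁ ih₂ =>
    obtain ⟨a₁, ha₁, k₁, hk₁, rfl⟩ := ih₁
    obtain ⟨a₂, ha₂, k₂, hk₂, rfl⟩ := ih₂
    refine ⟨a₁ * (k₁ * a₂ * k₁⁻¹), A.mul_mem ha₁ ?_, k₁ * k₂, K.mul_mem hk₁ hk₂, by group⟩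
    exact (Subgroup.mem_normalizer_iff.mp (hK hk₁) a₂).mp ha₂
  | inv y _ ih =>
    obtain ⟨a, ha, k, hk, rfl⟩ := ih
    refine ⟨k⁻¹ * a⁻¹ * k⁻¹⁻¹, ?_, k⁻¹, K.inv_mem hk, by group⟩
    exact (Subgroup.mem_normalizer_iff.mp (hK (K.inv_mem hk)) a⁻¹).mp (A.inv_mem ha)

/-- Bounding a relative index by a "separating" function. -/
theorem relIndex_le_card_of_separating {A C : Subgroup S} {X : Type*} [Finite X] (g : A → X)
    (h : ∀ a a' : A, g a = g a' → (a : S)⁻¹ * (a' : S) ∈ C) : C.relIndex A ≤ Nat.card X := by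
  unfold Subgroup.relIndex
  rw [Subgroup.index_eq_card]
  apply Nat.card_le_card_of_injective (fun q : A ⧸ C.subgroupOf A => g q.out)
  intro q q' hqq'
  have h1 := h _ _ hqq'
  have h2 : (q.out : A ⧸ C.subgroupOf A) = q'.out := by
    rw [QuotientGroup.eq, Subgroup.mem_subgroupOf]
    simpa using h1
  rwa [QuotientGroup.out_eq', QuotientGroup.out_eq'] at h2

theorem card_eq_card_mul_relIndex [Finite S] {C A : Subgroup S} (h : C ≤ A) :
    Nat.card A = Nat.card C * C.relIndex A := by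
  rw [← relIndex_bot_left, ← relIndex_bot_left]
  exact (relIndex_mul_relIndex _ _ _ bot_le h).symm

/-- **Thompson's replacement theorem.** -/
theorem thompson_replacement [Finite S] {p : ℕ} [Fact p.Prime] (hS : IsPGroup p S)
    (A B : Subgroup S) (hA : A ∈ Cfsg.maxAbelianSubgroups S) (hB : IsMulCommutative B)
    (hAB : A ≤ normalizer (B : Set S)) (hBA : ¬ B ≤ normalizer (A : Set S)) :
    ∃ A' ∈ Cfsg.maxAbelianSubgroups S, A ⊓ B < A' ⊓ B ∧ A' ≤ normalizer (A : Set S) ∧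
      A' ≤ Subgroup.normalClosure (A : Set S) := by
  classical
  have hAc : IsMulCommutative A := hA.1
  set N : Subgroup S := B ⊓ normalizer (A : Set S) with hN
  set Z : Subgroup S := A ⊓ B with hZ
  have hZN : Z ≤ N := fun z hz => ⟨hz.2, Subgroup.le_normalizer hz.1⟩
  have hNB : N ≤ B := inf_le_left
  have hNnorm : N ≤ normalizer (A : Set S) := inf_le_right
  -- conjugation facts
  have hconjB : ∀ a ∈ A, ∀ b ∈ B, a * b * a⁻¹ ∈ B := fun a ha b hb =>
    (Subgroup.mem_normalizer_iff.mp (hAB ha) b).mp hb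
  have hconjA : ∀ n ∈ N, ∀ a ∈ A, n * a * n⁻¹ ∈ A := fun n hn a ha =>
    (Subgroup.mem_normalizer_iff.mp (hNnorm hn) a).mp ha
  -- Z is central in A ⊔ B
  have hZA : ∀ z ∈ Z, ∀ a ∈ A, z * a = a * z := fun z hz a ha =>
    comm_of_isMulCommutative hAc hz.1 ha
  have hZB : ∀ z ∈ Z, ∀ b ∈ B, z * b = b * z := fun z hz b hb =>
    comm_of_isMulCommutative hB hz.2 hb
  -- Step 2: the element x
  obtain ⟨x, hxB, hxN, hxcomm⟩ : ∃ x ∈ B, x ∉ N ∧ ∀ a ∈ A, ⁅x, a⁆ ∈ N := by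
    set T : Subgroup S := B ⊔ A with hT
    set H : Subgroup S := A ⊔ N with hH
    have hHT : H ≤ T := sup_le le_sup_right (hNB.trans le_sup_left)
    have hdedekind : ∀ y ∈ H, y ∈ B → y ∈ N := by
      intro y hyH hyB
      obtain ⟨a, ha, n, hn, rfl⟩ := mem_sup_of_le_normalizer hNnorm hyH
      have haB : a ∈ B := by
        have : a = (a * n) * n⁻¹ := by group
        rw [this]; exact B.mul_mem hyB (B.inv_mem (hNB hn))
      exact N.mul_mem (hZN ⟨ha, haB⟩) hn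
    have hHne : H ≠ T := by
      intro h
      apply hBA
      intro b hb
      have : b ∈ H := by rw [h]; exact (le_sup_left : B ≤ T) hb
      exact (hdedekind b this hb).2
    have hTp : IsPGroup p T := hS.to_subgroup T
    obtain ⟨y, hyT, hyH, hyN⟩ := exists_normalizer_mem_not_mem hTp hHT hHne
    obtain ⟨b, hb, a, ha, rfl⟩ := mem_sup_of_le_normalizer hAB hyT
    have haH : a ∈ H := (le_sup_left : A ≤ H) ha
    have hbnorm : b ∈ normalizer (H : Set S) := by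
      have : b = (b * a) * a⁻¹ := by group
      rw [this]
      exact Subgroup.mul_mem _ hyN (Subgroup.inv_mem _ (Subgroup.le_normalizer haH))
    have hbH : b ∉ H := fun h => hyH (H.mul_mem h haH)
    refine ⟨b, hb, fun h => hbH ((le_sup_right : N ≤ H) h), ?_⟩
    intro a' ha'
    have h1 : b * a' * b⁻¹ ∈ H :=
      (Subgroup.mem_normalizer_iff.mp hbnorm a').mp ((le_sup_left : A ≤ H) ha')
    have h2 : ⁅b, a'⁆ ∈ H := by
      rw [commutatorElement_def]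
      exact H.mul_mem h1 (H.inv_mem ((le_sup_left : A ≤ H) ha'))
    have h3 : ⁅b, a'⁆ ∈ B := by
      have : ⁅b, a'⁆ = b * (a' * b⁻¹ * a'⁻¹) := by rw [commutatorElement_def]; group
      rw [this]
      exact B.mul_mem hb (hconjB a' ha' _ (B.inv_mem hb))
    exact hdedekind _ h2 h3
  have hxcommB : ∀ a ∈ A, ⁅x, a⁆ ∈ B := fun a ha => hNB (hxcomm a ha)
  -- Step 3
  set M : Subgroup S := Subgroup.closure {y | ∃ a ∈ A, y = ⁅x, a⁆} with hM
  have hMN : M ≤ N := by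
    rw [hM, Subgroup.closure_le]
    rintro _ ⟨a, ha, rfl⟩
    exact hxcomm a ha
  have hMB : M ≤ B := hMN.trans hNB
  set C : Subgroup S := A ⊓ centralizer (M : Set S) with hC
  set A' : Subgroup S := M ⊔ C with hA'
  -- Step 4: A' abelian
  have hA'c : IsMulCommutative A' := by
    rw [hA', Subgroup.sup_eq_closure]
    apply Subgroup.isMulCommutative_closure
    rintro u (hu | hu) v (hv | hv)
    · exact comm_of_isMulCommutative hB (hMB hu) (hMB hv)
    · exact (hv.2 u hu)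
    · exact (hu.2 v hv).symm
    · exact comm_of_isMulCommutative hAc hu.1 hv.1
  -- the key identity
  have hident : ∀ a ∈ A, ∀ k ∈ A, ∃ z ∈ Z, ⁅x, a⁆⁻¹ * ⁅x, a * k⁆ = ⁅x, k⁆ * z := by
    intro a ha k hk
    refine ⟨⁅x, k⁆⁻¹ * (a * ⁅x, k⁆ * a⁻¹), ⟨?_, ?_⟩, ?_⟩
    · have h1 : ⁅x, k⁆⁻¹ * a * ⁅x, k⁆⁻¹⁻¹ ∈ A := hconjA _ (N.inv_mem (hxcomm k hk)) a ha
      have : ⁅x, k⁆⁻¹ * (a * ⁅x, k⁆ * a⁻¹) = (⁅x, k⁆⁻¹ * a * ⁅x, k⁆⁻¹⁻¹) * a⁻¹ := by group
      rw [this]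
      exact A.mul_mem h1 (A.inv_mem ha)
    · exact B.mul_mem (B.inv_mem (hxcommB k hk)) (hconjB a ha _ (hxcommB k hk))
    · simp only [commutatorElement_def]; group
  -- Step 5: index bound
  have hsep : ∀ a a' : A, ((a : S)⁻¹ * (a' : S) ∈ C) ∨ ¬ (⁅x, (a : S)⁆⁻¹ * ⁅x, (a' : S)⁆ ∈ Z) := by
    intro a a'
    by_cases hz : ⁅x, (a : S)⁆⁻¹ * ⁅x, (a' : S)⁆ ∈ Z
    · left
      set k : S := (a : S)⁻¹ * (a' : S) with hk
      have hkA : k ∈ A := A.mul_mem (A.inv_mem a.2) a'.2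
      have ha' : (a' : S) = (a : S) * k := by rw [hk]; group
      obtain ⟨z, hz', hzeq⟩ := hident a a.2 k hkA
      rw [← ha'] at hzeq
      have hxkZ : ⁅x, k⁆ ∈ Z := by
        have : ⁅x, k⁆ = (⁅x, (a : S)⁆⁻¹ * ⁅x, (a' : S)⁆) * z⁻¹ := by rw [hzeq]; group
        rw [this]; exact Z.mul_mem hz (Z.inv_mem hz')
      refine Subgroup.mem_inf.mpr ⟨hkA, ?_⟩
      rw [hM, Subgroup.centralizer_closure, Subgroup.mem_centralizer_iff]
      rintro _ ⟨a₁, ha₁, rfl⟩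
      -- k commutes with ⁅x, a₁⁆
      have h1 : k * a₁ = a₁ * k := comm_of_isMulCommutative hAc hkA ha₁
      set z' := ⁅x, k⁆ with hz'def
      have hz'A : ∀ a ∈ A, z' * a = a * z' := hZA z' hxkZ
      have hz'B : ∀ b ∈ B, z' * b = b * z' := hZB z' hxkZ
      -- k x k⁻¹ = z'⁻¹ x
      have h2 : k * x * k⁻¹ = z'⁻¹ * x := by
        rw [hz'def, commutatorElement_def]; group
      have h3 : k * ⁅x, a₁⁆ * k⁻¹ = ⁅x, a₁⁆ := by
        have e1 : k * ⁅x, a₁⁆ * k⁻¹ = (k * x * k⁻¹) * (k * a₁ * k⁻¹) * (k * x * k⁻¹)⁻¹ * (k * a₁ * k⁻¹)⁻¹ := by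
          rw [commutatorElement_def]; group
        have e2 : k * a₁ * k⁻¹ = a₁ := by rw [h1]; group
        rw [e1, e2, h2]
        have e3 : z'⁻¹ * x * a₁ * (z'⁻¹ * x)⁻¹ * a₁⁻¹ = z'⁻¹ * ⁅x, a₁⁆ * (a₁ * z' * a₁⁻¹) := by
          rw [commutatorElement_def]; group
        rw [e3]
        have e4 : a₁ * z' * a₁⁻¹ = z' := by rw [← hz'A a₁ ha₁]; group
        rw [e4]
        have e5 : z' * ⁅x, a₁⁆ = ⁅x, a₁⁆ * z' := hz'B _ (hxcommB a₁ ha₁)
        calc z'⁻¹ * ⁅x, a₁⁆ * z' = z'⁻¹ * (⁅x, a₁⁆ * z') := by group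
          _ = z'⁻¹ * (z' * ⁅x, a₁⁆) := by rw [e5]
          _ = ⁅x, a₁⁆ := by group
      calc ⁅x, a₁⁆ * k = (k * ⁅x, a₁⁆ * k⁻¹) * k := by rw [h3]
        _ = k * ⁅x, a₁⁆ := by group
    · right; exact hz
  have hCA : C ≤ A := inf_le_left
  have hindex : C.relIndex A ≤ (M ⊓ Z).relIndex M := by
    unfold Subgroup.relIndex
    rw [Subgroup.index_eq_card ((M ⊓ Z).subgroupOf M)]
    apply relIndex_le_card_of_separating
      (fun a : A => (QuotientGroup.mk (⟨⁅x, (a : S)⁆,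
        Subgroup.subset_closure ⟨a, a.2, rfl⟩⟩ : M) : M ⧸ (M ⊓ Z).subgroupOf M))
    intro a a' haa'
    rw [QuotientGroup.eq, Subgroup.mem_subgroupOf] at haa'
    rcases hsep a a' with h | h
    · exact h
    · exfalso
      apply h
      have : ((⟨⁅x, (a : S)⁆, Subgroup.subset_closure ⟨a, a.2, rfl⟩⟩ : M)⁻¹ *
          (⟨⁅x, (a' : S)⁆, Subgroup.subset_closure ⟨a', a'.2, rfl⟩⟩ : M) : M).1 =
          ⁅x, (a : S)⁆⁻¹ * ⁅x, (a' : S)⁆ := rfl
      rw [this] at haa'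
      exact haa'.2
  have hcard : Nat.card A ≤ Nat.card A' := by
    have h1 : Nat.card A = Nat.card C * C.relIndex A := card_eq_card_mul_relIndex hCA
    have h2 : Nat.card M = Nat.card ↥(M ⊓ Z) * (M ⊓ Z).relIndex M :=
      card_eq_card_mul_relIndex inf_le_left
    have h3 : Nat.card M * Nat.card C ≤ Nat.card A' * Nat.card ↥(M ⊓ C) :=
      card_mul_card_le_sup_mul_inf M C
    have h4 : Nat.card ↥(M ⊓ C) ≤ Nat.card ↥(M ⊓ Z) := by
      apply Subgroup.card_le_of_le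
      intro y hy
      exact ⟨hy.1, hy.2.1, hMB hy.1⟩
    have hpos : 0 < Nat.card ↥(M ⊓ Z) := Nat.card_pos
    have h5 : Nat.card A * Nat.card ↥(M ⊓ Z) ≤ Nat.card A' * Nat.card ↥(M ⊓ Z) := by
      calc Nat.card A * Nat.card ↥(M ⊓ Z)
          = Nat.card C * C.relIndex A * Nat.card ↥(M ⊓ Z) := by rw [h1]
        _ ≤ Nat.card C * (M ⊓ Z).relIndex M * Nat.card ↥(M ⊓ Z) :=
            Nat.mul_le_mul_right _ (Nat.mul_le_mul_left _ hindex)
        _ = Nat.card M * Nat.card C := by rw [h2]; ring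
        _ ≤ Nat.card A' * Nat.card ↥(M ⊓ C) := h3
        _ ≤ Nat.card A' * Nat.card ↥(M ⊓ Z) := Nat.mul_le_mul_left _ h4
    exact Nat.le_of_mul_le_mul_right h5 hpos
  have hA'max : A' ∈ Cfsg.maxAbelianSubgroups S :=
    ⟨hA'c, fun B' hB' => (hA.2 B' hB').trans hcard⟩
  refine ⟨A', hA'max, ?_, ?_, ?_⟩
  · -- strict inclusion
    have hZC : Z ≤ C := by
      intro z hz
      refine Subgroup.mem_inf.mpr ⟨hz.1, ?_⟩
      rw [Subgroup.mem_centralizer_iff]
      intro m hm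
      exact (hZB z hz m (hMB hm)).symm
    have hle : A ⊓ B ≤ A' ⊓ B := le_inf (hZC.trans le_sup_right) inf_le_right
    refine lt_of_le_of_ne hle ?_
    intro heq
    apply hxN
    refine ⟨hxB, ?_⟩
    apply Subgroup.mem_normalizer_fintype
    intro a ha
    have h1 : ⁅x, a⁆ ∈ A' ⊓ B := ⟨(le_sup_left : M ≤ A') (Subgroup.subset_closure ⟨a, ha, rfl⟩),
      hxcommB a ha⟩
    rw [← heq] at h1
    have : x * a * x⁻¹ = ⁅x, a⁆ * a := by rw [commutatorElement_def]; group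
    rw [this]
    exact A.mul_mem h1.1 ha
  · exact sup_le (hMN.trans hNnorm) (hCA.trans Subgroup.le_normalizer)
  · apply sup_le
    · rw [hM, Subgroup.closure_le]
      rintro _ ⟨a, ha, rfl⟩
      have h1 : a ∈ Subgroup.normalClosure (A : Set S) := Subgroup.le_normalClosure ha
      have h2 : x * a * x⁻¹ ∈ Subgroup.normalClosure (A : Set S) :=
        Subgroup.normalClosure_normal.conj_mem a h1 x
      rw [SetLike.mem_coe, commutatorElement_def]
      exact Subgroup.mul_mem _ h2 (Subgroup.inv_mem _ h1)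
    · exact hCA.trans Subgroup.le_normalClosure

end Cfsg.Agent.Lib.Helper58
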